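import Cfsg.Agent.Lib.Perm.Trans.FourLines.Mono

/-!
# Monomial groups in five dimensions

Modulo scalars the monomial group contains pseudo-reflections whose eigenvalue is a fifth power.  Their conjugates
under a non-monomial element give a transvection, unless a column is a multiple of a coordinate vector.
-/

set_option autoImplicit false
set_option linter.all false

namespace CfsgLib.Perm.Trans.FiveDim

open scoped Matrix
open Matrix Cfsg.Geo CfsgLib.Perm.Asch CfsgLib.Perm.Trans CfsgLib.Perm.LinDecomp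

variable {ι : Type} [Fintype ι] [DecidableEq ι] {F : Type*} [Field F]

/-- the pseudo-reflection at `(u, α)` with eigenvalue `z` is in `M` -/
def Pr (M : Subgroup (GL ι F)) (z : Fˣ) (u α : ι → F) : Prop :=
  α ⬝ᵥ u = 1 ∧ ∃ R ∈ M, ∀ x, (R : Matrix ι ι F) *ᵥ x = x + (((z : F) - 1) * (α ⬝ᵥ x)) • u

/-- the monomial elements whose determinant is a fifth power up to sign are in `M` -/
def MonFifth (M : Subgroup (GL ι F)) : Prop :=
  ∀ (σ : Equiv.Perm ι) (d : ι → Fˣ), (∃ b : Fˣ, ∏ i, d i = b ^ 5) → (mon σ d : GL ι F) ∈ M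

variable {M : Subgroup (GL ι F)} {z : Fˣ} {u α u' α' : ι → F}

theorem monFifth_SL (hN : MonFifth M) (σ : Equiv.Perm ι) (d : ι → Fˣ)
    (h : (mon σ d : GL ι F) ∈ specialLinear ι F) : mon σ d ∈ M := by
  refine hN σ d ?_
  have h1 := congrArg Units.val (show Matrix.GeneralLinearGroup.det (mon σ d : GL ι F) = 1 from h)
  rw [Matrix.GeneralLinearGroup.val_det_apply, det_mon, Units.val_one] at h1
  rcases Int.units_eq_one_or (Equiv.Perm.sign σ) with hs | hs <;> rw [hs] at h1
  · exact ⟨1, Units.ext (by simpa [Units.coe_prod] using h1)⟩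
  · refine ⟨-1, Units.ext ?_⟩
    simp only [Units.val_neg, Units.val_one, Int.cast_neg, Int.cast_one, Units.coe_prod] at h1
    rw [Units.coe_prod, Units.val_pow_eq_pow_val, Units.val_neg, Units.val_one]
    linear_combination -h1

theorem Pr.conj (h : Pr M z u α) {g : GL ι F} (hg : g ∈ M) :
    Pr M z ((g : Matrix ι ι F) *ᵥ u) (α ᵥ* ((g⁻¹ : GL ι F) : Matrix ι ι F)) := by
  obtain ⟨hαu, R, hR, hRx⟩ := h
  refine ⟨by rw [← dotProduct_mulVec, gl_inv_mulVec, hαu], g * R * g⁻¹,
    M.mul_mem (M.mul_mem hg hR) (M.inv_mem hg), fun x => ?_⟩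
  rw [gl_mul_mulVec, gl_mul_mulVec, hRx, Matrix.mulVec_add, gl_mulVec_inv, Matrix.mulVec_smul, ← dotProduct_mulVec]

/-- a transvection from two pseudo-reflections -/
theorem Pr.has (h : Pr M z u α) (h' : Pr M z u' α') (h0 : α' ⬝ᵥ u = 0) :
    Has M u ((((z : F) - 1) * ((z : F) - 1) * (α ⬝ᵥ u') / z) • α') := by
  obtain ⟨hαu, R, hR, hRx⟩ := h
  obtain ⟨hαu', R', hR', hRx'⟩ := h'
  obtain ⟨K, hK⟩ : ∃ K, K = ((z : F) - 1) * ((z : F) - 1) * (α ⬝ᵥ u') / z := ⟨_, rfl⟩
  rw [← hK]
  have horth : K • α' ⬝ᵥ u = 0 := by rw [smul_dotProduct, h0, smul_zero]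
  refine ⟨horth, ?_⟩
  have : tv u (K • α') horth * (R' * R) = R * R' := gl_ext_vec fun x => funext fun k => by
    have hKz : (z : F) * K = ((z : F) - 1) * ((z : F) - 1) * (α ⬝ᵥ u') := by rw [hK, mul_div_cancel₀ _ z.ne_zero]
    simp only [gl_mul_mulVec, tv_mulVec, hRx, hRx', smul_dotProduct, dotProduct_add, dotProduct_smul,
      hαu', h0, Pi.add_apply, Pi.smul_apply, smul_eq_mul, zero_mul, mul_zero, add_zero, mul_one, zero_add]
    linear_combination (α' ⬝ᵥ x) * u k * hKz
  rw [eq_mul_inv_of_mul_eq this]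
  exact M.mul_mem (M.mul_mem hR hR') (M.inv_mem (M.mul_mem hR' hR))

/-- conjugating one pseudo-reflection by another -/
theorem Pr.grow (h : Pr M z u α) (h' : Pr M z u' α') :
    Pr M z (u + (((z : F) - 1) * (α' ⬝ᵥ u)) • u') (α + (((z : F)⁻¹ - 1) * (α ⬝ᵥ u')) • α') := by
  obtain ⟨hαu', R', hR', hRx'⟩ := h'
  have h2 := h.conj hR'
  have hinv : ∀ x, ((R'⁻¹ : GL ι F) : Matrix ι ι F) *ᵥ x = x + (((z : F)⁻¹ - 1) * (α' ⬝ᵥ x)) • u' := by
    intro x
    have : (R' : Matrix ι ι F) *ᵥ (x + (((z : F)⁻¹ - 1) * (α' ⬝ᵥ x)) • u') = x := by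
      funext k
      have hz := z.ne_zero
      simp only [hRx', dotProduct_add, dotProduct_smul, hαu', Pi.add_apply, Pi.smul_apply, smul_eq_mul, mul_one]
      field_simp
      ring
    conv_lhs => rw [← this, gl_inv_mulVec]
  have e1 : (R' : Matrix ι ι F) *ᵥ u = u + (((z : F) - 1) * (α' ⬝ᵥ u)) • u' := hRx' u
  have e2 : α ᵥ* ((R'⁻¹ : GL ι F) : Matrix ι ι F) = α + (((z : F)⁻¹ - 1) * (α ⬝ᵥ u')) • α' := funext fun k => by
    have e3 : (α ᵥ* ((R'⁻¹ : GL ι F) : Matrix ι ι F)) ⬝ᵥ Pi.single k 1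
        = (α + (((z : F)⁻¹ - 1) * (α ⬝ᵥ u')) • α') ⬝ᵥ Pi.single k 1 := by
      rw [← dotProduct_mulVec, hinv, dotProduct_add, dotProduct_smul, add_dotProduct, smul_dotProduct, smul_eq_mul,
        smul_eq_mul]
      ring
    simpa only [dotProduct_single, mul_one] using e3
  rwa [e1, e2] at h2

theorem Pr.move (hN : MonFifth M) (h : Pr M z u α) (π : Equiv.Perm ι) (d : ι → Fˣ)
    (hd : ∃ b : Fˣ, ∏ i, d i = b ^ 5) :
    ∃ u' α', Pr M z u' α' ∧ ∀ x, u' (π x) = d x * u x ∧ α' (π x) = α x * (d x : F)⁻¹ := by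
  refine ⟨_, _, h.conj (hN π d hd), fun x => ?_⟩
  rw [mon_mulVec, mon_vecMul_inv, Equiv.symm_apply_apply]
  exact ⟨rfl, rfl⟩

theorem Pr.of_single (hN : MonFifth M) (hz : ∃ b : Fˣ, z = b ^ 5) (x : ι) :
    Pr M z (Pi.single x 1) (Pi.single x 1) := by
  classical
  obtain ⟨b, hb⟩ := hz
  refine ⟨by rw [single_dotProduct, Pi.single_eq_same, one_mul], mon 1 (Function.update (fun _ => (1 : Fˣ)) x z),
    hN _ _ ⟨b, by rw [Finset.prod_update_of_mem (Finset.mem_univ x), Finset.prod_const_one, mul_one, hb]⟩,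
    fun y => funext fun k => ?_⟩
  rw [mon_mulVec, single_dotProduct, one_mul, Pi.add_apply, Pi.smul_apply, smul_eq_mul,
    show (1 : Equiv.Perm ι).symm k = k from rfl]
  rcases eq_or_ne k x with rfl | hk
  · rw [Function.update_self, Pi.single_eq_same]; ring
  · rw [Function.update_of_ne hk, Pi.single_eq_of_ne hk, Units.val_one]; ring

/-- a transvection whose axis has three zeros, one of them off the hyperplane, gives all -/
theorem fullSub_of_axis (hN : ∀ (σ : Equiv.Perm ι) (d : ι → Fˣ),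
      (mon σ d : GL ι F) ∈ specialLinear ι F → mon σ d ∈ M) {ν : Fˣ} (hν : ν ≠ 1) {x ψ : ι → F} (h : Has M x ψ)
    (hψ : ψ ≠ 0) {a b c : ι} (hab : a ≠ b) (hca : c ≠ a) (hcb : c ≠ b) (hψa : ψ a = 0) (hψb : ψ b = 0)
    (hψc : ψ c = 0) (hxa : x a ≠ 0) : fullSub M = ⊤ := by
  classical
  have h1 := h.conj (show (tor a b ν : GL ι F) ∈ M from hN _ _ (tor_mem_SL hab ν))
  rw [show ψ ᵥ* (((tor a b ν : GL ι F)⁻¹ : GL ι F) : Matrix ι ι F) = ψ from funext fun k => by
    rw [tor_vecMul_inv hab]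
    split_ifs with e1 e2
    · rw [e1, hψa, mul_zero]
    · rw [e2, hψb, mul_zero]
    · rw [one_mul]] at h1
  have h2 : Has M ((-1 : F) • x) ψ := (has_smul_iff x ψ).2 (by rw [neg_one_smul]; exact h.neg)
  refine fullSub_of_transvection hN hν (h1.add_left h2) (i := a) (l := c) hca ?_ hψa hψ ?_ hψc
  · rw [Pi.add_apply, Pi.smul_apply, tor_mulVec hab, if_pos rfl, smul_eq_mul]
    have e : (ν : F) * x a + (-1) * x a = ((ν : F) - 1) * x a := by ring
    rw [e]
    exact mul_ne_zero (sub_ne_zero.2 fun e => hν (Units.ext e)) hxa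
  · rw [Pi.add_apply, Pi.smul_apply, tor_mulVec hab, if_neg hca, if_neg hcb, smul_eq_mul]
    ring

/-- the pseudo-reflection is one-sided somewhere -/
theorem fullSub_of_one_sided (hN : MonFifth M) (hn : 4 ≤ Fintype.card ι) (hz : z ≠ 1) (hz5 : ∃ b : Fˣ, z = b ^ 5)
    (h : Pr M z u α) {x : ι} (hx : (u x ≠ 0 ∧ α x = 0) ∨ (u x = 0 ∧ α x ≠ 0)) : fullSub M = ⊤ := by
  classical
  have hx' := Pr.of_single hN hz5 x
  have hz1 : (z : F) - 1 ≠ 0 := sub_ne_zero.2 fun e => hz (Units.ext e)
  have hK : ∀ t : F, t ≠ 0 → ((z : F) - 1) * ((z : F) - 1) * t / z ≠ 0 := fun t ht =>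
    div_ne_zero (mul_ne_zero (mul_ne_zero hz1 hz1) ht) z.ne_zero
  rcases hx with ⟨hu, hα⟩ | ⟨hu, hα⟩
  · have h1 := hx'.has h (by rw [dotProduct_single, hα, zero_mul])
    rw [single_dotProduct, one_mul] at h1
    refine fullSub_of_centre (monFifth_SL hN) hn hz h1 fun e => ?_
    rcases smul_eq_zero.1 e with e | e
    · exact hK _ hu e
    · exact one_ne_zero (h.1.symm.trans (by rw [e, zero_dotProduct]))
  · have h1 := h.has hx' (by rw [single_dotProduct, hu, mul_zero])
    rw [dotProduct_single, mul_one] at h1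
    obtain ⟨a, ha⟩ : ∃ a, u a ≠ 0 := by
      by_contra hcon
      push Not at hcon
      exact one_ne_zero (h.1.symm.trans (by rw [show u = 0 from funext hcon, dotProduct_zero]))
    have hax : a ≠ x := fun e => ha (e ▸ hu)
    obtain ⟨b, -, hb⟩ := Finset.exists_mem_notMem_of_card_lt_card (s := ({x, a} : Finset ι)) (t := Finset.univ)
      (lt_of_le_of_lt Finset.card_le_two (by rw [Finset.card_univ]; omega))
    simp only [Finset.mem_insert, Finset.mem_singleton, not_or] at hb
    obtain ⟨c, -, hc⟩ := Finset.exists_mem_notMem_of_card_lt_card (s := ({x, a, b} : Finset ι)) (t := Finset.univ)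
      (lt_of_le_of_lt Finset.card_le_three (by rw [Finset.card_univ]; omega))
    simp only [Finset.mem_insert, Finset.mem_singleton, not_or] at hc
    have h0 : ∀ k, k ≠ x → ((((z : F) - 1) * ((z : F) - 1) * α x / z) • (Pi.single x 1 : ι → F)) k = 0 :=
      fun k hk => by rw [Pi.smul_apply, Pi.single_eq_of_ne hk, smul_zero]
    refine fullSub_of_axis (monFifth_SL hN) hz h1 (fun e => hK _ hα ?_) (Ne.symm hb.2) hc.2.1 hc.2.2
      (h0 a hax) (h0 b hb.1) (h0 c hc.1) ha
    simpa using congrFun e x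

/-- weights with sum zero and a prescribed product modulo fifth powers -/
theorem exists_five_weights [Fintype F] (h5 : 5 ≤ Fintype.card F) (hz : z ≠ 1) (hz5 : ∃ b : Fˣ, z = b ^ 5)
    (A : Fin 5 → F) (hA : ∀ i, A i ≠ 0) (c : Fˣ) :
    ∃ X : Fin 5 → Fˣ, (∑ i, (X i : F)) = 0 ∧ (∑ i, A i / X i) ≠ 0 ∧ (∃ i j, X i ≠ X j) ∧
      ∃ b : Fˣ, c / ∏ i, X i = b ^ 5 := by
  classical
  obtain ⟨t, ht0, ht1, ht⟩ := exists_avoid h5 (b := A 2 + A 3 - A 4) (c := A 3) (hA 2)
  have ht1' : 1 + t ≠ 0 := fun e => ht1 (by linear_combination e)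
  set t0 : Fˣ := Units.mk0 t ht0 with htt
  set t1 : Fˣ := Units.mk0 (1 + t) ht1' with htt1
  set a0 : Fˣ := (c / (t0 * t1)) ^ 2 with ha0
  obtain ⟨w, hw⟩ := hz5
  set T : F := A 2 + A 3 / t - A 4 / (1 + t) with hT
  have hT0 : T ≠ 0 := by
    rw [hT]
    intro e
    field_simp at e
    exact ht (by linear_combination e)
  have hz1 : (z : F) ≠ 1 := fun e => hz (Units.ext e)
  -- one of two scalings gives a non-zero sum
  obtain ⟨v, hv, hv5⟩ : ∃ v : Fˣ, A 0 - A 1 + T / (v : F) ≠ 0 ∧ (v = a0 ∨ v = a0 * z) := by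
    by_cases h0 : A 0 - A 1 + T / (a0 : F) = 0
    · refine ⟨a0 * z, fun e => ?_, Or.inr rfl⟩
      rw [Units.val_mul] at e
      have ha := a0.ne_zero
      have hz0 := z.ne_zero
      field_simp at h0 e
      exact mul_ne_zero (sub_ne_zero.2 hz1) hT0 (by linear_combination z * h0 - e)
    · exact ⟨a0, h0, Or.inl rfl⟩
  refine ⟨![1, -1, v, t0 * v, -(t1 * v)], ?_, ?_, ?_, ?_⟩
  · simp [Fin.sum_univ_five, htt, htt1]
    ring
  · intro e
    refine hv ?_
    simp [Fin.sum_univ_five, htt, htt1] at e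
    rw [← e, hT]
    have := v.ne_zero
    field_simp
    ring
  · by_contra hcon
    push Not at hcon
    have e1 : (1 : F) = -1 := by simpa using congrArg Units.val (hcon 0 1)
    have e2 : ∀ i, ((![1, -1, v, t0 * v, -(t1 * v)] : Fin 5 → Fˣ) i : F) = 1 := fun i => by
      rw [hcon i 0]; simp
    have h3 : (v : F) = 1 := by simpa using e2 2
    have h4 : (t : F) * v = 1 := by simpa [htt] using e2 3
    have h6 : -((1 + t) * (v : F)) = 1 := by simpa [htt1] using e2 4
    exact one_ne_zero (show (1 : F) = 0 by linear_combination -e1 - h6 - h4 - h3)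
  · have hp : ∏ i, (![1, -1, v, t0 * v, -(t1 * v)] : Fin 5 → Fˣ) i = t0 * t1 * v ^ 3 := by
      rw [Fin.prod_univ_five]
      refine Units.ext ?_
      simp
      ring
    rw [hp]
    rcases hv5 with rfl | rfl
    · refine ⟨(c / (t0 * t1))⁻¹, ?_⟩
      rw [ha0, ← pow_mul, inv_pow, div_mul_eq_div_div, div_eq_mul_inv (c / (t0 * t1))]
      group
    · refine ⟨(c / (t0 * t1))⁻¹ * (w⁻¹) ^ 3, ?_⟩
      rw [ha0, hw, mul_pow, ← pow_mul, ← pow_mul, mul_pow, ← pow_mul, inv_pow, inv_pow,
        ← mul_assoc (t0 * t1), div_mul_eq_div_div, div_mul_eq_div_div, div_eq_mul_inv _ (w ^ (5 * 3)),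
        div_eq_mul_inv (c / (t0 * t1))]
      group

/-- at least three positions -/
theorem fullSub_of_three [Fintype F] (hN : MonFifth M) (hι : Fintype.card ι = 5) (h5 : 5 ≤ Fintype.card F)
    (hz : z ≠ 1) (hz5 : ∃ b : Fˣ, z = b ^ 5) (h : Pr M z u α) {W : Finset ι}
    (hW : ∀ x, x ∉ W → u x = 0 ∧ α x = 0) (hWne : ∀ x ∈ W, u x ≠ 0 ∧ α x ≠ 0) (h3 : 3 ≤ W.card) :
    fullSub M = ⊤ := by
  classical
  have hP : ∀ p ∈ W, α p * u p ≠ 0 := fun p hp => mul_ne_zero (hWne p hp).2 (hWne p hp).1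
  set a : ι → F := fun p => if p ∈ W then (α p * u p) ^ 2 else 1 with ha
  have ha0 : ∀ p, a p ≠ 0 := fun p => by
    simp only [ha]
    split_ifs with hp
    · exact pow_ne_zero 2 (hP p hp)
    · exact one_ne_zero
  set Pu : ι → Fˣ := fun p => if hp : p ∈ W then Units.mk0 (α p * u p) (hP p hp) else 1 with hPu
  obtain ⟨X, hXs, hXi, ⟨i, hi, j, hj, hXij⟩, d, hd, b, hb⟩ :
      ∃ X : ι → F, (∑ p ∈ W, X p) = 0 ∧ (∑ p ∈ W, a p / X p) ≠ 0 ∧ (∃ i ∈ W, ∃ j ∈ W, X i ≠ X j) ∧
        ∃ d : ι → Fˣ, (∀ p ∈ W, (d p : F) * X p = α p * u p) ∧ ∃ b : Fˣ, ∏ p, d p = b ^ 5 := by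
    by_cases hu : W = Finset.univ
    · have e : Fin 5 ≃ ι := (Fintype.equivFinOfCardEq hι).symm
      obtain ⟨X, hs, hi, ⟨i, j, hij⟩, b, hb⟩ :=
        exists_five_weights h5 hz hz5 (fun k => a (e k)) (fun k => ha0 _) (∏ p, Pu p)
      refine ⟨fun p => (X (e.symm p) : F), ?_, ?_, ⟨e i, hu ▸ Finset.mem_univ _, e j, hu ▸ Finset.mem_univ _,
        by simpa using fun e => hij (Units.ext e)⟩, fun p => Pu p / X (e.symm p), fun p hp => ?_, b, ?_⟩
      · rw [hu, ← hs]
        exact (e.sum_comp fun p => (X (e.symm p) : F)).symm.trans (by simp)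
      · rw [hu, ← e.sum_comp fun p => a p / (X (e.symm p) : F)]
        simpa using hi
      · simp [hPu, dif_pos hp]
      · rw [Finset.prod_div_distrib, ← hb, ← e.symm.prod_comp X]
    · obtain ⟨x₀, hx₀⟩ : ∃ x, x ∉ W := by
        by_contra hcon
        push Not at hcon
        exact hu (Finset.eq_univ_of_forall hcon)
      obtain ⟨X, hX0, hs, hi, i, hiW, j, hjW, hij⟩ := exists_weights h5 W h3 (a := a) fun p _ => ha0 p
      set d : ι → Fˣ := fun p => Pu p / Units.mk0 (X p) (hX0 p) with hd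
      refine ⟨X, hs, hi, ⟨i, hiW, j, hjW, hij⟩,
        Function.update d x₀ (∏ p ∈ Finset.univ \ {x₀}, d p)⁻¹, fun p hp => ?_, 1, ?_⟩
      · rw [Function.update_of_ne (fun e : p = x₀ => hx₀ (e ▸ hp))]
        have := hX0 p
        simp [hd, hPu, dif_pos hp, this]
      · rw [Finset.prod_update_of_mem (Finset.mem_univ x₀), inv_mul_cancel, one_pow]
  obtain ⟨u', α', h', hmv⟩ := h.move hN 1 d ⟨b, hb⟩
  have hαW : ∀ p ∈ W, α' p * u p = X p := fun p hp => by
    have e : α' p = α p * (d p : F)⁻¹ := (hmv p).2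
    rw [e]
    have := (d p).ne_zero
    field_simp
    linear_combination -(hd p hp)
  have hX0 : ∀ p ∈ W, X p ≠ 0 := fun p hp e => hP p hp (by rw [← hd p hp, e, mul_zero])
  have hs : α' ⬝ᵥ u = 0 := by
    rw [dotProduct, ← Finset.sum_subset (Finset.subset_univ W) fun x _ hx => by rw [(hW x hx).1, mul_zero],
      Finset.sum_congr rfl hαW, hXs]
  have hs' : α ⬝ᵥ u' ≠ 0 := by
    rw [dotProduct, ← Finset.sum_subset (Finset.subset_univ W) fun x _ hx => by rw [(hW x hx).2, zero_mul],
      Finset.sum_congr rfl (g := fun p => a p / X p) fun p hp => by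
        have e : u' p = d p * u p := (hmv p).1
        have := hX0 p hp
        rw [e, ha]
        simp only [if_pos hp]
        field_simp
        linear_combination (α p * u p) * hd p hp]
    exact hXi
  have hz1 : (z : F) - 1 ≠ 0 := sub_ne_zero.2 fun e => hz (Units.ext e)
  have hT := h.has h' hs
  obtain ⟨K, hK⟩ : ∃ K, K = ((z : F) - 1) * ((z : F) - 1) * (α ⬝ᵥ u') / z := ⟨_, rfl⟩
  rw [← hK] at hT
  have hK0 : K ≠ 0 := hK ▸ div_ne_zero (mul_ne_zero (mul_ne_zero hz1 hz1) hs') z.ne_zero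
  -- exchange two positions fixing the centre
  have hij : i ≠ j := fun e => hXij (e ▸ rfl)
  set e : ι → Fˣ := Function.update (Function.update (fun _ => (1 : Fˣ)) i
    (Units.mk0 (u j / u i) (div_ne_zero (hWne j hj).1 (hWne i hi).1))) j
    (Units.mk0 (u i / u j) (div_ne_zero (hWne i hi).1 (hWne j hj).1)) with he
  have hy : (mon (Equiv.swap i j) e : GL ι F) ∈ M := by
    refine hN _ _ ⟨1, Units.ext ?_⟩
    rw [he, Finset.prod_update_of_mem (Finset.mem_univ j), Finset.prod_update_of_mem (by simp [hij]),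
      Finset.prod_const_one, mul_one]
    have := (hWne i hi).1
    have := (hWne j hj).1
    simp
    field_simp
  have hel : ∀ m, m ≠ i → m ≠ j → e m = 1 := fun m h1 h2 => by
    rw [he, Function.update_of_ne h2, Function.update_of_ne h1]
  have hei : (e i : F) = u j / u i := by
    rw [he, Function.update_of_ne hij, Function.update_self]; rfl
  have hej : (e j : F) = u i / u j := by rw [he, Function.update_self]; rfl
  have hyu : ((mon (Equiv.swap i j) e : GL ι F) : Matrix ι ι F) *ᵥ u = u := funext fun m => by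
    rw [mon_mulVec, Equiv.symm_swap]
    have := (hWne i hi).1
    have := (hWne j hj).1
    rcases eq_or_ne m i with rfl | hmi
    · rw [Equiv.swap_apply_left, hej]; field_simp
    rcases eq_or_ne m j with rfl | hmj
    · rw [Equiv.swap_apply_right, hei]; field_simp
    rw [Equiv.swap_apply_of_ne_of_ne hmi hmj, hel m hmi hmj, Units.val_one, one_mul]
  have h2 := hT.conj hy
  rw [hyu] at h2
  obtain ⟨k, hk, hkX⟩ := Finset.exists_mem_notMem_of_card_lt_card (s := {i, j}) (t := W)
    (lt_of_le_of_lt Finset.card_le_two (by omega))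
  simp only [Finset.mem_insert, Finset.mem_singleton, not_or] at hkX
  obtain ⟨m, -, hm⟩ := Finset.exists_mem_notMem_of_card_lt_card (s := ({i, j, k} : Finset ι)) (t := Finset.univ)
    (lt_of_le_of_lt Finset.card_le_three (by rw [Finset.card_univ]; omega))
  simp only [Finset.mem_insert, Finset.mem_singleton, not_or] at hm
  obtain ⟨n, -, hn⟩ := Finset.exists_mem_notMem_of_card_lt_card (s := ({i, j, k, m} : Finset ι)) (t := Finset.univ)
    (lt_of_le_of_lt Finset.card_le_four (by rw [Finset.card_univ]; omega))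
  simp only [Finset.mem_insert, Finset.mem_singleton, not_or] at hn
  have hψ0 : ∀ x, x ≠ i → x ≠ j →
      ((K • α') ᵥ* (((mon (Equiv.swap i j) e : GL ι F)⁻¹ : GL ι F) : Matrix ι ι F) + -(K • α')) x = 0 :=
    fun x h1 h2 => by
      rw [Pi.add_apply, Pi.neg_apply, mon_vecMul_inv, Equiv.symm_swap, Equiv.swap_apply_of_ne_of_ne h1 h2,
        hel x h1 h2, Units.val_one, inv_one, mul_one, add_neg_cancel]
  refine fullSub_of_axis (monFifth_SL hN) hz (h2.add_right hT.neg) (fun e0 => ?_) (a := k) (b := m) (c := n)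
    (Ne.symm hm.2.2) hn.2.2.1 hn.2.2.2 (hψ0 k hkX.1 hkX.2) (hψ0 m hm.1 hm.2.1) (hψ0 n hn.1 hn.2.1) (hWne k hk).1
  have e1 := congrFun e0 i
  rw [Pi.add_apply, Pi.neg_apply, mon_vecMul_inv, Equiv.symm_swap, Equiv.swap_apply_left, hej, Pi.smul_apply,
    Pi.smul_apply, Pi.zero_apply, smul_eq_mul, smul_eq_mul, inv_div] at e1
  refine mul_ne_zero hK0 (sub_ne_zero.2 hXij.symm) ?_
  rw [← hαW i hi, ← hαW j hj]
  have := (hWne i hi).1
  field_simp at e1
  linear_combination e1

/-- two positions grow unless both products are one and the same exceptional value -/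
theorem fullSub_of_two [Fintype F] (hN : MonFifth M) (hι : Fintype.card ι = 5) (h5 : 5 ≤ Fintype.card F)
    (hz : z ≠ 1) (hz5 : ∃ b : Fˣ, z = b ^ 5) (h : Pr M z u α) {r q : ι} (hrq : r ≠ q)
    (hW : ∀ x, x ≠ r → x ≠ q → u x = 0 ∧ α x = 0) (hur : u r ≠ 0) (hαr : α r ≠ 0) (huq : u q ≠ 0) (hαq : α q ≠ 0) :
    fullSub M = ⊤ ∨ 1 + ((z : F) - 1) * (α r * u r) = 0 := by
  classical
  obtain ⟨t, -, ht⟩ := Finset.exists_mem_notMem_of_card_lt_card (s := ({r, q} : Finset ι)) (t := Finset.univ)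
    (lt_of_le_of_lt Finset.card_le_two (by rw [Finset.card_univ]; omega))
  simp only [Finset.mem_insert, Finset.mem_singleton, not_or] at ht
  obtain ⟨u', α', h', hmv⟩ := h.move hN (Equiv.swap q t) (fun _ => 1) ⟨1, by simp⟩
  have hsw : ∀ x, u' x = u (Equiv.swap q t x) ∧ α' x = α (Equiv.swap q t x) := fun x => by
    obtain ⟨e1, e2⟩ := hmv (Equiv.swap q t x)
    rw [Equiv.swap_apply_self] at e1 e2
    exact ⟨by simpa using e1, by simpa using e2⟩
  have er : Equiv.swap q t r = r := Equiv.swap_apply_of_ne_of_ne hrq (Ne.symm ht.1)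
  have hother : ∀ x, x ≠ r → x ≠ t → u' x = 0 ∧ α' x = 0 := fun x h1 h2 => by
    rcases eq_or_ne x q with rfl | h3
    · rw [(hsw x).1, (hsw x).2, Equiv.swap_apply_left]
      exact hW t ht.1 ht.2
    · rw [(hsw x).1, (hsw x).2, Equiv.swap_apply_of_ne_of_ne h3 h2]
      exact hW x h1 h3
  have hs : α ⬝ᵥ u' = α r * u r := by
    rw [dotProduct, Finset.sum_eq_single r, (hsw r).1, er]
    · intro x _ hx
      rcases eq_or_ne x t with rfl | hxt
      · rw [(hW x hx ht.2).2, zero_mul]
      · rw [(hother x hx hxt).1, mul_zero]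
    · simp
  have hs' : α' ⬝ᵥ u = α r * u r := by
    rw [dotProduct, Finset.sum_eq_single r, (hsw r).2, er]
    · intro x _ hx
      rcases eq_or_ne x t with rfl | hxt
      · rw [(hW x hx ht.2).1, mul_zero]
      · rw [(hother x hx hxt).2, zero_mul]
    · simp
  have hP : α r * u r ≠ 0 := mul_ne_zero hαr hur
  have hz1 : (z : F) - 1 ≠ 0 := sub_ne_zero.2 fun e => hz (Units.ext e)
  have hz1' : (z : F)⁻¹ - 1 ≠ 0 := sub_ne_zero.2 fun e => hz (Units.ext (inv_eq_one.1 e))
  have hg := h.grow h'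
  rw [hs, hs'] at hg
  set U : ι → F := u + (((z : F) - 1) * (α r * u r)) • u' with hU
  set A : ι → F := α + (((z : F)⁻¹ - 1) * (α r * u r)) • α' with hA
  by_cases hU0 : 1 + ((z : F) - 1) * (α r * u r) = 0
  · exact Or.inr hU0
  have hUr : U r = u r * (1 + ((z : F) - 1) * (α r * u r)) := by
    simp only [hU, Pi.add_apply, Pi.smul_apply, smul_eq_mul, (hsw r).1, er]; ring
  have hAr : A r = α r * (1 + ((z : F)⁻¹ - 1) * (α r * u r)) := by
    simp only [hA, Pi.add_apply, Pi.smul_apply, smul_eq_mul, (hsw r).2, er]; ring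
  by_cases hA0 : 1 + ((z : F)⁻¹ - 1) * (α r * u r) = 0
  · exact Or.inl (fullSub_of_one_sided hN (by omega) hz hz5 hg (x := r)
      (Or.inl ⟨by rw [hUr]; exact mul_ne_zero hur hU0, by rw [hAr, hA0, mul_zero]⟩))
  refine Or.inl (fullSub_of_three hN hι h5 hz hz5 hg (W := {r, q, t}) (fun x hx => ?_) (fun x hx => ?_) ?_)
  · simp only [Finset.mem_insert, Finset.mem_singleton, not_or] at hx
    simp only [hU, hA, Pi.add_apply, Pi.smul_apply, smul_eq_mul, (hW x hx.1 hx.2.1).1, (hW x hx.1 hx.2.1).2,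
      (hother x hx.1 hx.2.2).1, (hother x hx.1 hx.2.2).2, mul_zero, add_zero, and_self]
  · simp only [Finset.mem_insert, Finset.mem_singleton] at hx
    rcases hx with rfl | rfl | rfl
    · exact ⟨by rw [hUr]; exact mul_ne_zero hur hU0, by rw [hAr]; exact mul_ne_zero hαr hA0⟩
    · simp only [hU, hA, Pi.add_apply, Pi.smul_apply, smul_eq_mul, (hother x hrq.symm (Ne.symm ht.2)).1,
        (hother x hrq.symm (Ne.symm ht.2)).2, mul_zero, add_zero]
      exact ⟨huq, hαq⟩
    · simp only [hU, hA, Pi.add_apply, Pi.smul_apply, smul_eq_mul, (hW x ht.1 ht.2).1, (hW x ht.1 ht.2).2,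
        (hsw x).1, (hsw x).2, Equiv.swap_apply_right, zero_add]
      exact ⟨mul_ne_zero (mul_ne_zero hz1 hP) huq, mul_ne_zero (mul_ne_zero hz1' hP) hαq⟩
  · rw [Finset.card_insert_of_notMem (by simp [hrq, Ne.symm ht.1]), Finset.card_pair (Ne.symm ht.2)]

/-- without a single column there are transvections -/
theorem fullSub_of_no_line [Fintype F] (hN : MonFifth M) (hι : Fintype.card ι = 5) (h5 : 5 ≤ Fintype.card F)
    (hz : z ≠ 1) (hz5 : ∃ b : Fˣ, z = b ^ 5) {g : GL ι F} (hg : g ∈ M)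
    (hcol : ∀ a k, ∃ j, j ≠ k ∧ (g : Matrix ι ι F) j a ≠ 0) : fullSub M = ⊤ := by
  classical
  by_contra hfull
  set G : Matrix ι ι F := (g : Matrix ι ι F) with hG
  set H : Matrix ι ι F := ((g⁻¹ : GL ι F) : Matrix ι ι F) with hH
  have hPr : ∀ a, Pr M z (fun x => G x a) (fun x => H a x) := fun a => by
    have h1 := (Pr.of_single hN hz5 a).conj hg
    rwa [show G *ᵥ Pi.single a 1 = fun x => G x a from funext fun x => mulVec_single_col _ a x,
      show (Pi.single a 1 : ι → F) ᵥ* H = fun x => H a x from funext fun x => by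
        simp [Matrix.vecMul, single_dotProduct]] at h1
  have hside : ∀ a x, G x a ≠ 0 ↔ H a x ≠ 0 := fun a x => by
    constructor
    · intro h1 h2
      exact hfull (fullSub_of_one_sided hN (by omega) hz hz5 (hPr a) (x := x) (Or.inl ⟨h1, h2⟩))
    · intro h1 h2
      exact hfull (fullSub_of_one_sided hN (by omega) hz hz5 (hPr a) (x := x) (Or.inr ⟨h2, h1⟩))
  set S : ι → Finset ι := fun a => Finset.univ.filter fun x => G x a ≠ 0 with hS
  have hS2 : ∀ a, (S a).card = 2 := fun a => by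
    refine le_antisymm ?_ ?_
    · by_contra hlt
      refine hfull (fullSub_of_three hN hι h5 hz hz5 (hPr a) (W := S a) (fun x hx => ?_) (fun x hx => ?_) (by omega))
      · have hx0 : G x a = 0 := by simpa [hS] using hx
        exact ⟨hx0, by by_contra h2; exact (hside a x).2 h2 hx0⟩
      · have hx0 : G x a ≠ 0 := by simpa [hS] using hx
        exact ⟨hx0, (hside a x).1 hx0⟩
    · obtain ⟨j, -, hj⟩ := hcol a a
      obtain ⟨k, hk, hk0⟩ := hcol a j
      rw [← Finset.card_pair hk.symm]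
      exact Finset.card_le_card fun x hx => by
        rcases Finset.mem_insert.1 hx with rfl | hx
        · simp [hS, hj]
        · rw [Finset.mem_singleton.1 hx]; simp [hS, hk0]
  -- every entry of the exceptional value
  have hval : ∀ a, ∀ x ∈ S a, 1 + ((z : F) - 1) * (H a x * G x a) = 0 := by
    intro a x hx
    obtain ⟨y, hy⟩ := Finset.card_eq_one.1 (show ((S a).erase x).card = 1 by
      rw [Finset.card_erase_of_mem hx, hS2])
    have hyS : y ∈ (S a).erase x := hy ▸ Finset.mem_singleton_self y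
    have hxy : x ≠ y := (Finset.mem_erase.1 hyS).1.symm
    have hx0 : G x a ≠ 0 := by simpa [hS] using hx
    have hy0 : G y a ≠ 0 := by simpa [hS] using (Finset.mem_erase.1 hyS).2
    refine (fullSub_of_two hN hι h5 hz hz5 (hPr a) hxy (fun w h1 h2 => ?_) hx0 ((hside a x).1 hx0) hy0
      ((hside a y).1 hy0)).resolve_left hfull
    have hw0 : G w a = 0 := by
      by_contra hw
      have : w ∈ (S a).erase x := Finset.mem_erase.2 ⟨h1, by simp [hS, hw]⟩
      rw [hy, Finset.mem_singleton] at this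
      exact h2 this
    exact ⟨hw0, by by_contra h2; exact (hside a w).2 h2 hw0⟩
  have hHG : ∀ a b, ∑ x, H a x * G x b = if a = b then 1 else 0 := fun a b => by
    rw [← Matrix.mul_apply, hH, hG, ← Units.val_mul, inv_mul_cancel, Units.val_one, Matrix.one_apply]
  have hGH : ∀ x, ∑ a, G x a * H a x = 1 := fun x => by
    rw [← Matrix.mul_apply, hH, hG, ← Units.val_mul, mul_inv_cancel, Units.val_one, Matrix.one_apply_eq]
  -- two supports meeting are equal
  have hmeet : ∀ a b x, x ∈ S a → x ∈ S b → S a = S b := by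
    intro a b x hxa hxb
    rcases eq_or_ne a b with rfl | hab
    · rfl
    by_contra hne
    have hone : ∀ w, w ∈ S a → w ∈ S b → w = x := by
      intro w hwa hwb
      by_contra hwx
      have hsub : ∀ c, x ∈ S c → w ∈ S c → S c = {x, w} := fun c h1 h2 =>
        (Finset.eq_of_subset_of_card_le (fun v hv => by
          rcases Finset.mem_insert.1 hv with rfl | hv
          · exact h1
          · rw [Finset.mem_singleton.1 hv]; exact h2) (by rw [hS2, Finset.card_pair (Ne.symm hwx)])).symm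
      exact hne ((hsub a hxa hwa).trans (hsub b hxb hwb).symm)
    have h1 := hHG a b
    rw [if_neg hab, Finset.sum_eq_single x] at h1
    · exact mul_ne_zero ((hside a x).1 (by simpa [hS] using hxa)) (by simpa [hS] using hxb) h1
    · intro w _ hw
      by_contra h0
      obtain ⟨h2, h3⟩ := mul_ne_zero_iff.1 h0
      exact hw (hone w (by simpa [hS] using (hside a w).2 h2) (by simpa [hS] using h3))
    · simp
  -- every support belongs to two columns
  have hz1 : (z : F) - 1 ≠ 0 := sub_ne_zero.2 fun e => hz (Units.ext e)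
  have hfib : ∀ a, (Finset.univ.filter fun b => S b = S a).card = 2 := by
    intro a
    obtain ⟨r, q, hrq, hSa⟩ := Finset.card_eq_two.1 (hS2 a)
    set C := Finset.univ.filter fun b => S b = S a with hC
    set P : F := H a r * G r a with hP
    have hvr := hval a r (by rw [hSa]; simp)
    have hvq := hval a q (by rw [hSa]; simp)
    have hPP : H a r * G r a + H a q * G q a = 1 := by
      have := hHG a a
      rw [if_pos rfl, ← Finset.sum_subset (Finset.subset_univ (S a)) (fun x _ hx => by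
        have : G x a = 0 := by simpa [hS] using hx
        rw [this, mul_zero]), hSa, Finset.sum_pair hrq] at this
      exact this
    have hrC : ∀ b, G r b ≠ 0 ↔ b ∈ C := fun b => by
      simp only [hC, Finset.mem_filter, Finset.mem_univ, true_and]
      refine ⟨fun h0 => hmeet b a r (by simp [hS, h0]) (by rw [hSa]; simp), fun e => ?_⟩
      have : r ∈ S b := by rw [e, hSa]; simp
      simpa [hS] using this
    have hsum : (C.card : F) * P = 1 := by
      rw [← hGH r, ← Finset.sum_subset (Finset.subset_univ C) (fun b _ hb => by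
        rw [show G r b = 0 from not_not.1 fun h0 => hb ((hrC b).1 h0), zero_mul]),
        Finset.sum_congr rfl (g := fun _ => P) fun b hb => mul_left_cancel₀ hz1 (by
          have := hval b r (by simpa [hS] using (hrC b).2 hb)
          rw [hP]
          linear_combination this - hvr), Finset.sum_const, nsmul_eq_mul]
    have hle : C.card ≤ 2 := by
      by_contra hlt
      obtain ⟨b₁, b₂, b₃, h1, h2, h3, h12, h13, h23⟩ := Finset.two_lt_card_iff.1 (by omega : 2 < C.card)
      have hsupp : ∀ b ∈ C, ∀ x, x ≠ r → x ≠ q → G x b = 0 := fun b hb x hxr hxq => by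
        by_contra h0
        have : x ∈ S b := by simp [hS, h0]
        rw [(Finset.mem_filter.1 hb).2, hSa] at this
        simp [hxr, hxq] at this
      set m := G r b₁ * G q b₂ - G q b₁ * G r b₂ with hm
      -- the kernel vector
      obtain ⟨v, hv, hv0⟩ : ∃ v : ι → F, G *ᵥ v = 0 ∧ v ≠ 0 := by
        by_cases hm0 : m = 0
        · refine ⟨Pi.single b₁ (G r b₂) + Pi.single b₂ (-G r b₁), funext fun x => ?_, fun e => ?_⟩
          · rw [mulVec_add, Pi.add_apply, Pi.zero_apply, Matrix.mulVec_single, Matrix.mulVec_single]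
            simp only [Pi.smul_apply, Matrix.col_apply, MulOpposite.smul_eq_mul_unop, MulOpposite.unop_op]
            rcases eq_or_ne x r with rfl | hxr
            · ring
            rcases eq_or_ne x q with rfl | hxq
            · linear_combination -hm0
            rw [hsupp b₁ h1 x hxr hxq, hsupp b₂ h2 x hxr hxq]; ring
          · have := congrFun e b₂
            rw [Pi.add_apply, Pi.single_eq_of_ne h12.symm, Pi.single_eq_same, zero_add, Pi.zero_apply,
              neg_eq_zero] at this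
            exact (hrC b₁).2 h1 this
        · refine ⟨Pi.single b₁ (G r b₂ * G q b₃ - G q b₂ * G r b₃) +
            Pi.single b₂ (G q b₁ * G r b₃ - G r b₁ * G q b₃) + Pi.single b₃ m, funext fun x => ?_, fun e => ?_⟩
          · rw [mulVec_add, mulVec_add, Pi.add_apply, Pi.add_apply, Pi.zero_apply, Matrix.mulVec_single,
              Matrix.mulVec_single, Matrix.mulVec_single]
            simp only [Pi.smul_apply, Matrix.col_apply, MulOpposite.smul_eq_mul_unop, MulOpposite.unop_op]
            rcases eq_or_ne x r with rfl | hxr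
            · rw [hm]; ring
            rcases eq_or_ne x q with rfl | hxq
            · rw [hm]; ring
            rw [hsupp b₁ h1 x hxr hxq, hsupp b₂ h2 x hxr hxq, hsupp b₃ h3 x hxr hxq]; ring
          · have := congrFun e b₃
            rw [Pi.add_apply, Pi.add_apply, Pi.single_eq_of_ne h13.symm, Pi.single_eq_of_ne h23.symm,
              Pi.single_eq_same, zero_add, zero_add, Pi.zero_apply] at this
            exact hm0 this
      exact hv0 (by rw [← gl_inv_mulVec g v, ← hG, hv, mulVec_zero])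
    have hge : C.card ≠ 0 := by
      rw [Finset.card_ne_zero]
      exact ⟨a, by simp [hC]⟩
    rcases Nat.lt_or_ge C.card 2 with hlt | hge2
    · rw [show C.card = 1 by omega, Nat.cast_one, one_mul] at hsum
      exact absurd (show H a q * G q a = 0 by linear_combination hPP - hsum - hP)
        (mul_ne_zero ((hside a q).1 (by
          have : q ∈ S a := by rw [hSa]; simp
          simpa [hS] using this)) (by
          have : q ∈ S a := by rw [hSa]; simp
          simpa [hS] using this))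
    · omega
  have heven := Finset.card_eq_sum_card_fiberwise (s := (Finset.univ : Finset ι)) (t := Finset.univ.image S)
    (f := S) fun a _ => Finset.mem_image_of_mem _ (Finset.mem_univ a)
  rw [Finset.card_univ, hι, Finset.sum_congr rfl (g := fun _ => 2) fun s hs => by
    obtain ⟨a, -, rfl⟩ := Finset.mem_image.1 hs
    exact hfib a, Finset.sum_const, smul_eq_mul] at heven
  omega

/-- the theorem for monomial groups in five dimensions -/
theorem monomial_full [Fintype F] (hι : Fintype.card ι = 5) (h5 : 5 ≤ Fintype.card F) {M : Subgroup (GL ι F)}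
    (hN : ∀ (σ : Equiv.Perm ι) (d : ι → Fˣ), (mon σ d : GL ι F) ∈ specialLinear ι F → mon σ d ∈ M)
    (hM : M ≤ specialLinear ι F) {g : GL ι F} (hg : g ∈ M) (hgm : ¬ Mono g) : fullSub M = ⊤ := by
  classical
  by_cases hcol : ∀ a k, ∃ j, j ≠ k ∧ (g : Matrix ι ι F) j a ≠ 0
  swap
  · push Not at hcol
    obtain ⟨a, k, hk⟩ := hcol
    set c := (g : Matrix ι ι F) k a with hc
    have hga : (g : Matrix ι ι F) *ᵥ Pi.single a 1 = Pi.single k c := funext fun j => by
      rw [mulVec_single_col]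
      rcases eq_or_ne j k with rfl | hj
      · rw [Pi.single_eq_same]
      · rw [Pi.single_eq_of_ne hj, hk j hj]
    have hc0 : c ≠ 0 := fun h0 => by
      rw [h0, Pi.single_zero, gl_mulVec_eq_zero] at hga
      simpa using congrFun hga a
    obtain ⟨p, -, hp⟩ := Finset.exists_mem_notMem_of_card_lt_card (s := ({k} : Finset ι)) (t := Finset.univ)
      (by rw [Finset.card_univ, Finset.card_singleton]; omega)
    rw [Finset.mem_singleton] at hp
    set s : Fˣ := Units.map (Int.castRingHom F : ℤ →* F) (Equiv.Perm.sign (Equiv.swap k a)) with hs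
    set d : ι → Fˣ := Function.update (Function.update (fun _ => (1 : Fˣ)) k (Units.mk0 c hc0)⁻¹) p
      (s⁻¹ * Units.mk0 c hc0) with hd
    have hprod : (∏ x, d x : Fˣ) = s⁻¹ := by
      rw [hd, Finset.prod_update_of_mem (Finset.mem_univ p), Finset.prod_update_of_mem (by simp [Ne.symm hp]),
        Finset.prod_const_one, mul_one]
      group
    have hwS : (mon (Equiv.swap k a) d : GL ι F) ∈ specialLinear ι F := mon_mem_SL (by
      rw [← Units.coe_prod, hprod]
      show (s : F) * ((s⁻¹ : Fˣ) : F) = 1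
      rw [← Units.val_mul, mul_inv_cancel, Units.val_one])
    refine FourLines.fullSub_of_fixes hN h5 (by omega) (J := {a}) (l := a) (Finset.mem_singleton_self a)
      (M.mul_mem (hN _ _ hwS) hg) (Subgroup.mul_mem _ hwS (hM hg)) (fun j hj => ?_) (not_mono_mon_mul hgm _ _)
    rw [Finset.mem_singleton.1 hj, gl_mul_mulVec, hga, mon_mulVec_single, Equiv.swap_apply_left, hd,
      Function.update_of_ne (Ne.symm hp), Function.update_self, Units.val_inv_eq_inv_val, Units.val_mk0,
      inv_mul_cancel₀ hc0]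
  -- up to scalars
  haveI : (scalars ι F).Normal := scalars_normal
  set M' : Subgroup (GL ι F) := M ⊔ scalars ι F with hM'
  have hback : ∀ x ∈ M', x ∈ specialLinear ι F → x ∈ M := by
    intro x hx hxS
    obtain ⟨m, hm, s, hs, rfl⟩ := Subgroup.mem_sup_of_normal_right.1 hx
    have hsS : s ∈ specialLinear ι F := ((specialLinear ι F).mul_mem_cancel_left (hM hm)).1 hxS
    obtain ⟨b, hb⟩ := (mem_scalars_iff s).1 hs
    have e : s = mon 1 (fun _ => b) := gl_ext_vec fun v => funext fun j => by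
      rw [hb, mon_mulVec]
      simp [Matrix.smul_mulVec, Matrix.one_mulVec, show (1 : Equiv.Perm ι).symm = Equiv.refl ι from rfl]
    rw [e] at hsS ⊢
    exact M.mul_mem hm (hN _ _ hsS)
  have hfifth : MonFifth M' := by
    rintro σ d ⟨b, hb⟩
    set s : Fˣ := Units.map (Int.castRingHom F : ℤ →* F) (Equiv.Perm.sign σ) with hs
    have hs2 : s * s = 1 := by
      rw [hs, ← map_mul, Int.units_mul_self, map_one]
    have hsc : (mon 1 (fun _ : ι => s * b) : GL ι F) ∈ scalars ι F := (mem_scalars_iff _).2 ⟨s * b, by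
      refine Matrix.toLin'.injective (LinearMap.ext fun v => funext fun j => ?_)
      rw [Matrix.toLin'_apply, Matrix.toLin'_apply, mon_mulVec]
      simp [Matrix.smul_mulVec, Matrix.one_mulVec, show (1 : Equiv.Perm ι).symm = Equiv.refl ι from rfl]⟩
    have hS : (mon σ (fun x => d x / (s * b)) : GL ι F) ∈ specialLinear ι F := mon_mem_SL (by
      rw [← Units.coe_prod, Finset.prod_div_distrib, Finset.prod_const, Finset.card_univ, hι, hb, mul_pow,
        show s ^ 5 = s by
          rw [show s ^ 5 = (s * s) * (s * s) * s by simp only [pow_succ, pow_zero, one_mul, mul_assoc], hs2,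
            one_mul, one_mul]]
      show (s : F) * ((b ^ 5 / (s * b ^ 5) : Fˣ) : F) = 1
      rw [← Units.val_mul, ← Units.val_one]
      congr 1
      rw [mul_div_assoc', div_self'])
    rw [show (mon σ d : GL ι F) = mon σ (fun x => d x / (s * b)) * mon 1 (fun _ => s * b) by
      rw [mon_mul, mul_one]
      simp]
    exact Subgroup.mul_mem _ (Subgroup.mem_sup_left (hN _ _ hS)) (Subgroup.mem_sup_right hsc)
  obtain ⟨b, hb⟩ : ∃ b : Fˣ, b ^ 5 ≠ 1 := by
    obtain ⟨ν, hν⟩ := IsCyclic.exists_generator (α := Fˣ)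
    refine ⟨ν, fun e => ?_⟩
    have ho : orderOf ν = Fintype.card F - 1 := by
      rw [orderOf_eq_card_of_forall_mem_zpowers hν, Nat.card_units, Nat.card_eq_fintype_card]
    have h6 : Fintype.card F = 6 := by
      rcases (Nat.dvd_prime (by norm_num : Nat.Prime 5)).1 (ho ▸ orderOf_dvd_of_pow_eq_one e) with h | h <;> omega
    obtain ⟨p, hchar⟩ := CharP.exists F
    obtain ⟨n, hp, hq⟩ := FiniteField.card F p
    have hp6 : p ∣ 6 := h6 ▸ hq ▸ dvd_pow_self p n.ne_zero
    have h6' := Nat.le_of_dvd (by norm_num) hp6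
    have h2n : (2 : ℕ) ∣ p ^ (n : ℕ) := by rw [← hq, h6]; norm_num
    have h3n : (3 : ℕ) ∣ p ^ (n : ℕ) := by rw [← hq, h6]; norm_num
    have := (Nat.prime_dvd_prime_iff_eq Nat.prime_two hp).1 (Nat.prime_two.dvd_of_dvd_pow h2n)
    have := (Nat.prime_dvd_prime_iff_eq Nat.prime_three hp).1 (Nat.prime_three.dvd_of_dvd_pow h3n)
    omega
  have hfull := fullSub_of_no_line hfifth hι h5 (z := b ^ 5) hb ⟨b, rfl⟩ (Subgroup.mem_sup_left hg) hcol
  refine Submodule.eq_top_iff'.2 fun w φ hφ => ?_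
  obtain ⟨h0, hmem⟩ := (show FullC M' w from (hfull ▸ Submodule.mem_top : w ∈ fullSub M')) φ hφ
  exact ⟨h0, hback _ hmem (tv_mem_SL _ _ h0)⟩

end CfsgLib.Perm.Trans.FiveDim
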