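import Mathlib

/-!
# Arithmetic of the normaliser of a Singer cycle in degree five

Two statements: a number `a * N - b` for small `a, b` does not divide the group order, and a point
stabiliser of a doubly transitive overgroup has full part prime to the characteristic.
-/

set_option autoImplicit false
set_option maxRecDepth 100000

namespace CfsgLib.Perm.Trans.FiveDim

/-- the number of points -/
def phi5 (q : ℕ) : ℕ := q ^ 4 + q ^ 3 + q ^ 2 + q + 1

/-- the order of the scalars -/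
def dd (q : ℕ) : ℕ := if q % 5 = 1 then 5 else 1

/-- the order of the projective Singer cycle -/
def cyc (q : ℕ) : ℕ := phi5 q / dd q

/-- the cofactor of the stabiliser prime to the characteristic -/
def rest (q : ℕ) : ℕ := (q - 1) ^ 4 * (q + 1) * (q ^ 2 + q + 1)

/-- the order of the special linear group -/
def ordSL (q : ℕ) : ℕ :=
  q ^ 10 * ((q - 1) ^ 4 * ((q + 1) ^ 2 * ((q ^ 2 + 1) * ((q ^ 2 + q + 1) * phi5 q))))

theorem dd_mul_cyc (q : ℕ) : dd q * cyc q = phi5 q := by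
  refine Nat.mul_div_cancel' ?_
  unfold dd
  split_ifs with h
  · unfold phi5
    rw [Nat.dvd_iff_mod_eq_zero]
    simp [Nat.add_mod, Nat.pow_mod, h]
  · exact one_dvd _

/-- small numbers that are prime -/
def smallPrime (p : ℕ) : Bool := (List.range 89).all fun r => p ≤ r + 2 || p % (r + 2) != 0

/-- the degree check for one field -/
def degCheck (q : ℕ) : Bool :=
  q % 5 != 1 || (List.range 6).all fun a => (List.range 6).all fun b =>
    decide (b = 0 ∨ a < b ∨ (a = 5 ∧ b = 1)) || ordSL q % (a * cyc q - b) != 0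

/-- the cofactor check for one field -/
def cofCheck (p e : ℕ) : Bool :=
  (List.range (5 * e)).all fun j =>
    let N := cyc (p ^ e)
    let Y := rest (p ^ e)
    let rz := p ^ j % N
    let ry := (N - 5 * p ^ ((6 * e - j) % (5 * e)) % N) % N
    decide (0 < ry) && (List.range (Y / (ry * N) + 1)).all fun u =>
      decide (rz + u * N = 1 ∨ (p ^ e = 4 ∧ rz + u * N = 405)) || Y % (rz + u * N) != 0 ||
        Y / (rz + u * N) % N != ry

/-- both checks for all small fields in a range of primes -/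
def allCheck (s l : ℕ) : Bool :=
  (List.range' s l).all fun p => !smallPrime p || p < 2 || (List.range 14).all fun e =>
    e == 0 || 8192 ≤ p ^ e || (degCheck (p ^ e) && cofCheck p e)

theorem all_check_one : allCheck 0 100 = true := by decide +kernel
theorem all_check_two : allCheck 100 1900 = true := by decide +kernel
theorem all_check_three : allCheck 2000 3000 = true := by decide +kernel
theorem all_check_four : allCheck 5000 3192 = true := by decide +kernel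

theorem checks_of_small {p e : ℕ} (hp : p.Prime) (he : 0 < e) (h : p ^ e < 8192) :
    degCheck (p ^ e) = true ∧ cofCheck p e = true := by
  have hpe : p < 8192 := lt_of_le_of_lt (Nat.le_self_pow he.ne' p) h
  have he' : e < 14 := by
    by_contra hc
    have : 2 ^ 14 ≤ p ^ e := (Nat.pow_le_pow_left hp.two_le 14).trans (Nat.pow_le_pow_right hp.pos (by omega))
    omega
  have hsp : smallPrime p = true := by
    simp only [smallPrime, List.all_eq_true, List.mem_range, Bool.or_eq_true, decide_eq_true_eq, bne_iff_ne]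
    intro r _
    by_contra hc
    simp only [not_or, not_le, ne_eq, not_not] at hc
    rcases hp.eq_one_or_self_of_dvd _ (Nat.dvd_of_mod_eq_zero hc.2) with h1 | h1 <;> omega
  have key : ∀ s l, allCheck s l = true → s ≤ p → p < s + l → degCheck (p ^ e) = true ∧ cofCheck p e = true := by
    intro s l hc hs hl
    simp only [allCheck, List.all_eq_true, List.mem_range'_1, List.mem_range, Bool.or_eq_true,
      Bool.and_eq_true, beq_iff_eq, decide_eq_true_eq, hsp, Bool.not_true] at hc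
    have := hp.two_le
    rcases hc p ⟨hs, hl⟩ with h1 | h1
    · rcases h1 with h1 | h1
      · simp [hsp] at h1
      · omega
    · rcases h1 e he' with h2 | h2
      · omega
      · exact h2
  rcases Nat.lt_or_ge p 100 with h1 | h1
  · exact key 0 100 all_check_one (by omega) (by omega)
  rcases Nat.lt_or_ge p 2000 with h2 | h2
  · exact key 100 1900 all_check_two h1 (by omega)
  rcases Nat.lt_or_ge p 5000 with h3 | h3
  · exact key 2000 3000 all_check_three h2 (by omega)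
  · exact key 5000 3192 all_check_four h3 (by omega)

/-! ### degrees -/

theorem drop_factor {f x Y r : ℕ} (h : f ∣ x * Y) (hr : Nat.gcd f x ∣ r) : f ∣ r * Y := by
  have h1 : f ∣ Nat.gcd (f * Y) (x * Y) := Nat.dvd_gcd (dvd_mul_right f Y) h
  rw [Nat.gcd_mul_right] at h1
  exact h1.trans (Nat.mul_dvd_mul_right hr Y)

theorem drop_power {f x Y r : ℕ} (hr : Nat.gcd f x ∣ r) : ∀ {k : ℕ}, f ∣ x ^ k * Y → f ∣ r ^ k * Y
  | 0, h => by simpa using h
  | k + 1, h => by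
    rw [pow_succ, mul_assoc] at h
    have h1 := drop_power hr h
    rw [mul_left_comm] at h1
    have h2 := drop_factor h1 hr
    rwa [pow_succ, mul_assoc, mul_left_comm]

theorem gcd_dvd_of_eq {f x : ℕ} {m r : ℤ} (h : (f : ℤ) = x * m + r) : Nat.gcd f x ∣ r.natAbs := by
  have h1 : ((Nat.gcd f x : ℕ) : ℤ) ∣ r := by
    rw [show r = (f : ℤ) - x * m by rw [h]; ring]
    exact dvd_sub (Int.natCast_dvd_natCast.2 (Nat.gcd_dvd_left f x))
      (dvd_mul_of_dvd_left (Int.natCast_dvd_natCast.2 (Nat.gcd_dvd_right f x)) m)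
  simpa using Int.natAbs_dvd_natAbs.2 h1

theorem gcd_power_field {p e f r : ℕ} (hp : p.Prime) (k : ℕ) (hr : Nat.gcd f (p ^ e) ∣ r) (hr0 : 0 < r)
    (hlt : r < p ^ e) : Nat.gcd f ((p ^ e) ^ k) ∣ r := by
  rw [← pow_mul]
  obtain ⟨v, -, hv⟩ := (Nat.dvd_prime_pow hp).1 (Nat.gcd_dvd_right f (p ^ (e * k)))
  rcases Nat.lt_or_ge v e with h | h
  · refine dvd_trans ?_ hr
    exact Nat.dvd_gcd (Nat.gcd_dvd_left _ _) (hv ▸ pow_dvd_pow p h.le)
  · have h1 : p ^ e ∣ Nat.gcd f (p ^ e) :=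
      Nat.dvd_gcd ((pow_dvd_pow p h).trans (hv ▸ Nat.gcd_dvd_left _ _)) dvd_rfl
    have := Nat.le_of_dvd hr0 (h1.trans hr)
    omega

/-- no small combination divides the order -/
theorem degree_not_dvd {p e : ℕ} (hp : p.Prime) (he : 0 < e) (h5 : p ^ e % 5 = 1) {a b : ℕ} (ha : a ≤ 5)
    (hb : 1 ≤ b) (hba : b ≤ a) (hne : ¬ (a = 5 ∧ b = 1)) : ¬ (a * cyc (p ^ e) - b) ∣ ordSL (p ^ e) := by
  set q := p ^ e with hq
  intro hdvd
  rcases Nat.lt_or_ge q 8192 with hsmall | hbig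
  · have h := (checks_of_small hp he hsmall).1
    simp only [degCheck, Bool.or_eq_true, List.all_eq_true, List.mem_range, decide_eq_true_eq, bne_iff_ne] at h
    rcases h with h | h
    · exact h h5
    · rcases h a (by omega) b (by omega) with h1 | h1
      · omega
      · exact h1 (Nat.mod_eq_zero_of_dvd hdvd)
  have hN : 5 * cyc q = phi5 q := by
    have h := dd_mul_cyc q
    rwa [dd, if_pos h5] at h
  have hphi : (phi5 q : ℤ) = (q : ℤ) ^ 4 + (q : ℤ) ^ 3 + (q : ℤ) ^ 2 + q + 1 := by simp [phi5]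
  have hq1 : ((q - 1 : ℕ) : ℤ) = (q : ℤ) - 1 := by rw [Nat.cast_sub (by omega)]; simp
  have hbN : b ≤ a * cyc q := by
    refine hba.trans (Nat.le_mul_of_pos_right a ?_)
    unfold phi5 at hN
    omega
  have hD : ((5 * (a * cyc q - b) : ℕ) : ℤ) = a * phi5 q - 5 * b := by
    rw [Nat.cast_mul, Nat.cast_sub hbN, ← hN]
    push_cast
    ring
  obtain ⟨f, hf⟩ : ∃ f, f = 5 * (a * cyc q - b) := ⟨_, rfl⟩
  rw [← hf] at hD
  have h5f : f ∣ 5 * ordSL q := hf ▸ Nat.mul_dvd_mul_left 5 hdvd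
  by_cases hab : a = b
  · -- the factor `q - 1` splits off
    subst hab
    obtain ⟨g, hg⟩ : ∃ g, g = q ^ 3 + 2 * q ^ 2 + 3 * q + 4 := ⟨_, rfl⟩
    have hgz : (g : ℤ) = (q : ℤ) ^ 3 + 2 * (q : ℤ) ^ 2 + 3 * q + 4 := by rw [hg]; push_cast; rfl
    have hgd : g ∣ f := by
      refine ⟨a * (q - 1), ?_⟩
      exact_mod_cast (show (f : ℤ) = g * (a * ((q - 1 : ℕ) : ℤ)) by rw [hD, hgz, hphi, hq1]; ring)
    have h0 : g ∣ q ^ 10 * (5 * ((q - 1) ^ 4 * ((q + 1) ^ 2 * ((q ^ 2 + 1) * ((q ^ 2 + q + 1) * phi5 q))))) := by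
      rw [mul_left_comm]
      exact hgd.trans h5f
    have h1 := drop_factor h0 (gcd_power_field hp 10 (r := 4)
      (gcd_dvd_of_eq (m := (q : ℤ) ^ 2 + 2 * q + 3) (r := 4) (by rw [hgz]; push_cast [hq]; ring))
      (by norm_num) (by omega))
    rw [← mul_assoc, mul_left_comm] at h1
    have h2 := drop_power (gcd_dvd_of_eq (m := (q : ℤ) ^ 2 + 3 * q + 6) (r := 10)
      (by rw [hgz, hq1]; ring)) h1
    rw [show ((10 : ℤ).natAbs) = 10 from rfl, ← mul_assoc, mul_left_comm] at h2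
    have h3 := drop_power (gcd_dvd_of_eq (m := (q : ℤ) ^ 2 + q + 2) (r := 2)
      (by rw [hgz]; push_cast; ring)) h2
    rw [show ((2 : ℤ).natAbs) = 2 from rfl, ← mul_assoc, mul_left_comm] at h3
    have e4 : Nat.gcd g (q ^ 2 + 1) ∣ 8 := by
      have d1 : ((Nat.gcd g (q ^ 2 + 1) : ℕ) : ℤ) ∣ (q : ℤ) ^ 2 + 1 := by
        have := Int.natCast_dvd_natCast.2 (Nat.gcd_dvd_right g (q ^ 2 + 1))
        push_cast at this
        exact this
      have d2 : ((Nat.gcd g (q ^ 2 + 1) : ℕ) : ℤ) ∣ (g : ℤ) :=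
        Int.natCast_dvd_natCast.2 (Nat.gcd_dvd_left g (q ^ 2 + 1))
      have d3 := dvd_sub (dvd_mul_of_dvd_right d1 4)
        (dvd_mul_of_dvd_left (dvd_sub d2 (dvd_mul_of_dvd_left d1 ((q : ℤ) + 2))) (2 * (q : ℤ) - 2))
      rw [show 4 * ((q : ℤ) ^ 2 + 1) - ((g : ℤ) - ((q : ℤ) ^ 2 + 1) * ((q : ℤ) + 2)) * (2 * (q : ℤ) - 2)
        = 8 by rw [hgz]; ring] at d3
      exact_mod_cast d3
    have h4 := drop_factor h3 e4
    rw [← mul_assoc, mul_left_comm] at h4
    have e3 : Nat.gcd g (q ^ 2 + q + 1) ∣ 7 := by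
      have d1 : ((Nat.gcd g (q ^ 2 + q + 1) : ℕ) : ℤ) ∣ (q : ℤ) ^ 2 + q + 1 := by
        have := Int.natCast_dvd_natCast.2 (Nat.gcd_dvd_right g (q ^ 2 + q + 1))
        push_cast at this
        exact this
      have d2 : ((Nat.gcd g (q ^ 2 + q + 1) : ℕ) : ℤ) ∣ (g : ℤ) :=
        Int.natCast_dvd_natCast.2 (Nat.gcd_dvd_left g (q ^ 2 + q + 1))
      have d3 := dvd_sub d1 (dvd_mul_of_dvd_left (dvd_sub d2 (dvd_mul_of_dvd_left d1 ((q : ℤ) + 1)))
        ((q : ℤ) - 2))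
      rw [show (q : ℤ) ^ 2 + q + 1 - ((g : ℤ) - ((q : ℤ) ^ 2 + q + 1) * ((q : ℤ) + 1)) * ((q : ℤ) - 2)
        = 7 by rw [hgz]; ring] at d3
      exact_mod_cast d3
    have h5' := drop_factor h4 e3
    rw [← mul_assoc, mul_comm] at h5'
    have h6 := drop_factor h5' (gcd_dvd_of_eq (f := phi5 q) (x := g) (m := (q : ℤ) - 1) (r := 5)
      (by rw [hgz, hphi]; ring) |> fun h => (Nat.gcd_comm g (phi5 q)) ▸ h)
    have hle := Nat.le_of_dvd (by positivity) h6
    rw [hg] at hle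
    have : 8192 ^ 3 ≤ q ^ 3 := Nat.pow_le_pow_left hbig 3
    norm_num at hle this
    omega
  · obtain ⟨β, hβ⟩ : ∃ β : ℤ, β = (a : ℤ) - 5 * b := ⟨_, rfl⟩
    have hfz : (f : ℤ) = a * ((q : ℤ) ^ 4 + (q : ℤ) ^ 3 + (q : ℤ) ^ 2 + q + 1) - 5 * b := by rw [hD, hphi]
    have hβ0 : 0 < β.natAbs ∧ β.natAbs < 8192 := by omega
    have h0 : f ∣ q ^ 10 * (5 * ((q - 1) ^ 4 * ((q + 1) ^ 2 * ((q ^ 2 + 1) * ((q ^ 2 + q + 1) * phi5 q))))) := by
      rw [mul_left_comm]
      exact h5f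
    have h1 := drop_factor h0 (gcd_power_field hp 10 (r := β.natAbs)
      (gcd_dvd_of_eq (m := (a : ℤ) * ((q : ℤ) ^ 3 + (q : ℤ) ^ 2 + q + 1)) (r := β)
        (by rw [hfz, hβ]; push_cast [hq]; ring)) hβ0.1 (by omega))
    rw [← mul_assoc, mul_left_comm] at h1
    have h2 := drop_power (gcd_dvd_of_eq
      (m := (a : ℤ) * ((q : ℤ) ^ 3 + 2 * (q : ℤ) ^ 2 + 3 * q + 4)) (r := 5 * ((a : ℤ) - b))
      (by rw [hfz, hq1]; ring)) h1
    rw [← mul_assoc, mul_left_comm] at h2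
    have h3 := drop_power (gcd_dvd_of_eq (m := (a : ℤ) * ((q : ℤ) ^ 3 + q)) (r := β)
      (by rw [hfz, hβ]; push_cast; ring)) h2
    rw [← mul_assoc, mul_left_comm] at h3
    have h4 := drop_factor h3 (gcd_dvd_of_eq (m := (a : ℤ) * ((q : ℤ) ^ 2 + q)) (r := β)
      (by rw [hfz, hβ]; push_cast; ring))
    rw [← mul_assoc, mul_left_comm] at h4
    have e3 : Nat.gcd f (q ^ 2 + q + 1) ∣ (β ^ 2 - a * β + (a : ℤ) ^ 2).natAbs := by
      have d1 : ((Nat.gcd f (q ^ 2 + q + 1) : ℕ) : ℤ) ∣ (q : ℤ) ^ 2 + q + 1 := by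
        have := Int.natCast_dvd_natCast.2 (Nat.gcd_dvd_right f (q ^ 2 + q + 1))
        push_cast at this
        exact this
      have d2 : ((Nat.gcd f (q ^ 2 + q + 1) : ℕ) : ℤ) ∣ (f : ℤ) :=
        Int.natCast_dvd_natCast.2 (Nat.gcd_dvd_left f (q ^ 2 + q + 1))
      have d3 := dvd_sub (dvd_mul_of_dvd_right d1 ((a : ℤ) ^ 2))
        (dvd_mul_of_dvd_left (dvd_sub d2 (dvd_mul_of_dvd_left d1 ((a : ℤ) * (q : ℤ) ^ 2)))
          ((a : ℤ) * q + a - β))
      rw [show (a : ℤ) ^ 2 * ((q : ℤ) ^ 2 + q + 1) - ((f : ℤ) - ((q : ℤ) ^ 2 + q + 1) * ((a : ℤ) * (q : ℤ) ^ 2))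
        * ((a : ℤ) * q + a - β) = β ^ 2 - a * β + (a : ℤ) ^ 2 by rw [hfz, hβ]; ring] at d3
      simpa using Int.natAbs_dvd_natAbs.2 d3
    have h5' := drop_factor h4 e3
    rw [← mul_assoc, mul_comm] at h5'
    have h6 := drop_factor h5' (gcd_dvd_of_eq (m := (a : ℤ)) (r := -(5 * (b : ℤ)))
      (by rw [hfz, hphi]; ring))
    have hbound : ∀ a : Fin 6, ∀ b : Fin 6, 0 < (b : ℕ) → (b : ℕ) < (a : ℕ) → ¬ ((a : ℕ) = 5 ∧ (b : ℕ) = 1) →
        let a : ℕ := (a : ℕ)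
        let b : ℕ := (b : ℕ)
        let β : ℤ := (a : ℤ) - 5 * b
        0 < (-(5 * (b : ℤ))).natAbs * ((β ^ 2 - a * β + (a : ℤ) ^ 2).natAbs * (β.natAbs *
          (β.natAbs ^ 2 * ((5 * ((a : ℤ) - b)).natAbs ^ 4 * (β.natAbs * 5))))) ∧
        (-(5 * (b : ℤ))).natAbs * ((β ^ 2 - a * β + (a : ℤ) ^ 2).natAbs * (β.natAbs *
          (β.natAbs ^ 2 * ((5 * ((a : ℤ) - b)).natAbs ^ 4 * (β.natAbs * 5))))) < 8192 ^ 4 := by
      decide +kernel
    have hb' := hbound ⟨a, by omega⟩ ⟨b, by omega⟩ (show 0 < b by omega) (show b < a by omega) hne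
    simp only [← hβ] at hb'
    obtain ⟨hp0, hlt⟩ := hb'
    have hle := Nat.le_of_dvd hp0 h6
    have hfl : 8192 ^ 4 ≤ (f : ℤ) := by
      rw [hfz]
      have h1 : (8192 : ℤ) ≤ q := by exact_mod_cast hbig
      have h2 : (8192 : ℤ) ^ 4 ≤ (q : ℤ) ^ 4 := pow_le_pow_left₀ (by norm_num) h1 4
      have h3 : (1 : ℤ) * ((q : ℤ) ^ 4 + (q : ℤ) ^ 3 + (q : ℤ) ^ 2 + q + 1) ≤
          a * ((q : ℤ) ^ 4 + (q : ℤ) ^ 3 + (q : ℤ) ^ 2 + q + 1) :=
        mul_le_mul_of_nonneg_right (by exact_mod_cast (show 1 ≤ a by omega)) (by positivity)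
      have h4 : (0 : ℤ) ≤ (q : ℤ) ^ 3 + (q : ℤ) ^ 2 := by positivity
      have : (b : ℤ) ≤ 5 := by exact_mod_cast (show b ≤ 5 by omega)
      linarith
    omega

/-! ### the cofactor -/

theorem not_sq_add_one_dvd {q c : ℕ} (hq : 2 ≤ q) (h : q ^ 2 + 1 ∣ c * rest q) : q ^ 2 + 1 ∣ 32 * c := by
  unfold rest at h
  rw [show c * ((q - 1) ^ 4 * (q + 1) * (q ^ 2 + q + 1)) = (q - 1) ^ 4 * ((q + 1) ^ 1 * ((q ^ 2 + q + 1) * c)) by ring] at h
  have hq1 : ((q - 1 : ℕ) : ℤ) = (q : ℤ) - 1 := by rw [Nat.cast_sub (by omega)]; simp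
  have h1 := drop_power (gcd_dvd_of_eq (f := q ^ 2 + 1) (x := q - 1) (m := (q : ℤ) + 1) (r := 2)
    (by rw [hq1]; push_cast; ring)) h
  rw [mul_left_comm] at h1
  have h2 := drop_power (gcd_dvd_of_eq (f := q ^ 2 + 1) (x := q + 1) (m := (q : ℤ) - 1) (r := 2)
    (by push_cast; ring)) h1
  rw [← mul_assoc, mul_left_comm] at h2
  have h3 := drop_factor h2 (r := 1) (Nat.dvd_one.2 (by
    rw [show q ^ 2 + q + 1 = q + (q ^ 2 + 1) by ring, Nat.gcd_comm, Nat.gcd_add_self_left]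
    refine Nat.Coprime.gcd_eq_one ?_
    rw [pow_two, Nat.coprime_mul_right_add_right]
    exact Nat.coprime_one_right q))
  simpa [mul_comm, mul_assoc, mul_left_comm] using h3

/-- the shape of a number congruent to `u * p ^ j` -/
theorem shape {p e j : ℕ} (hj : j < 5 * e) {x u : ℤ}
    (h : (phi5 (p ^ e) : ℤ) ∣ x - u * (p : ℤ) ^ j) : ∃ t : ℕ, ∃ A E : ℤ,
      ((p : ℤ) ^ t * x = A * phi5 (p ^ e) + E) ∧
      ((∃ c : ℤ, A = c * (p : ℤ) ^ t + u ∧ E = -(u * (((p : ℤ) ^ e) ^ 3 + ((p : ℤ) ^ e) ^ 2 + (p : ℤ) ^ e + 1)) ∧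
          (c = 0 → x = u * (p : ℤ) ^ j)) ∨
        (∃ c : ℤ, A = c * (p : ℤ) ^ t - u ∧ E = u ∧ 1 ≤ t ∧
          (c = 0 → x = -(u * (p : ℤ) ^ (j - 4 * e) *
            (((p : ℤ) ^ e) ^ 3 + ((p : ℤ) ^ e) ^ 2 + (p : ℤ) ^ e + 1))))) := by
  obtain ⟨Q, hQ⟩ : ∃ Q : ℤ, Q = (p : ℤ) ^ e := ⟨_, rfl⟩
  have hphi : (phi5 (p ^ e) : ℤ) = Q ^ 4 + Q ^ 3 + Q ^ 2 + Q + 1 := by simp [phi5, hQ]
  obtain ⟨c, hc⟩ := h
  rw [hphi] at hc
  rw [← hQ, hphi]
  rcases le_or_gt j (4 * e) with hj4 | hj4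
  · refine ⟨4 * e - j, c * (p : ℤ) ^ (4 * e - j) + u, _, ?_, Or.inl ⟨c, rfl, rfl, fun h0 => ?_⟩⟩
    · have hpow : (p : ℤ) ^ (4 * e - j) * (p : ℤ) ^ j = Q ^ 4 := by
        rw [← pow_add, hQ, ← pow_mul]
        congr 1
        omega
      linear_combination (p : ℤ) ^ (4 * e - j) * hc + u * hpow
    · rw [h0, mul_zero] at hc
      linarith
  · obtain ⟨i, rfl⟩ : ∃ i, j = 4 * e + i := ⟨j - 4 * e, by omega⟩
    have hpow : (p : ℤ) ^ (e - i) * (p : ℤ) ^ i = Q := by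
      rw [← pow_add, hQ]
      congr 1
      omega
    have hj' : (p : ℤ) ^ (4 * e + i) = Q ^ 4 * (p : ℤ) ^ i := by
      rw [pow_add, hQ, ← pow_mul, mul_comm 4 e]
    rw [hj'] at hc
    obtain ⟨c', hc'⟩ : ∃ c' : ℤ, c' = c + u * (p : ℤ) ^ i := ⟨_, rfl⟩
    refine ⟨e - i, c' * (p : ℤ) ^ (e - i) - u, u, ?_, Or.inr ⟨c', rfl, rfl, by omega, fun h0 => ?_⟩⟩
    · rw [hc']
      linear_combination (p : ℤ) ^ (e - i) * hc - u * (Q ^ 3 + Q ^ 2 + Q + 1) * hpow
    · rw [show 4 * e + i - 4 * e = i by omega]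
      rw [h0] at hc'
      linear_combination hc - (Q ^ 4 + Q ^ 3 + Q ^ 2 + Q + 1) * hc'

theorem cofactor_large {p e j j' y z : ℕ} (hp : p.Prime) (he : 0 < e) (hj : j < 5 * e) (hj' : j' < 5 * e)
    (hbig : 8192 ≤ p ^ e) (hyz : y * z = rest (p ^ e)) (hpz : ¬ p ∣ z)
    (hz : (cyc (p ^ e) : ℤ) ∣ (z : ℤ) - (p : ℤ) ^ j) (hy : (cyc (p ^ e) : ℤ) ∣ (y : ℤ) + 5 * (p : ℤ) ^ j') :
    z = 1 := by
  by_contra hz1
  obtain ⟨q, hq⟩ : ∃ q, q = p ^ e := ⟨_, rfl⟩
  rw [← hq] at hbig hyz hz hy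
  obtain ⟨d, hd, hd15⟩ : ∃ d, d = dd q ∧ (d = 1 ∨ d = 5) := ⟨_, rfl, by unfold dd; split_ifs <;> simp⟩
  have hdN : (d : ℤ) * (cyc q : ℤ) = (phi5 q : ℤ) := by
    rw [hd]
    exact_mod_cast dd_mul_cyc q
  have hQ : (8192 : ℤ) ≤ q := by exact_mod_cast hbig
  have hyz0 : 0 < y ∧ 0 < z := by
    have : 0 < rest q := by
      unfold rest
      have : 0 < q - 1 := by omega
      positivity
    exact ⟨Nat.pos_of_ne_zero fun h => by simp [h] at hyz; omega,
      Nat.pos_of_ne_zero fun h => by simp [h] at hyz; omega⟩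
  have hd5 : (1 : ℤ) ≤ d ∧ (d : ℤ) ≤ 5 := by rcases hd15 with h | h <;> simp [h]
  have hphi : (phi5 q : ℤ) = (q : ℤ) ^ 4 + (q : ℤ) ^ 3 + (q : ℤ) ^ 2 + q + 1 := by simp [phi5]
  have hqp : (p : ℤ) ^ e = q := by rw [hq]; push_cast; rfl
  -- size of the error term
  obtain ⟨S, hS⟩ : ∃ S : ℤ, S = (q : ℤ) ^ 3 + (q : ℤ) ^ 2 + q + 1 := ⟨_, rfl⟩
  have hS0 : 0 ≤ S ∧ 4096 * S ≤ (phi5 q : ℤ) := by
    refine ⟨by rw [hS]; positivity, ?_⟩
    rw [hS, hphi]
    nlinarith [mul_le_mul_of_nonneg_right hQ (show (0 : ℤ) ≤ (q : ℤ) ^ 3 by positivity),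
      mul_le_mul_of_nonneg_right hQ (show (0 : ℤ) ≤ (q : ℤ) ^ 2 by positivity),
      mul_le_mul_of_nonneg_right hQ (show (0 : ℤ) ≤ (q : ℤ) by positivity)]
  have hP0 : 67108864 ≤ (phi5 q : ℤ) := by
    rw [hphi]
    nlinarith [mul_le_mul hQ hQ (by norm_num) (by positivity), sq_nonneg ((q : ℤ) ^ 2 - q)]
  have hpd : (phi5 q : ℤ) ∣ (d : ℤ) * z - d * (p : ℤ) ^ j := by
    rw [← hdN, ← mul_sub]
    exact mul_dvd_mul_left _ hz
  have hpd' : (phi5 q : ℤ) ∣ (d : ℤ) * y - -(5 * d) * (p : ℤ) ^ j' := by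
    rw [← hdN, show (d : ℤ) * y - -(5 * d) * (p : ℤ) ^ j' = d * ((y : ℤ) + 5 * (p : ℤ) ^ j') by ring]
    exact mul_dvd_mul_left _ hy
  rw [hq] at hpd hpd'
  have hzb : (phi5 q : ℤ) ≤ 41 * z := by
    obtain ⟨t, A, E, hAE, hcase⟩ := shape hj hpd
    rw [← hq] at hAE
    have hT1 : (1 : ℤ) ≤ (p : ℤ) ^ t := one_le_pow₀ (by exact_mod_cast hp.one_lt.le)
    have hpos : 0 < (p : ℤ) ^ t * (d * z) := by
      have : (0 : ℤ) < z := by exact_mod_cast hyz0.2
      exact mul_pos (by omega) (mul_pos (by omega) this)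
    rw [hAE] at hpos
    have hneg : A ≤ -1 → E < (phi5 q : ℤ) → False := fun h1 h2 => by
      have := mul_le_mul_of_nonneg_right h1 (le_trans (by norm_num : (0 : ℤ) ≤ 67108864) hP0)
      linarith
    have key : ∀ m : ℤ, 1 ≤ A → |E| ≤ 5 * S + 5 → (p : ℤ) ^ t ≤ 8 ∨ (p : ℤ) ^ t - 5 ≤ A →
        (phi5 q : ℤ) ≤ 41 * z := by
      intro _ hA hE hT
      have hE' := abs_le.1 hE
      have hz0 : (0 : ℤ) ≤ z := by positivity
      have h5 : (p : ℤ) ^ t * (d * z) ≤ (p : ℤ) ^ t * (5 * z) := by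
        gcongr
        exact hd5.2
      rw [hAE] at h5
      rcases le_or_gt ((p : ℤ) ^ t) 8 with hT8 | hT8
      · nlinarith [mul_le_mul_of_nonneg_right hT8 hz0, mul_le_mul_of_nonneg_right hA (le_trans (by norm_num) hP0)]
      · have hA' := hT.resolve_left (by omega)
        nlinarith [mul_le_mul_of_nonneg_right hA' (le_trans (by norm_num : (0 : ℤ) ≤ 67108864) hP0),
          mul_le_mul_of_nonneg_right (show (9 : ℤ) ≤ (p : ℤ) ^ t by omega) hz0,
          mul_le_mul_of_nonneg_right (show (9 : ℤ) ≤ (p : ℤ) ^ t by omega)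
            (le_trans (by norm_num : (0 : ℤ) ≤ 67108864) hP0)]
    rcases hcase with ⟨c, hA, hE, h0⟩ | ⟨c, hA, hE, ht, h0⟩
    · rw [hqp, ← hS] at hE
      rcases lt_trichotomy c 0 with hc | rfl | hc
      · have hcT : c * (p : ℤ) ^ t ≤ -(p : ℤ) ^ t := by nlinarith
        rcases le_or_gt 1 A with hA1 | hA1
        · exact key 0 hA1 (abs_le.2 ⟨by nlinarith, by nlinarith⟩) (Or.inl (by omega))
        · exfalso
          nlinarith
      · exfalso
        have h1 : (z : ℤ) = (p : ℤ) ^ j := mul_left_cancel₀ (by omega) (h0 rfl)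
        have h2 : z = p ^ j := by exact_mod_cast h1
        rcases Nat.eq_zero_or_pos j with hj0 | hj0
        · rw [hj0, pow_zero] at h2
          exact hz1 h2
        · exact hpz (h2 ▸ dvd_pow_self p hj0.ne')
      · have hcT : (p : ℤ) ^ t ≤ c * (p : ℤ) ^ t := by nlinarith
        exact key 0 (by omega) (abs_le.2 ⟨by nlinarith, by nlinarith⟩) (Or.inr (by omega))
    · have hT2 : (2 : ℤ) ≤ (p : ℤ) ^ t :=
        le_trans (by exact_mod_cast hp.two_le) (le_self_pow₀ (by exact_mod_cast hp.one_lt.le) (by omega))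
      rcases le_or_gt c 0 with hc | hc
      · exfalso
        exact hneg (by nlinarith) (by omega)
      · have hcT : (p : ℤ) ^ t ≤ c * (p : ℤ) ^ t := by nlinarith
        rcases lt_trichotomy A 0 with hA0 | hA0 | hA0
        · exfalso
          nlinarith
        · exfalso
          rw [hA0, zero_mul, zero_add, hE] at hAE
          have hz2 : (2 : ℤ) ≤ z := by exact_mod_cast (show 2 ≤ z by omega)
          nlinarith [mul_le_mul hT2 hz2 (by norm_num) (by positivity)]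
        · exact key 0 hA0 (abs_le.2 ⟨by omega, by omega⟩) (Or.inr (by omega))
  have hyb : (phi5 q : ℤ) ≤ 164 * y := by
    obtain ⟨t, A, E, hAE, hcase⟩ := shape hj' hpd'
    rw [← hq] at hAE
    have hT1 : (1 : ℤ) ≤ (p : ℤ) ^ t := one_le_pow₀ (by exact_mod_cast hp.one_lt.le)
    have hy0 : (0 : ℤ) < y := by exact_mod_cast hyz0.1
    have hpos : 0 < (p : ℤ) ^ t * (d * y) := mul_pos (by omega) (mul_pos (by omega) hy0)
    rw [hAE] at hpos
    have hneg : A ≤ -1 → E < (phi5 q : ℤ) → False := fun h1 h2 => by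
      have := mul_le_mul_of_nonneg_right h1 (le_trans (by norm_num : (0 : ℤ) ≤ 67108864) hP0)
      linarith
    have key : 1 ≤ A → |E| ≤ 25 * S + 25 → (p : ℤ) ^ t ≤ 32 ∨ (p : ℤ) ^ t - 25 ≤ A →
        (phi5 q : ℤ) ≤ 164 * y := by
      intro hA hE hT
      have hE' := abs_le.1 hE
      have h5 : (p : ℤ) ^ t * (d * y) ≤ (p : ℤ) ^ t * (5 * y) := by
        gcongr
        exact hd5.2
      rw [hAE] at h5
      rcases le_or_gt ((p : ℤ) ^ t) 32 with hT8 | hT8
      · nlinarith [mul_le_mul_of_nonneg_right hT8 hy0.le, mul_le_mul_of_nonneg_right hA (le_trans (by norm_num) hP0)]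
      · have hA' := hT.resolve_left (by omega)
        nlinarith [mul_le_mul_of_nonneg_right hA' (le_trans (by norm_num : (0 : ℤ) ≤ 67108864) hP0),
          mul_le_mul_of_nonneg_right (show (33 : ℤ) ≤ (p : ℤ) ^ t by omega)
            (le_trans (by norm_num : (0 : ℤ) ≤ 67108864) hP0)]
    have hbad : ∀ c : ℕ, 0 < c → c < 65536 → ¬ (q ^ 2 + 1 ∣ c * rest q) := by
      intro c hc0 hc h
      have h1 := Nat.le_of_dvd (by omega) (not_sq_add_one_dvd (by omega) h)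
      have : 8192 ^ 2 ≤ q ^ 2 := Nat.pow_le_pow_left hbig 2
      norm_num at this
      omega
    have hSf : S = ((q : ℤ) + 1) * ((q : ℤ) ^ 2 + 1) := by rw [hS]; ring
    rcases hcase with ⟨c, hA, hE, h0⟩ | ⟨c, hA, hE, ht, h0⟩
    · rw [hqp, ← hS] at hE
      rcases le_or_gt c 0 with hc | hc
      · exfalso
        rcases eq_or_lt_of_le hc with rfl | hc'
        · have := h0 rfl
          nlinarith [pow_pos (show (0 : ℤ) < p by exact_mod_cast hp.pos) j']
        · exact hneg (by nlinarith) (by nlinarith)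
      · have hcT : (p : ℤ) ^ t ≤ c * (p : ℤ) ^ t := by nlinarith
        rcases lt_trichotomy A 0 with hA0 | hA0 | hA0
        · exfalso
          nlinarith
        · exfalso
          rw [hA0, zero_mul, zero_add, hE] at hAE
          refine hbad 25 (by norm_num) (by norm_num) ?_
          have h25 : (q : ℤ) ^ 2 + 1 ∣ (p : ℤ) ^ t * (d * y) :=
            ⟨5 * d * ((q : ℤ) + 1), by rw [hAE, hSf]; ring⟩
          have h26 : q ^ 2 + 1 ∣ p ^ t * (d * y) := by exact_mod_cast h25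
          have hco : Nat.Coprime (q ^ 2 + 1) (p ^ t) := by
            refine Nat.Coprime.pow_right t (((Nat.Prime.coprime_iff_not_dvd hp).2 fun h => ?_).symm)
            have hpq : p ∣ q ^ 2 := hq ▸ dvd_pow (dvd_pow_self p he.ne') (by norm_num)
            exact hp.not_dvd_one ((Nat.dvd_add_right hpq).1 h)
          refine (hco.dvd_of_dvd_mul_left h26).trans (Nat.mul_dvd_mul ?_ ⟨z, hyz.symm⟩)
          rcases hd15 with h | h <;> simp [h]
        · exact key hA0 (abs_le.2 ⟨by nlinarith, by nlinarith⟩) (Or.inr (by omega))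
    · rcases lt_trichotomy c 0 with hc | rfl | hc
      · have hcT : c * (p : ℤ) ^ t ≤ -(p : ℤ) ^ t := by nlinarith
        rcases le_or_gt 1 A with hA1 | hA1
        · exact key hA1 (abs_le.2 ⟨by omega, by omega⟩) (Or.inl (by omega))
        · exfalso
          nlinarith
      · exfalso
        refine hbad 1 (by norm_num) (by norm_num) ?_
        rw [one_mul]
        have h := h0 rfl
        rw [hqp, ← hS, hSf, show -(-(5 * (d : ℤ)) * (p : ℤ) ^ (j' - 4 * e) * (((q : ℤ) + 1) * ((q : ℤ) ^ 2 + 1))) =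
          d * (((q : ℤ) ^ 2 + 1) * (5 * (p : ℤ) ^ (j' - 4 * e) * ((q : ℤ) + 1))) by ring] at h
        have h2 : (y : ℤ) = ((q : ℤ) ^ 2 + 1) * (5 * (p : ℤ) ^ (j' - 4 * e) * ((q : ℤ) + 1)) :=
          mul_left_cancel₀ (by omega) h
        have h3 : y = (q ^ 2 + 1) * (5 * p ^ (j' - 4 * e) * (q + 1)) := by exact_mod_cast h2
        exact (Dvd.intro _ h3.symm).trans ⟨z, hyz.symm⟩
      · have hcT : (p : ℤ) ^ t ≤ c * (p : ℤ) ^ t := by nlinarith
        exact key (by omega) (abs_le.2 ⟨by omega, by omega⟩) (Or.inr (by omega))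
  have hle : rest q ≤ q ^ 7 := by
    unfold rest
    calc (q - 1) ^ 4 * (q + 1) * (q ^ 2 + q + 1)
        = (q - 1) ^ 2 * (((q - 1) * (q + 1)) * ((q - 1) * (q ^ 2 + q + 1))) := by ring
      _ ≤ q ^ 2 * (q ^ 2 * q ^ 3) := by
          obtain ⟨r, rfl⟩ : ∃ r, q = r + 1 := ⟨q - 1, by omega⟩
          simp only [Nat.add_sub_cancel]
          exact Nat.mul_le_mul (Nat.pow_le_pow_left (by omega) 2) (Nat.mul_le_mul (by nlinarith) (by nlinarith))
      _ = q ^ 7 := by ring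
  have h1 : ((y : ℤ) * z) ≤ (q : ℤ) ^ 7 := by exact_mod_cast (hyz.le.trans hle)
  have h2 : (phi5 q : ℤ) * phi5 q ≤ 164 * y * (41 * z) :=
    mul_le_mul hyb hzb (by positivity) (by positivity)
  have h3 : ((q : ℤ) ^ 4) * ((q : ℤ) ^ 4) ≤ (phi5 q : ℤ) * phi5 q := by
    have : (q : ℤ) ^ 4 ≤ phi5 q := by
      rw [hphi]
      nlinarith [show (0 : ℤ) ≤ (q : ℤ) ^ 3 + (q : ℤ) ^ 2 by positivity]
    exact mul_le_mul this this (by positivity) (by positivity)
  nlinarith [mul_le_mul_of_nonneg_right hQ (show (0 : ℤ) ≤ (q : ℤ) ^ 7 by positivity),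
    show (0 : ℤ) < (q : ℤ) ^ 7 by positivity]

/-- **The cofactor is trivial**, one case in four elements apart. -/
theorem cofactor_eq_one {p e j y z : ℕ} (hp : p.Prime) (he : 0 < e) (hj : j < 5 * e)
    (hyz : y * z = rest (p ^ e)) (hpz : ¬ p ∣ z) (hz : z % cyc (p ^ e) = p ^ j % cyc (p ^ e))
    (hy : (y + 5 * p ^ ((6 * e - j) % (5 * e))) % cyc (p ^ e) = 0) : z = 1 ∨ (p ^ e = 4 ∧ z = 405) := by
  rcases Nat.lt_or_ge (p ^ e) 8192 with hsmall | hbig
  · have h := (checks_of_small hp he hsmall).2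
    simp only [cofCheck, List.all_eq_true, List.mem_range, Bool.and_eq_true, decide_eq_true_eq] at h
    obtain ⟨hry, hall⟩ := h j hj
    obtain ⟨N, hN⟩ : ∃ N, N = cyc (p ^ e) := ⟨_, rfl⟩
    rw [← hN] at hz hy hry hall
    obtain ⟨m, hm⟩ : ∃ m, m = 5 * p ^ ((6 * e - j) % (5 * e)) % N := ⟨_, rfl⟩
    have hN0 : 0 < N := by
      by_contra hc
      simp [show N = 0 by omega] at hry
    have hym : y % N = (N - m) % N := by
      have h1 : (y % N + m) % N = 0 := by rw [hm, ← Nat.add_mod]; exact hy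
      have hm' : m < N := hm ▸ Nat.mod_lt _ hN0
      have hy' : y % N < N := Nat.mod_lt _ hN0
      rcases Nat.lt_or_ge (y % N + m) N with hc | hc
      · rw [Nat.mod_eq_of_lt hc] at h1
        rw [show m = 0 by omega, Nat.sub_zero, Nat.mod_self]
        omega
      · rw [Nat.mod_eq_sub_mod hc, Nat.mod_eq_of_lt (by omega)] at h1
        rw [Nat.mod_eq_of_lt (show N - m < N by omega)]
        omega
    rw [← hm] at hry
    have hru : z = p ^ j % N + z / N * N := by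
      rw [← hz]
      exact (Nat.mod_add_div' z N).symm
    have hz0 : 0 < z := Nat.pos_of_ne_zero fun h => hpz (h ▸ dvd_zero p)
    have hu : z / N < rest (p ^ e) / ((N - m) % N * N) + 1 := by
      refine Nat.lt_succ_of_le ((Nat.le_div_iff_mul_le (Nat.mul_pos hry hN0)).2 ?_)
      calc z / N * ((N - m) % N * N) = (z / N * N) * (y % N) := by rw [hym]; ring
        _ ≤ z * y := Nat.mul_le_mul (Nat.div_mul_le_self z N) (Nat.mod_le y N)
        _ = _ := by rw [mul_comm, hyz]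
    have h2 := hall (z / N) (by simpa [← hm] using hu)
    simp only [Bool.or_eq_true, decide_eq_true_eq, bne_iff_ne, ← hru, ← hm, or_assoc] at h2
    rcases h2 with h2 | h2 | h2 | h2
    · exact Or.inl h2
    · exact Or.inr h2
    · exact absurd (Nat.mod_eq_zero_of_dvd ⟨y, by rw [← hyz, mul_comm]⟩) h2
    · refine absurd ?_ h2
      rw [← hyz, Nat.mul_div_cancel _ hz0, hym]
  · refine Or.inl (cofactor_large hp he hj (Nat.mod_lt (6 * e - j) (by omega)) hbig hyz hpz ?_ ?_)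
    · have := Nat.modEq_iff_dvd.1 (show p ^ j ≡ z [MOD cyc (p ^ e)] from hz.symm)
      push_cast at this
      exact this
    · have := Int.natCast_dvd_natCast.2 (Nat.dvd_of_mod_eq_zero hy)
      push_cast at this
      exact this

end CfsgLib.Perm.Trans.FiveDim
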