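import Cfsg.Agent.Lib.Perm.Trans.SingerNorm.Field
import Cfsg.Agent.Lib.Perm.Trans.FiveDim.SingerArith
import Cfsg.Agent.Lib.Perm.Trans.ThreeDim.SingTvBase

/-!
# A Singer cycle in degree five: basic data and the absence of small normalised groups
-/

set_option autoImplicit false
set_option linter.all false

namespace CfsgLib.Perm.Trans.FiveDim

open scoped Classical Matrix LinearAlgebra.Projectivization
open Matrix Cfsg.Geo CfsgLib.Perm.Asch CfsgLib.Perm.Trans CfsgLib.Perm.Trans.SingerNorm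

variable {F : Type*} [Field F]

/-- the points -/
abbrev Pt (F : Type*) [Field F] := ℙ F (Fin 5 → F)

theorem phi_five (q : ℕ) : phi 5 q = phi5 q := by
  simp [phi, phi5, Finset.sum_range_succ]
  ring

theorem one_lt_cyc {q : ℕ} (hq : 2 ≤ q) : 30 ≤ cyc q - 1 ∧ (q % 5 = 1 → 60 ≤ cyc q - 1) := by
  have h := dd_mul_cyc q
  have h4 : q * (q * (q * q)) + q * (q * q) + q * q + q + 1 = phi5 q := by rw [phi5]; ring
  unfold dd at h
  split_ifs at h with h5
  · have : 6 ≤ q := by omega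
    have h2 : 36 ≤ q * q := Nat.mul_le_mul this this
    have h3 : 6 * 36 ≤ q * (q * q) := Nat.mul_le_mul this h2
    have : 6 * (6 * 36) ≤ q * (q * (q * q)) := Nat.mul_le_mul this h3
    omega
  · have h2 : 4 ≤ q * q := Nat.mul_le_mul hq hq
    have h3 : 2 * 4 ≤ q * (q * q) := Nat.mul_le_mul hq h2
    have : 2 * (2 * 4) ≤ q * (q * (q * q)) := Nat.mul_le_mul hq h3
    exact ⟨by omega, fun e => absurd e h5⟩

theorem cyc_coprime (q : ℕ) : ¬ 2 ∣ cyc q ∧ ¬ 3 ∣ cyc q ∧ ¬ 5 ∣ cyc q := by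
  have h := dd_mul_cyc q
  have key : ∀ m, phi5 q % m = ((q % m) ^ 4 + (q % m) ^ 3 + (q % m) ^ 2 + q % m + 1) % m := fun m => by
    simp [phi5, Nat.add_mod, Nat.pow_mod]
  have k2 := key 2
  have k3 := key 3
  have k25 := key 25
  have k5 := key 5
  have h2 : q % 2 < 2 := Nat.mod_lt _ (by norm_num)
  have h3 : q % 3 < 3 := Nat.mod_lt _ (by norm_num)
  have h5 : q % 5 < 5 := Nat.mod_lt _ (by norm_num)
  have h25 : q % 25 < 25 := Nat.mod_lt _ (by norm_num)
  have t2 : ¬ 2 ∣ phi5 q := by interval_cases q % 2 <;> omega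
  have t3 : ¬ 3 ∣ phi5 q := by interval_cases q % 3 <;> omega
  refine ⟨fun hd => t2 (h ▸ dvd_mul_of_dvd_right hd _), fun hd => t3 (h ▸ dvd_mul_of_dvd_right hd _), fun hd => ?_⟩
  unfold dd at h
  split_ifs at h with h1
  · have : 25 ∣ phi5 q := h ▸ Nat.mul_dvd_mul_left 5 hd
    have e : q % 25 % 5 = 1 := by omega
    interval_cases q % 25 <;> omega
  · rw [one_mul] at h
    rw [h] at hd
    interval_cases q % 5 <;> omega

variable {K : Subalgebra F (Matrix (Fin 5) (Fin 5) F)}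

theorem smul_eq_mulVec (g : GL (Fin 5) F) (v : Fin 5 → F) : g • v = (g : Matrix (Fin 5) (Fin 5) F) *ᵥ v := rfl

theorem fix_iff {g : GL (Fin 5) F} {v : Fin 5 → F} (hv : v ≠ 0) :
    g • Projectivization.mk F v hv = Projectivization.mk F v hv ↔
      ∃ a : F, (g : Matrix (Fin 5) (Fin 5) F) *ᵥ v = a • v := by
  rw [Projectivization.smul_mk, Projectivization.mk_eq_mk_iff']
  exact ⟨fun ⟨a, ha⟩ => ⟨a, ha.symm⟩, fun ⟨a, ha⟩ => ⟨a, ha.symm⟩⟩

theorem scalar_fix {g : GL (Fin 5) F} {a : F} (hg : (g : Matrix (Fin 5) (Fin 5) F) = a • 1) (x : Pt F) :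
    g • x = x := by
  induction x using Projectivization.ind with
  | _ v hv => exact (fix_iff hv).2 ⟨a, by rw [hg, smul_mulVec, one_mulVec]⟩

theorem five_root {g : GL (Fin 5) F} (hg : g ∈ specialLinear (Fin 5) F) {a : F}
    (h : (g : Matrix (Fin 5) (Fin 5) F) = a • 1) : a ^ 5 = 1 := by
  have hd := det_one hg
  rwa [h, det_smul, Matrix.det_one, mul_one, Fintype.card_fin] at hd

variable [Fintype F]

/-- the data of a Singer cycle -/
structure Sing (K : Subalgebra F (Matrix (Fin 5) (Fin 5) F)) where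
  /-- the generator -/
  c : GL (Fin 5) F
  /-- the field automorphism -/
  y : GL (Fin 5) F
  hK : IsFieldSubalgebra 5 K
  c_mem : c ∈ subalgebraNormalizer K ⊓ specialLinear (Fin 5) F
  y_mem : y ∈ subalgebraNormalizer K ⊓ specialLinear (Fin 5) F
  order : orderOf c = phi5 (Fintype.card F)
  c_field : (c : Matrix (Fin 5) (Fin 5) F) ∈ K
  c_ns : ∀ a : F, (c : Matrix (Fin 5) (Fin 5) F) ≠ a • 1
  gen : ∀ g ∈ specialLinear (Fin 5) F, (g : Matrix (Fin 5) (Fin 5) F) ∈ K → ∃ i : ℕ, g = c ^ i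
  conj : y⁻¹ * c * y = c ^ Fintype.card F
  norm : ∀ g ∈ subalgebraNormalizer K, ∃ i < 5, g⁻¹ * c * g = c ^ Fintype.card F ^ i

theorem nonempty_sing (hK : IsFieldSubalgebra 5 K) : Nonempty (Sing K) := by
  obtain ⟨c, y, h1, h2, h3, h4, h5, h6, h7, h8⟩ := exists_data Nat.prime_five hK
  exact ⟨⟨c, y, hK, h1, h2, phi_five (Fintype.card F) ▸ h3, h4, h5, h6, h7, h8⟩⟩

namespace Sing

variable (S : Sing K)
include S

theorem pow_mem (i : ℕ) : S.c ^ i ∈ subalgebraNormalizer K ⊓ specialLinear (Fin 5) F :=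
  Subgroup.pow_mem _ S.c_mem i

theorem pow_field (i : ℕ) : ((S.c ^ i : GL (Fin 5) F) : Matrix (Fin 5) (Fin 5) F) ∈ K := by
  rw [Units.val_pow_eq_pow_val]
  exact Subalgebra.pow_mem _ S.c_field i

theorem scalar_iff (i : ℕ) :
    (∃ a : F, ((S.c ^ i : GL (Fin 5) F) : Matrix (Fin 5) (Fin 5) F) = a • 1) ↔ cyc (Fintype.card F) ∣ i := by
  obtain ⟨q, hq⟩ : ∃ q, q = Fintype.card F := ⟨_, rfl⟩
  have hq2 : 2 ≤ q := hq ▸ Fintype.one_lt_card
  rw [← hq]
  constructor
  · rintro ⟨a, ha⟩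
    have h5 := five_root (S.pow_mem i).2 ha
    have ha0 : a ≠ 0 := fun e => by rw [e] at h5; norm_num at h5
    have hqa : a ^ (q - 1) = 1 := hq ▸ FiniteField.pow_card_sub_one_eq_one a ha0
    have hd : a ^ dd q = 1 := by
      unfold dd
      split_ifs with h
      · exact h5
      · have hco : Nat.Coprime 5 (q - 1) := (Nat.prime_five.coprime_iff_not_dvd).2 (by omega)
        rw [← hco.gcd_eq_one]
        exact pow_gcd_eq_one.2 ⟨h5, hqa⟩
    have h1 : (S.c ^ i) ^ dd q = 1 :=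
      Units.ext (by rw [Units.val_pow_eq_pow_val, ha, smul_pow, one_pow, hd, one_smul, Units.val_one])
    rw [← pow_mul] at h1
    have h2 := orderOf_dvd_of_pow_eq_one h1
    rw [S.order, ← hq, ← dd_mul_cyc q, mul_comm i] at h2
    refine Nat.dvd_of_mul_dvd_mul_left ?_ h2
    unfold dd
    split_ifs <;> norm_num
  · rintro ⟨j, rfl⟩
    by_contra hns
    push Not at hns
    obtain ⟨z, hz⟩ : ∃ z, z = S.c ^ (cyc q * j) := ⟨_, rfl⟩
    rw [← hz] at hns
    have hcy : S.y⁻¹ * z * S.y = z := by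
      have h := conj_pow (a := S.y⁻¹) (b := S.c) (i := cyc q * j)
      rw [inv_inv] at h
      rw [hz, ← h, S.conj, ← hq, ← pow_mul]
      refine pow_eq_pow_iff_modEq.2 ((Nat.modEq_iff_dvd' (Nat.le_mul_of_pos_left _ (by omega))).2 ?_).symm
      rw [S.order, ← hq, ← Nat.sub_one_mul, ← dd_mul_cyc q, ← mul_assoc]
      refine dvd_mul_of_dvd_left (Nat.mul_dvd_mul_right ?_ _) _
      unfold dd
      split_ifs with h
      · omega
      · exact one_dvd _
    have hyK : (S.y : Matrix (Fin 5) (Fin 5) F) ∈ K :=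
      mem_of_commute Nat.prime_five S.hK (hz ▸ S.pow_field _) hns (by
        rw [← Units.val_mul, ← Units.val_mul]
        refine congrArg Units.val ?_
        have := congrArg (fun w => S.y * w) hcy
        simp only [← mul_assoc, mul_inv_cancel, one_mul] at this
        exact this.symm)
    have hc1 : S.y⁻¹ * S.c * S.y = S.c := by
      rw [mul_assoc, show S.c * S.y = S.y * S.c from Units.ext (S.hK.comm _ S.c_field _ hyK), inv_mul_cancel_left]
    rw [S.conj] at hc1
    have h2 : S.c ^ Fintype.card F ^ 1 = S.c ^ Fintype.card F ^ 0 := by rw [pow_one, pow_zero, pow_one]; exact hc1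
    have := pow_injOn_Iio_orderOf
      (show Fintype.card F ^ 1 ∈ Set.Iio (orderOf S.c) by
        rw [S.order, ← phi_five]; exact pow_lt_phi Nat.prime_five (by norm_num))
      (show Fintype.card F ^ 0 ∈ Set.Iio (orderOf S.c) by
        rw [S.order, ← phi_five]; exact pow_lt_phi Nat.prime_five (by norm_num)) h2
    rw [pow_one, pow_zero, ← hq] at this
    omega

/-- a power fixing a point is scalar -/
theorem scalar_of_fix {i : ℕ} {x : Pt F} (h : S.c ^ i • x = x) : cyc (Fintype.card F) ∣ i := by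
  induction x using Projectivization.ind with
  | _ v hv =>
    obtain ⟨a, ha⟩ := (fix_iff hv).1 h
    refine (S.scalar_iff i).1 ⟨a, sub_eq_zero.1 (eq_zero_of_mulVec S.hK (m := _ - a • 1) ?_ hv ?_)⟩
    · exact K.sub_mem (S.pow_field i) (K.smul_mem K.one_mem a)
    · rw [sub_mulVec, ha, smul_mulVec, one_mulVec, sub_self]

/-- a nonscalar element of the field lying in the special linear group fixes no point -/
theorem scalar_of_field {g : GL (Fin 5) F} (hg : g ∈ specialLinear (Fin 5) F)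
    (hgK : (g : Matrix (Fin 5) (Fin 5) F) ∈ K) {x : Pt F} (h : g • x = x) :
    ∃ a : F, (g : Matrix (Fin 5) (Fin 5) F) = a • 1 := by
  obtain ⟨i, rfl⟩ := S.gen g hg hgK
  exact (S.scalar_iff i).2 (S.scalar_of_fix h)

/-- commuting up to scalars with a power of the generator puts an element in the field -/
theorem mem_of_commute_scalar {g : GL (Fin 5) F} (hg : g ∈ specialLinear (Fin 5) F) {i : ℕ}
    (hi : ¬ cyc (Fintype.card F) ∣ i) {b : F}
    (h : ((g * S.c ^ i : GL (Fin 5) F) : Matrix (Fin 5) (Fin 5) F) =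
      b • ((S.c ^ i * g : GL (Fin 5) F) : Matrix (Fin 5) (Fin 5) F)) : ∃ j : ℕ, g = S.c ^ j := by
  refine S.gen g hg (mem_of_commute Nat.prime_five S.hK (S.pow_field (5 * i)) ?_ ?_)
  · intro a ha
    refine hi ((Nat.Coprime.dvd_mul_left (m := 5) ?_).1 ((S.scalar_iff _).1 ⟨a, ha⟩))
    exact ((Nat.prime_five.coprime_iff_not_dvd).2 (cyc_coprime _).2.2).symm
  · have hb : b ^ 5 = 1 := by
      have h1 := congrArg Matrix.det h
      rw [det_smul, Fintype.card_fin, det_one (mul_mem hg (S.pow_mem i).2),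
        det_one (mul_mem (S.pow_mem i).2 hg), mul_one] at h1
      exact h1.symm
    rw [Units.val_mul, Units.val_mul] at h
    obtain ⟨A, hA⟩ : ∃ A, A = (g : Matrix (Fin 5) (Fin 5) F) := ⟨_, rfl⟩
    obtain ⟨B, hB⟩ : ∃ B, B = ((S.c ^ i : GL (Fin 5) F) : Matrix (Fin 5) (Fin 5) F) := ⟨_, rfl⟩
    rw [← hA, ← hB] at h
    have key : ∀ k : ℕ, A * B ^ k = b ^ k • (B ^ k * A) := fun k => by
      induction k with
      | zero => simp
      | succ k ih =>
        rw [pow_succ, ← mul_assoc, ih, smul_mul_assoc, mul_assoc, h, mul_smul_comm, smul_smul, ← mul_assoc, ← pow_succ,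
          ← pow_succ]
    have hB5 : ((S.c ^ (5 * i) : GL (Fin 5) F) : Matrix (Fin 5) (Fin 5) F) = B ^ 5 := by
      rw [hB, ← Units.val_pow_eq_pow_val, ← pow_mul, mul_comm]
    rw [hB5, ← hA, key 5, hb, one_smul]

end Sing

end CfsgLib.Perm.Trans.FiveDim
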