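import Cfsg.Agent.Lib.Perm.Trans.FiveDim.SingerPoints

/-!
# The order of a point stabiliser in a doubly transitive overgroup
-/

set_option autoImplicit false
set_option linter.all false

namespace CfsgLib.Perm.Trans.FiveDim

open scoped Classical Matrix LinearAlgebra.Projectivization
open Matrix Cfsg.Geo CfsgLib.Perm.Asch CfsgLib.Perm.Trans CfsgLib.Perm.Trans.SingerNorm

variable {F : Type*} [Field F] [Fintype F] {K : Subalgebra F (Matrix (Fin 5) (Fin 5) F)}

/-- the index of the normaliser is one modulo the order of the projective cycle -/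
theorem Sing.index_congr (S : Sing K) {M : Subgroup (GL (Fin 5) F)}
    (hNM : subalgebraNormalizer K ⊓ specialLinear (Fin 5) F ≤ M) (hM : M ≤ specialLinear (Fin 5) F) :
    ∃ k, Nat.card M = 5 * phi5 (Fintype.card F) * k ∧ cyc (Fintype.card F) ∣ k - 1 ∧ 0 < k := by
  obtain ⟨q, hq⟩ : ∃ q, q = Fintype.card F := ⟨_, rfl⟩
  rw [← hq]
  obtain ⟨N₀, hN₀⟩ : ∃ N₀, N₀ = subalgebraNormalizer K ⊓ specialLinear (Fin 5) F := ⟨_, rfl⟩
  rw [← hN₀] at hNM
  obtain ⟨N', hN'⟩ : ∃ N', N' = N₀.subgroupOf M := ⟨_, rfl⟩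
  have hcardN : Nat.card N' = 5 * phi5 q := by
    rw [hN', Nat.card_congr (Subgroup.subgroupOfEquivOfLe hNM).toEquiv, hN₀,
      card_normalizer Nat.prime_five S.hK, phi_five, hq]
  have hprod := Subgroup.card_mul_index N'
  rw [hcardN] at hprod
  refine ⟨N'.index, hprod.symm, ?_, Nat.pos_of_ne_zero Subgroup.index_ne_zero_of_finite⟩
  obtain ⟨d, hd⟩ : ∃ d, d = dd q := ⟨_, rfl⟩
  have hdN : d * cyc q = phi5 q := hd ▸ dd_mul_cyc q
  have hd0 : 0 < d := by rw [hd, dd]; split_ifs <;> norm_num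
  have hN0 : 0 < cyc q := by
    refine Nat.pos_of_ne_zero fun e => ?_
    rw [e, mul_zero, phi5] at hdN
    omega
  have hdcop : Nat.Coprime (cyc q) d := by
    rw [hd, dd]
    split_ifs
    · exact ((Nat.prime_five.coprime_iff_not_dvd).2 (cyc_coprime q).2.2).symm
    · exact Nat.coprime_one_right _
  have hcdM : S.c ^ d ∈ M := hNM (hN₀ ▸ S.pow_mem d)
  obtain ⟨D, hD⟩ : ∃ D : Subgroup M, D = Subgroup.zpowers (⟨S.c ^ d, hcdM⟩ : M) := ⟨_, rfl⟩
  have hcardD : Nat.card D = cyc q := by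
    rw [hD, Nat.card_zpowers, ← Subgroup.orderOf_coe, orderOf_pow, S.order, ← hq, ← hdN,
      Nat.gcd_eq_right (dvd_mul_right _ _), Nat.mul_div_cancel_left _ hd0]
  have hfix : ∀ x : D, ∀ g : M, g⁻¹ * x * g ∈ N' → x = 1 ∨ g ∈ N' := by
    intro x g hx
    obtain ⟨i, hi⟩ := mem_powers_iff_mem_zpowers.2 ((SetLike.ext_iff.1 hD (x : M)).1 x.2)
    simp only at hi
    have hxe : ((x : M) : GL (Fin 5) F) = S.c ^ (d * i) := by rw [← hi, SubmonoidClass.coe_pow, pow_mul]
    by_contra hcon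
    push Not at hcon
    have hi0 : ¬ cyc q ∣ 5 * (d * i) := fun h => by
      have h1 : cyc q ∣ d * i := (((Nat.prime_five.coprime_iff_not_dvd).2 (cyc_coprime q).2.2).symm).dvd_of_dvd_mul_left h
      obtain ⟨e, he⟩ := hdcop.dvd_of_dvd_mul_left h1
      refine hcon.1 (Subtype.ext (Subtype.ext ?_))
      show ((x : M) : GL (Fin 5) F) = 1
      rw [hxe, he, ← mul_assoc, hdN, pow_mul, hq, ← S.order, pow_orderOf_eq_one, one_pow]
    have hns : ∀ a : F, ((((x : M) : GL (Fin 5) F) ^ 5 : GL (Fin 5) F) : Matrix (Fin 5) (Fin 5) F) ≠ a • 1 := by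
      intro a h
      refine hi0 ?_
      rw [hxe, ← pow_mul, mul_comm (d * i)] at h
      rw [hq]
      exact (S.scalar_iff _).1 ⟨a, h⟩
    have hxK : ((((x : M) : GL (Fin 5) F) ^ 5 : GL (Fin 5) F) : Matrix (Fin 5) (Fin 5) F) ∈ K := by
      rw [hxe, ← pow_mul]; exact S.pow_field _
    have hfifth : ∀ h ∈ N₀, ((h ^ 5 : GL (Fin 5) F) : Matrix (Fin 5) (Fin 5) F) ∈ K := by
      intro h hh
      rw [hN₀] at hh
      obtain ⟨l, -, hl⟩ := S.norm h hh.1
      obtain ⟨Q, hQ⟩ : ∃ Q, Q = Fintype.card F ^ l := ⟨_, rfl⟩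
      rw [← hQ] at hl
      have hl' : ∀ b : ℕ, h⁻¹ * S.c ^ b * h = S.c ^ (Q * b) := fun b => by
        have := conj_pow (a := h⁻¹) (b := S.c) (i := b)
        rw [inv_inv] at this
        rw [← this, hl, ← pow_mul]
      have hit : ∀ m : ℕ, (h ^ m)⁻¹ * S.c * h ^ m = S.c ^ Q ^ m := fun m => by
        induction m with
        | zero => simp
        | succ m ih =>
          calc (h ^ (m + 1))⁻¹ * S.c * h ^ (m + 1) = h⁻¹ * ((h ^ m)⁻¹ * S.c * h ^ m) * h := by rw [pow_succ]; group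
            _ = S.c ^ Q ^ (m + 1) := by rw [ih, hl', pow_succ']
      have hfix5 : S.c ^ Q ^ 5 = S.c := by
        have h1 : Fintype.card F ^ 5 = (Fintype.card F - 1) * phi5 (Fintype.card F) + 1 := by
          obtain ⟨r, hr⟩ : ∃ r, Fintype.card F = r + 1 := ⟨Fintype.card F - 1, by have := Fintype.card_pos (α := F); omega⟩
          rw [hr, Nat.add_sub_cancel, phi5]
          ring
        have h0 : ∀ b : ℕ, S.c ^ (Fintype.card F ^ 5) ^ b = S.c := fun b => by
          induction b with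
          | zero => simp
          | succ b ih =>
            rw [pow_succ, pow_mul, ih, h1, pow_succ, mul_comm _ (phi5 _), pow_mul, ← S.order, pow_orderOf_eq_one,
              one_pow, one_mul]
        rw [show Q ^ 5 = (Fintype.card F ^ 5) ^ l by rw [hQ, ← pow_mul, ← pow_mul, mul_comm]]
        exact h0 l
      refine mem_of_commute Nat.prime_five S.hK S.c_field S.c_ns ?_
      rw [← Units.val_mul, ← Units.val_mul]
      refine congrArg Units.val ?_
      have h5 := hit 5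
      rw [hfix5] at h5
      exact (inv_mul_eq_iff_eq_mul.1 ((mul_assoc _ _ _).symm.trans h5)).symm
    have hgx : (((g : GL (Fin 5) F)⁻¹ * ((x : M) : GL (Fin 5) F) * g) ^ 5 : GL (Fin 5) F) =
        (g : GL (Fin 5) F)⁻¹ * ((x : M) : GL (Fin 5) F) ^ 5 * g := by
      have := conj_pow (a := (g : GL (Fin 5) F)⁻¹) (b := ((x : M) : GL (Fin 5) F)) (i := 5)
      rwa [inv_inv] at this
    have h1 := hfifth _ (show ((g⁻¹ * (x : M) * g : M) : GL (Fin 5) F) ∈ N₀ by
      rw [hN'] at hx; exact Subgroup.mem_subgroupOf.1 hx)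
    rw [Subgroup.coe_mul, Subgroup.coe_mul, Subgroup.coe_inv, hgx, Units.val_mul, Units.val_mul] at h1
    refine hcon.2 ?_
    rw [hN', Subgroup.mem_subgroupOf, hN₀, Subgroup.mem_inf]
    refine ⟨inv_mem_iff.1 (mem_normalizer Nat.prime_five S.hK hxK hns ?_), hM g.2⟩
    rwa [inv_inv]
  obtain ⟨X, hX⟩ : ∃ X : Finset (M ⧸ N'), X = Finset.univ.erase ((1 : M) : M ⧸ N') := ⟨_, rfl⟩
  have h := ThreeDim.SingTv.free_dvd_finset (G := D) X (fun a z => (a : M) • z) (fun a z hz => ?_) (fun z => by simp)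
    (fun a b z => by simp [mul_smul]) (fun a z hz h => ?_)
  · rw [hcardD, hX, Finset.card_erase_of_mem (Finset.mem_univ _), Finset.card_univ, ← Nat.card_eq_fintype_card] at h
    exact h
  · rw [hX, Finset.mem_erase] at hz ⊢
    refine ⟨fun e => hz.1 ?_, Finset.mem_univ _⟩
    have haN : (a : M) ∈ N' := by
      obtain ⟨i, hi⟩ := mem_powers_iff_mem_zpowers.2 ((SetLike.ext_iff.1 hD (a : M)).1 a.2)
      simp only at hi
      rw [hN', Subgroup.mem_subgroupOf, ← hi]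
      exact Subgroup.pow_mem _ (hN₀ ▸ S.pow_mem d) i
    rw [← inv_smul_smul (a : M) z, e]
    exact QuotientGroup.eq.2 (by simpa using haN)
  · rw [hX, Finset.mem_erase] at hz
    obtain ⟨g, rfl⟩ := QuotientGroup.mk_surjective z
    have h2 : g⁻¹ * (a : M) * g ∈ N' := by
      have h3 : (((a : M) * g : M) : M ⧸ N') = (g : M ⧸ N') := h
      rw [mul_assoc]
      exact QuotientGroup.eq.1 h3.symm
    rcases hfix a g h2 with h4 | h4
    · exact h4
    · exact absurd (QuotientGroup.eq.2 (by simpa using h4)) hz.1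

/-- the shape of the order of a stabiliser: with the one exception over four elements its part prime to
the characteristic is the largest possible -/
theorem stab_shape {p e : ℕ} (hp : p.Prime) (he : 0 < e) {W : ℕ}
    (hk : ∃ k, W = 5 * k ∧ cyc (p ^ e) ∣ k - 1 ∧ 0 < k)
    (hdvd : phi5 (p ^ e) * W ∣ ordSL (p ^ e)) (htr : phi5 (p ^ e) - 1 ∣ W) :
    ∃ i, i ≤ 9 * e ∧
      ((W = p ^ (e + i) * (((p ^ e) + 1) * ((p ^ e) ^ 2 + 1) * rest (p ^ e)) ∧
          (p ^ e = 2 → i = 4 ∨ i = 9)) ∨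
        (p ^ e = 4 ∧ W = 2 ^ (i + 2) * 1785 ∧ (i = 4 ∨ i = 14))) := by
  obtain ⟨q, hq⟩ : ∃ q, q = p ^ e := ⟨_, rfl⟩
  rw [← hq] at hk hdvd htr ⊢
  have hq2 : 2 ≤ q := hq ▸ hp.two_le.trans (Nat.le_self_pow he.ne' p)
  obtain ⟨k, hWk, hkN, hk0⟩ := hk
  obtain ⟨P, hP⟩ : ∃ P, P = (q + 1) * (q ^ 2 + 1) := ⟨_, rfl⟩
  have hphi1 : phi5 q - 1 = q * P := by
    have : phi5 q = q * P + 1 := by rw [phi5, hP]; ring
    omega
  obtain ⟨w, hw⟩ := htr
  rw [hphi1] at hw
  have hphi0 : 0 < phi5 q := by rw [phi5]; omega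
  have hord : ordSL q = phi5 q * (q * P * (q ^ 9 * rest q)) := by rw [ordSL, rest, hP]; ring
  rw [hord, hw] at hdvd
  have hP0 : 0 < P := by rw [hP]; positivity
  have hwdvd : w ∣ q ^ 9 * rest q :=
    Nat.dvd_of_mul_dvd_mul_left (Nat.mul_pos (by omega) hP0) (Nat.dvd_of_mul_dvd_mul_left hphi0 hdvd)
  have hprest : ¬ p ∣ rest q := by
    have hpq : p ∣ q := hq ▸ dvd_pow_self p he.ne'
    intro h
    rw [rest] at h
    rcases (Nat.Prime.dvd_mul hp).1 h with h | h
    · rcases (Nat.Prime.dvd_mul hp).1 h with h | h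
      · have h1 := hp.dvd_of_dvd_pow h
        have h2 := Nat.dvd_sub hpq h1
        rw [show q - (q - 1) = 1 by omega] at h2
        exact hp.not_dvd_one h2
      · exact hp.not_dvd_one ((Nat.dvd_add_right hpq).1 h)
    · exact hp.not_dvd_one ((Nat.dvd_add_right (dvd_add (dvd_pow hpq two_ne_zero) hpq)).1 h)
  have hw0 : w ≠ 0 := fun h => by rw [h, mul_zero, hWk] at hw; omega
  haveI := Fact.mk hp
  obtain ⟨i, y, hy, hwy⟩ : ∃ i y, ¬ p ∣ y ∧ w = p ^ i * y :=
    ⟨_, _, Nat.not_dvd_ordCompl hp hw0, (Nat.ordProj_mul_ordCompl_eq_self w p).symm⟩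
  have hcop : Nat.Coprime (p ^ i) (rest q) := Nat.Coprime.pow_left _ ((hp.coprime_iff_not_dvd).2 hprest)
  have hyrest : y ∣ rest q :=
    ((((hp.coprime_iff_not_dvd).2 hy).symm).pow_right (e * 9)).dvd_of_dvd_mul_left
      (by rw [pow_mul, ← hq]; exact (Dvd.intro_left _ hwy.symm).trans hwdvd)
  have hi9 : i ≤ 9 * e := by
    have h1 : p ^ i ∣ q ^ 9 := hcop.dvd_of_dvd_mul_right ((Dvd.intro _ hwy.symm).trans hwdvd)
    rw [hq, ← pow_mul, Nat.pow_dvd_pow_iff_le_right hp.one_lt] at h1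
    omega
  obtain ⟨z, hz⟩ := hyrest
  refine ⟨i, hi9, ?_⟩
  obtain ⟨N, hN⟩ : ∃ N, N = cyc q := ⟨_, rfl⟩
  rw [← hN] at hkN
  have hN30 : 30 ≤ N - 1 := (hN ▸ one_lt_cyc hq2).1
  haveI : NeZero N := ⟨by omega⟩
  have hNphi : N ∣ phi5 q := hN ▸ Dvd.intro_left _ (dd_mul_cyc q)
  have hphiZ : ((phi5 q : ℕ) : ZMod N) = 0 := (ZMod.natCast_eq_zero_iff _ _).2 hNphi
  have h5u : IsUnit ((5 : ℕ) : ZMod N) := by
    rw [ZMod.isUnit_iff_coprime, hN]
    exact (Nat.prime_five.coprime_iff_not_dvd).2 (cyc_coprime q).2.2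
  have hk1 : ((k : ℕ) : ZMod N) = 1 := by
    have h := (ZMod.natCast_eq_zero_iff _ _).2 hkN
    rwa [Nat.cast_sub hk0, Nat.cast_one, sub_eq_zero] at h
  have hqP : ((q * P : ℕ) : ZMod N) = -1 := by
    have h : ((q * P + 1 : ℕ) : ZMod N) = 0 := by
      rw [show q * P + 1 = phi5 q by rw [phi5, hP]; ring]; exact hphiZ
    push_cast at h ⊢
    exact eq_neg_of_add_eq_zero_left h
  have hw5 : ((p : ZMod N) ^ i * y) = -5 := by
    have h := congrArg (fun n : ℕ => (n : ZMod N)) (hWk.symm.trans hw)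
    simp only [Nat.cast_mul, hk1, mul_one, hwy, Nat.cast_pow] at h
    rw [Nat.cast_mul] at hqP
    rw [hqP] at h
    linear_combination h
  have hrestZ : ((rest q : ℕ) : ZMod N) = -5 * (p : ZMod N) ^ e := by
    obtain ⟨r, hr⟩ : ∃ r, q = r + 1 := ⟨q - 1, by omega⟩
    have hid : (rest q : ℤ) + 5 * q = phi5 q * ((q : ℤ) ^ 3 - 3 * (q : ℤ) ^ 2 + 2 * q + 1) := by
      rw [hr, rest, Nat.add_sub_cancel, phi5]
      push_cast
      ring
    have h := congrArg (fun n : ℤ => (n : ZMod N)) hid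
    push_cast at h
    rw [hphiZ, zero_mul] at h
    rw [← Nat.cast_pow, ← hq]
    linear_combination h
  have hp5e : (p : ZMod N) ^ (5 * e) = 1 := by
    have h1 : q ^ 5 = (q - 1) * phi5 q + 1 := by
      obtain ⟨r, hr⟩ : ∃ r, q = r + 1 := ⟨q - 1, by omega⟩
      rw [hr, Nat.add_sub_cancel, phi5]
      ring
    have h2 := congrArg (fun n : ℕ => (n : ZMod N)) h1
    push_cast at h2
    rw [hphiZ, mul_zero, zero_add, hq, Nat.cast_pow, ← pow_mul] at h2
    rw [mul_comm]; exact h2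
  have hred : ∀ a : ℕ, (p : ZMod N) ^ a = (p : ZMod N) ^ (a % (5 * e)) := fun a => by
    conv_lhs => rw [← Nat.mod_add_div a (5 * e), pow_add, pow_mul, hp5e, one_pow, mul_one]
  have hpu : ∀ a : ℕ, IsUnit ((p : ZMod N) ^ a) := fun a => by
    refine IsUnit.pow a ?_
    refine IsUnit.of_mul_eq_one ((p : ZMod N) ^ (5 * e - 1)) ?_
    rw [← pow_succ', show 5 * e - 1 + 1 = 5 * e by omega, hp5e]
  obtain ⟨j, hj⟩ : ∃ j, j = (e + i) % (5 * e) := ⟨_, rfl⟩
  have hjlt : j < 5 * e := hj ▸ Nat.mod_lt _ (by omega)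
  have hz1 : (z : ZMod N) = (p : ZMod N) ^ j := by
    refine h5u.mul_left_cancel ?_
    rw [hj, ← hred, pow_add]
    have h := congrArg (fun n : ℕ => (n : ZMod N)) hz
    simp only [Nat.cast_mul, hrestZ] at h
    push_cast
    linear_combination ((p : ZMod N) ^ i) * h + (z : ZMod N) * hw5
  have hy1 : (y : ZMod N) + 5 * (p : ZMod N) ^ ((6 * e - j) % (5 * e)) = 0 := by
    refine (hpu i).mul_left_cancel ?_
    rw [← hred, mul_zero, mul_add, hw5, ← mul_assoc, mul_comm ((p : ZMod N) ^ i) 5, mul_assoc, ← pow_add,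
      hred (i + (6 * e - j))]
    have : (i + (6 * e - j)) % (5 * e) = 0 := by
      have hdm := Nat.mod_add_div (e + i) (5 * e)
      rw [← hj] at hdm
      obtain ⟨t, ht⟩ : ∃ t, t = (e + i) / (5 * e) := ⟨_, rfl⟩
      rw [← ht] at hdm
      rw [show i + (6 * e - j) = 5 * e * t + 5 * e by omega, ← Nat.mul_succ, Nat.mul_mod_right]
    rw [this, pow_zero, mul_one, neg_add_cancel]
  have hpz : ¬ p ∣ z := fun h => hprest (hz ▸ dvd_mul_of_dvd_right h y)
  have hzmod : z % cyc q = p ^ j % cyc q := by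
    rw [← hN]
    exact (ZMod.natCast_eq_natCast_iff' _ _ N).1 (by rw [hz1, Nat.cast_pow])
  have hymod : (y + 5 * p ^ ((6 * e - j) % (5 * e))) % cyc q = 0 := by
    rw [← hN]
    refine Nat.mod_eq_zero_of_dvd ?_
    rw [← ZMod.natCast_eq_zero_iff]
    push_cast
    exact hy1
  rw [hq] at hzmod hymod hz
  rcases cofactor_eq_one hp he hjlt hz.symm hpz hzmod hymod with hz' | ⟨h4, hz'⟩
  · left
    subst hz'
    rw [mul_one] at hz
    refine ⟨by rw [hw, hwy, ← hz, hP, hq, pow_add]; ring, fun h2 => ?_⟩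
    obtain ⟨rfl, rfl⟩ : p = 2 ∧ e = 1 := by
      have hp2 : p = 2 := (Nat.prime_dvd_prime_iff_eq hp Nat.prime_two).1 (h2 ▸ hq ▸ dvd_pow_self p he.ne')
      subst hp2
      refine ⟨rfl, ?_⟩
      by_contra hc
      have : 2 ^ 2 ≤ 2 ^ e := Nat.pow_le_pow_right (by norm_num) (by omega)
      omega
    norm_num at hq
    subst hq
    have e31 : cyc (2 ^ 1) = 31 := by decide
    rw [e31] at hymod
    norm_num [rest] at hz
    subst hz
    interval_cases i <;> simp_all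
  · right
    rw [← hq] at h4
    obtain ⟨rfl, rfl⟩ : p = 2 ∧ e = 2 := by
      have hp2 : p = 2 := (Nat.prime_dvd_prime_iff_eq hp Nat.prime_two).1
        (hp.dvd_of_dvd_pow (show p ∣ 2 ^ 2 by
          rw [show (2 : ℕ) ^ 2 = q by rw [h4]; rfl, hq]; exact dvd_pow_self p he.ne'))
      subst hp2
      refine ⟨rfl, Nat.pow_right_injective le_rfl ?_⟩
      show 2 ^ e = 2 ^ 2
      rw [← hq, h4]
    norm_num at hq
    subst hq
    subst hz'
    have hy21 : y = 21 := by norm_num [rest] at hz; omega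
    subst hy21
    have hwv : W = 2 ^ (i + 2) * 1785 := by rw [hw, hwy, hP]; ring
    refine ⟨rfl, hwv, ?_⟩
    have e341 : cyc 4 = 341 := by decide
    norm_num at hzmod
    rw [e341] at hzmod
    norm_num at hi9
    interval_cases i <;> simp_all

end CfsgLib.Perm.Trans.FiveDim
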