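import Cfsg.Agent.Lib.Perm.Trans.FiveDim.SingerStab
import Cfsg.Agent.Lib.Perm.Trans.ThreeDim.SingTvBase

/-!
# Two small fields
-/

set_option autoImplicit false
set_option linter.all false

namespace CfsgLib.Perm.Trans.FiveDim

open scoped Classical Matrix LinearAlgebra.Projectivization
open Matrix Cfsg.Geo CfsgLib.Perm.Asch CfsgLib.Perm.Trans

variable {F : Type*} [Field F] [Fintype F]

/-- no subgroup of index two in the general linear group of degree four over two elements -/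
theorem not_index_two (h2 : Fintype.card F = 2) (R : Subgroup (GL (Fin 4) F)) : R.index ≠ 2 := by
  intro hR
  have hbin : ∀ a : F, a ≠ 0 → a = 1 := fun a ha => by
    have := FiniteField.pow_card_sub_one_eq_one a ha
    rwa [h2, show 2 - 1 = 1 from rfl, pow_one] at this
  have hall : ∀ A : Matrix (Fin 4) (Fin 4) F, A.det ≠ 0 → ∀ g : GL (Fin 4) F,
      (g : Matrix (Fin 4) (Fin 4) F) = A → g ∈ R := by
    intro A hA
    refine Matrix.diagonal_transvection_induction_of_det_ne_zero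
      (fun A => ∀ g : GL (Fin 4) F, (g : Matrix (Fin 4) (Fin 4) F) = A → g ∈ R) A hA ?_ ?_ ?_
    · intro D hD g hg
      have hg1 : g = 1 := Units.ext (by
        rw [hg, Units.val_one, ← Matrix.diagonal_one]
        congr 1
        funext k
        refine hbin _ fun e => hD ?_
        rw [Matrix.det_diagonal]
        exact Finset.prod_eq_zero (Finset.mem_univ k) e)
      rw [hg1]
      exact R.one_mem
    · intro t g hg
      obtain ⟨k, hk1, hk2⟩ : ∃ k : Fin 4, k ≠ t.i ∧ k ≠ t.j := by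
        have : ∀ i j : Fin 4, ∃ k : Fin 4, k ≠ i ∧ k ≠ j := by decide
        exact this _ _
      obtain ⟨u, hu⟩ : ∃ u : GL (Fin 4) F, (u : Matrix (Fin 4) (Fin 4) F) = Matrix.transvection t.i k t.c :=
        ⟨⟨Matrix.transvection t.i k t.c, Matrix.transvection t.i k (-t.c),
          by rw [Matrix.transvection_mul_transvection_same _ _ hk1.symm, add_neg_cancel, Matrix.transvection_zero],
          by rw [Matrix.transvection_mul_transvection_same _ _ hk1.symm, neg_add_cancel, Matrix.transvection_zero]⟩, rfl⟩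
      obtain ⟨v, hv⟩ : ∃ v : GL (Fin 4) F, (v : Matrix (Fin 4) (Fin 4) F) = Matrix.transvection k t.j 1 :=
        ⟨⟨Matrix.transvection k t.j 1, Matrix.transvection k t.j (-1),
          by rw [Matrix.transvection_mul_transvection_same _ _ hk2, add_neg_cancel, Matrix.transvection_zero],
          by rw [Matrix.transvection_mul_transvection_same _ _ hk2, neg_add_cancel, Matrix.transvection_zero]⟩, rfl⟩
      have hij := t.hij
      have he : g * (v * u) = u * v := Units.ext (by
        rw [Units.val_mul, Units.val_mul, Units.val_mul, hg, hu, hv, Matrix.TransvectionStruct.toMatrix]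
        simp only [Matrix.transvection, add_mul, mul_add, one_mul, mul_one]
        simp [Matrix.single_mul_single_of_ne, hij, hij.symm, hk1, hk1.symm, hk2, hk2.symm]
        abel)
      have h1 : g * (v * u) ∈ R ↔ u * v ∈ R := by rw [he]
      rw [Subgroup.mul_mem_iff_of_index_two hR, Subgroup.mul_mem_iff_of_index_two hR,
        Subgroup.mul_mem_iff_of_index_two hR] at h1
      tauto
    · intro A B hA hB ihA ihB g hg
      obtain ⟨a, ha⟩ : ∃ a : GL (Fin 4) F, (a : Matrix (Fin 4) (Fin 4) F) = A :=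
        ⟨Matrix.GeneralLinearGroup.mkOfDetNeZero A hA, rfl⟩
      obtain ⟨b, hb⟩ : ∃ b : GL (Fin 4) F, (b : Matrix (Fin 4) (Fin 4) F) = B :=
        ⟨Matrix.GeneralLinearGroup.mkOfDetNeZero B hB, rfl⟩
      have : g = a * b := Units.ext (by rw [hg, Units.val_mul, ha, hb])
      rw [this]
      exact R.mul_mem (ihA a ha) (ihB b hb)
  have htop : R = ⊤ := eq_top_iff.2 fun g _ => hall _ (by
    intro e
    exact Units.ne_zero (Matrix.GeneralLinearGroup.det g) (by rw [Matrix.GeneralLinearGroup.val_det_apply]; exact e))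
    g rfl
  rw [htop, Subgroup.index_top] at hR
  exact absurd hR (by norm_num)

/-- a point fixed by an element of order seven is fixed as a vector -/
theorem fix_vec_of_seven (hF : Fintype.card F = 4) {x : GL (Fin 5) F} (hx : x ^ 7 = 1) {v : Fin 5 → F} (hv : v ≠ 0)
    (h : x • Projectivization.mk F v hv = Projectivization.mk F v hv) : (x : Matrix (Fin 5) (Fin 5) F) *ᵥ v = v := by
  obtain ⟨a, ha⟩ := (fix_iff hv).1 h
  have hit : ∀ k : ℕ, ((x ^ k : GL (Fin 5) F) : Matrix (Fin 5) (Fin 5) F) *ᵥ v = a ^ k • v := fun k => by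
    induction k with
    | zero => simp
    | succ k ih => rw [pow_succ, Units.val_mul, ← mulVec_mulVec, ha, mulVec_smul, ih, smul_smul, pow_succ']
  have h7 := hit 7
  rw [hx, Units.val_one, one_mulVec] at h7
  have ha7 : a ^ 7 = 1 := smul_left_injective F hv (show a ^ 7 • v = (1 : F) • v by rw [← h7, one_smul])
  have ha0 : a ≠ 0 := fun e => by rw [e] at ha7; norm_num at ha7
  have ha3 : a ^ 3 = 1 := by
    have := FiniteField.pow_card_sub_one_eq_one a ha0
    rwa [hF] at this
  have : a = 1 := by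
    calc a = a ^ 7 * ((a ^ 3) ^ 2)⁻¹ := by field_simp
      _ = 1 := by rw [ha7, ha3]; simp
  rw [ha, this, one_smul]

/-- an element of order seven over four elements is not conjugate to its inverse, and an involution
centralising one is a transvection -/
theorem tv_of_seven (hF : Fintype.card F = 4) {x t : GL (Fin 5) F} (hx : orderOf x = 7) (ht : orderOf t = 2)
    {v w : Fin 5 → F} (hvw : LinearIndependent F ![v, w]) (hxv : (x : Matrix (Fin 5) (Fin 5) F) *ᵥ v = v)
    (hxw : (x : Matrix (Fin 5) (Fin 5) F) *ᵥ w = w) (hconj : t * x * t⁻¹ = x ∨ t * x * t⁻¹ = x⁻¹) :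
    ∃ (u φ : Fin 5 → F) (h : φ ⬝ᵥ u = 0), u ≠ 0 ∧ φ ≠ 0 ∧ t = tv u φ h := by
  haveI : Fact (Nat.Prime 7) := ⟨by norm_num⟩
  have hchar : CharP F 2 := by
    obtain ⟨p, hp⟩ := CharP.exists F
    obtain ⟨⟨f, hf⟩, hpp, hpf⟩ := FiniteField.card F p
    rw [hF] at hpf
    have : p = 2 := (Nat.prime_dvd_prime_iff_eq hpp Nat.prime_two).1 (hpp.dvd_of_dvd_pow
      (show p ∣ 2 ^ 2 by rw [show (2 : ℕ) ^ 2 = 4 from rfl, hpf]; exact dvd_pow_self p hf.ne'))
    subst this
    exact hp
  have h7 : (7 : F) = 1 := by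
    have h2 : (2 : F) = 0 := CharTwo.two_eq_zero
    linear_combination (3 : F) * h2
  have h55 : (5 : F) = 1 := by
    have h2 : (2 : F) = 0 := CharTwo.two_eq_zero
    linear_combination (2 : F) * h2
  obtain ⟨X, hX⟩ : ∃ X, X = (x : Matrix (Fin 5) (Fin 5) F) := ⟨_, rfl⟩
  have hX7 : X ^ 7 = 1 := by rw [hX, ← Units.val_pow_eq_pow_val, ← hx, pow_orderOf_eq_one, Units.val_one]
  obtain ⟨E, hE⟩ : ∃ E, E = ∑ k ∈ Finset.range 7, X ^ k := ⟨_, rfl⟩
  have hXE : X * E = E := by
    rw [hE, Finset.mul_sum]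
    simp only [Finset.sum_range_succ, Finset.sum_range_zero, zero_add, ← pow_succ', hX7]
    simp only [Nat.reduceAdd, pow_zero, hX7]
    abel
  have hEfix : ∀ z : Fin 5 → F, X *ᵥ z = z → E *ᵥ z = z := by
    intro z hz
    have : ∀ k : ℕ, X ^ k *ᵥ z = z := fun k => by
      induction k with
      | zero => simp
      | succ k ih => rw [pow_succ, ← mulVec_mulVec, hz, ih]
    rw [hE, Matrix.sum_mulVec, Finset.sum_congr rfl (g := fun _ => z) fun k _ => this k, Finset.sum_const,
      Finset.card_range, ← Nat.cast_smul_eq_nsmul F, show ((7 : ℕ) : F) = 1 by exact_mod_cast h7, one_smul]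
  -- the two parts
  let Fx : Submodule F (Fin 5 → F) := LinearMap.ker (Matrix.toLin' (X - 1))
  have hFx : ∀ z, z ∈ Fx ↔ X *ᵥ z = z := fun z => by
    show Matrix.toLin' (X - 1) z = 0 ↔ _
    rw [Matrix.toLin'_apply, sub_mulVec, one_mulVec, sub_eq_zero]
  let Wk : Submodule F (Fin 5 → F) := LinearMap.ker (Matrix.toLin' E)
  have hWk : ∀ z, z ∈ Wk ↔ E *ᵥ z = 0 := fun z => by
    show Matrix.toLin' E z = 0 ↔ _
    rw [Matrix.toLin'_apply]
  have hproj : LinearMap.IsProj Fx (Matrix.toLin' E) := ⟨fun z => (hFx _).2 (by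
      rw [Matrix.toLin'_apply, mulVec_mulVec, hXE]), fun z hz => by
      rw [Matrix.toLin'_apply]; exact hEfix z ((hFx z).1 hz)⟩
  -- invariant subspaces inside the complement
  have hdimW : ∀ U : Submodule F (Fin 5 → F), U ≤ Wk → (∀ z ∈ U, X *ᵥ z ∈ U) →
      Module.finrank F U = 0 ∨ Module.finrank F U = 3 := by
    intro U hU hinv
    have hd : Nat.card (Subgroup.zpowers x) ∣ ((Finset.univ.filter fun z => z ∈ U).erase 0).card := by
      refine ThreeDim.SingTv.free_dvd_finset (G := Subgroup.zpowers x) _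
        (fun g z => ((g : GL (Fin 5) F) : Matrix (Fin 5) (Fin 5) F) *ᵥ z) (fun g z hz => ?_) (fun z => by simp)
        (fun g h z => by rw [Subgroup.coe_mul, gl_mul_mulVec]) (fun g z hz e => ?_)
      · simp only [Finset.mem_erase, Finset.mem_filter, Finset.mem_univ, true_and] at hz ⊢
        refine ⟨fun e => hz.1 (gl_mulVec_eq_zero.1 e), ?_⟩
        obtain ⟨k, hk⟩ := mem_powers_iff_mem_zpowers.2 g.2
        rw [← hk]
        simp only [Units.val_pow_eq_pow_val, ← hX]
        clear hk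
        induction k with
        | zero => simpa using hz.2
        | succ k ih => rw [pow_succ', ← mulVec_mulVec]; exact hinv _ ih
      · simp only [Finset.mem_erase, Finset.mem_filter, Finset.mem_univ, true_and] at hz
        by_contra hg
        have hxg : (⟨x, Subgroup.mem_zpowers x⟩ : Subgroup.zpowers x) ∈ Subgroup.zpowers g :=
          mem_zpowers_of_prime_card (by rw [Nat.card_zpowers, hx]) hg
        obtain ⟨k, hk⟩ := mem_powers_iff_mem_zpowers.2 hxg
        have hk' : (g : GL (Fin 5) F) ^ k = x := congrArg Subtype.val hk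
        have hfix : X *ᵥ z = z := by
          rw [hX, ← hk']
          clear hk hk'
          induction k with
          | zero => simp
          | succ k ih => rw [pow_succ, gl_mul_mulVec, e, ih]
        exact hz.1 ((hEfix z hfix).symm.trans ((hWk z).1 (hU hz.2)))
    rw [Nat.card_zpowers, hx, Finset.card_erase_of_mem (by simp), ← Fintype.card_subtype] at hd
    have hdle : Module.finrank F U ≤ 5 := (Submodule.finrank_le U).trans (by simp)
    rw [← Nat.card_eq_fintype_card] at hd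
    have hc : Nat.card {z // z ∈ U} = 4 ^ Module.finrank F U := by
      rw [show Nat.card {z // z ∈ U} = Nat.card U from rfl, Module.natCard_eq_pow_finrank (K := F),
        Nat.card_eq_fintype_card, hF]
    rw [hc] at hd
    obtain ⟨d, hd'⟩ : ∃ d, d = Module.finrank F U := ⟨_, rfl⟩
    rw [← hd'] at hd hdle ⊢
    interval_cases d <;> first | exact Or.inl rfl | exact Or.inr rfl | norm_num at hd
  have hdimFx : Module.finrank F Wk + Module.finrank F Fx = 5 := by
    have h := Submodule.finrank_add_eq_of_isCompl hproj.isCompl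
    simpa [Wk, add_comm] using h
  have hFx2 : 2 ≤ Module.finrank F Fx := by
    have hsub : Set.range ![v, w] ⊆ (Fx : Set (Fin 5 → F)) := by
      rintro _ ⟨k, rfl⟩
      fin_cases k
      · exact (hFx v).2 (hX ▸ hxv)
      · exact (hFx w).2 (hX ▸ hxw)
    have h1 := Submodule.finrank_mono (Submodule.span_le.2 hsub)
    rwa [finrank_span_eq_card hvw, Fintype.card_fin] at h1
  have hWkinv : ∀ z ∈ Wk, X *ᵥ z ∈ Wk := fun z hz => by
    have hc : E * X = X * E := by rw [hE, Finset.sum_mul, Finset.mul_sum]; simp [← pow_succ, ← pow_succ']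
    rw [hWk, mulVec_mulVec, hc, ← mulVec_mulVec, (hWk z).1 hz, mulVec_zero]
  have hW3 : Module.finrank F Wk = 3 := by
    rcases hdimW Wk le_rfl hWkinv with h | h
    · exfalso
      have htop : Fx = ⊤ := Submodule.eq_top_of_finrank_eq (by rw [Module.finrank_fin_fun]; omega)
      have hx1 : x = 1 := gl_ext_vec fun z => by
        rw [Units.val_one, one_mulVec, ← hX]
        exact (hFx z).1 (htop ▸ Submodule.mem_top)
      rw [hx1, orderOf_one] at hx
      omega
    · exact h
  rcases hconj with hcomm | hinv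
  swap
  · -- the traces
    exfalso
    have htr : ∀ A : Matrix (Fin 5) (Fin 5) F, (A ^ 4).trace = A.trace := fun A => by
      have h := FiniteField.trace_pow_card A
      rw [hF] at h
      rw [h]
      have h' := FiniteField.pow_card A.trace
      rwa [hF] at h'
    have hinvX : X ^ 6 = ((x⁻¹ : GL (Fin 5) F) : Matrix (Fin 5) (Fin 5) F) := by
      rw [hX, ← Units.val_pow_eq_pow_val]
      congr 1
      exact eq_inv_of_mul_eq_one_left (by rw [← pow_succ]; show x ^ 7 = 1; rw [← hx, pow_orderOf_eq_one])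
    have h6 : (X ^ 6).trace = X.trace := by
      rw [hinvX, ← hinv, Units.val_mul, Units.val_mul, Matrix.trace_mul_comm, ← mul_assoc, gl_inv_mul, one_mul, hX]
    have hred : ∀ a : ℕ, X ^ a = X ^ (a % 7) := fun a => by
      conv_lhs => rw [← Nat.mod_add_div a 7, pow_add, pow_mul, hX7, one_pow, mul_one]
    have h4 : (X ^ 4).trace = X.trace := htr X
    have h2 : (X ^ 2).trace = X.trace := by
      have := htr (X ^ 4)
      rw [← pow_mul, hred] at this
      norm_num at this
      rw [this, h4]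
    have h3 : (X ^ 3).trace = X.trace := by
      have := htr (X ^ 6)
      rw [← pow_mul, hred] at this
      norm_num at this
      rw [this, h6]
    have h5 : (X ^ 5).trace = X.trace := by
      have := htr (X ^ 3)
      rw [← pow_mul, hred] at this
      norm_num at this
      rw [this, h3]
    have hEt : E.trace = 1 := by
      rw [hE, Matrix.trace_sum]
      simp only [Finset.sum_range_succ, Finset.sum_range_zero, zero_add, pow_one, h2, h3, h4, h5, h6, pow_zero,
        Matrix.trace_one, Fintype.card_fin]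
      have h2' : (2 : F) = 0 := CharTwo.two_eq_zero
      push_cast
      linear_combination (2 : F) * h2' + (3 * X.trace) * h2'
    have h := hproj.trace
    rw [Matrix.trace_toLin'_eq, hEt, show Module.finrank F Fx = 2 by omega] at h
    rw [Nat.cast_ofNat, CharTwo.two_eq_zero] at h
    exact one_ne_zero h
  -- the centralising involution
  obtain ⟨T, hT⟩ : ∃ T, T = (t : Matrix (Fin 5) (Fin 5) F) := ⟨_, rfl⟩
  have hTX : T * X = X * T := by
    rw [hT, hX, ← Units.val_mul, ← Units.val_mul, ← mul_inv_eq_iff_eq_mul.1 hcomm]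
  have hT2 : T * T = 1 := by rw [hT, ← Units.val_mul, ← pow_two, ← ht, pow_orderOf_eq_one, Units.val_one]
  obtain ⟨Nm, hNm⟩ : ∃ Nm, Nm = T - 1 := ⟨_, rfl⟩
  have hN2 : Nm * Nm = 0 := by
    haveI : CharP (Matrix (Fin 5) (Fin 5) F) 2 := CfsgLib.Perm.Asch.matrix_charP 2
    rw [hNm, sub_mul, mul_sub, mul_sub, hT2]
    simp only [one_mul, mul_one]
    have : (1 : Matrix (Fin 5) (Fin 5) F) + 1 = 0 := CharTwo.add_self_eq_zero 1
    have h' : T + T = 0 := CharTwo.add_self_eq_zero T
    calc 1 - T - (T - 1) = (1 + 1) - (T + T) := by abel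
      _ = 0 := by rw [this, h', sub_zero]
  have hNX : Nm * X = X * Nm := by rw [hNm, sub_mul, mul_sub, hTX, one_mul, mul_one]
  have hTE : Nm * E = E * Nm := by
    rw [hE, Finset.mul_sum, Finset.sum_mul]
    exact Finset.sum_congr rfl fun k _ => (Commute.pow_right hNX k).eq
  have hNW : ∀ z ∈ Wk, Nm *ᵥ z = 0 := by
    let U : Submodule F (Fin 5 → F) := Wk ⊓ LinearMap.ker (Matrix.toLin' Nm)
    have hUmem : ∀ z, z ∈ U ↔ z ∈ Wk ∧ Nm *ᵥ z = 0 := fun z => by
      show z ∈ Wk ∧ Matrix.toLin' Nm z = 0 ↔ _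
      rw [Matrix.toLin'_apply]
    have hUinv : ∀ z ∈ U, X *ᵥ z ∈ U := fun z hz => by
      rw [hUmem] at hz ⊢
      exact ⟨hWkinv z hz.1, by rw [mulVec_mulVec, hNX, ← mulVec_mulVec, hz.2, mulVec_zero]⟩
    have hUne : U ≠ ⊥ := by
      intro hbot
      have hWne : Wk ≠ ⊥ := fun e => by rw [e, finrank_bot] at hW3; omega
      obtain ⟨z, hz, hz0⟩ := Submodule.exists_mem_ne_zero_of_ne_bot hWne
      have hNz : Nm *ᵥ z ∈ U := (hUmem _).2 ⟨by
        rw [hWk, mulVec_mulVec, ← hTE, ← mulVec_mulVec, (hWk z).1 hz, mulVec_zero], by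
        rw [mulVec_mulVec, hN2, zero_mulVec]⟩
      rw [hbot, Submodule.mem_bot] at hNz
      have hzU : z ∈ U := (hUmem z).2 ⟨hz, hNz⟩
      rw [hbot, Submodule.mem_bot] at hzU
      exact hz0 hzU
    intro z hz
    rcases hdimW U inf_le_left hUinv with h | h
    · exact absurd (Submodule.finrank_eq_zero.1 h) hUne
    · have hUW : U = Wk := Submodule.eq_of_le_of_finrank_eq inf_le_left (by omega)
      exact ((hUmem z).1 (hUW ▸ hz)).2
  have hN0 : Nm ≠ 0 := fun e => by
    have : t = 1 := Units.ext (by rw [← hT, Units.val_one, ← sub_eq_zero, ← hNm, e])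
    rw [this, orderOf_one] at ht
    omega
  -- the image is a line
  obtain ⟨z₀, hz₀⟩ : ∃ z, Nm *ᵥ z ≠ 0 := by
    by_contra hcon
    push Not at hcon
    exact hN0 (Matrix.ext_iff_mulVec.2 fun z => by rw [hcon z, zero_mulVec])
  have hEN : ∀ z, Nm *ᵥ z = Nm *ᵥ (E *ᵥ z) := fun z => by
    have h1 : z - E *ᵥ z ∈ Wk := by
      rw [hWk, mulVec_sub, hEfix _ (show X *ᵥ (E *ᵥ z) = E *ᵥ z by rw [mulVec_mulVec, hXE]), sub_self]
    have h2 := hNW _ h1
    rwa [mulVec_sub, sub_eq_zero] at h2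
  obtain ⟨p₀, hp₀⟩ : ∃ p₀, p₀ = E *ᵥ z₀ := ⟨_, rfl⟩
  obtain ⟨u, hu⟩ : ∃ u, u = Nm *ᵥ p₀ := ⟨_, rfl⟩
  have hu0 : u ≠ 0 := by rw [hu, hp₀, ← hEN]; exact hz₀
  have hNu : Nm *ᵥ u = 0 := by rw [hu, mulVec_mulVec, hN2, zero_mulVec]
  have hpF : p₀ ∈ Fx := (hFx _).2 (by rw [hp₀, mulVec_mulVec, hXE])
  have huF : u ∈ Fx := (hFx _).2 (by
    rw [hu, mulVec_mulVec, ← hNX, ← mulVec_mulVec, (hFx p₀).1 hpF])
  have hli : LinearIndependent F ![u, p₀] := by
    refine LinearIndependent.pair_iff.2 fun a b hab => ?_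
    have h := congrArg (fun z => Nm *ᵥ z) hab
    simp only [mulVec_add, mulVec_smul, hNu, smul_zero, zero_add, mulVec_zero, ← hu] at h
    have hb : b = 0 := (smul_eq_zero.1 h).resolve_right hu0
    rw [hb, zero_smul, add_zero] at hab
    exact ⟨(smul_eq_zero.1 hab).resolve_right hu0, hb⟩
  have hspan : Submodule.span F (Set.range ![u, p₀]) = Fx := by
    refine Submodule.eq_of_le_of_finrank_eq (Submodule.span_le.2 ?_) ?_
    · rintro _ ⟨k, rfl⟩
      fin_cases k <;> assumption
    · rw [finrank_span_eq_card hli, Fintype.card_fin]; omega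
  have hline : ∀ z, ∃ b : F, Nm *ᵥ z = b • u := by
    intro z
    have hzF : E *ᵥ z ∈ Submodule.span F (Set.range ![u, p₀]) := hspan ▸ (hFx _).2 (by rw [mulVec_mulVec, hXE])
    obtain ⟨c, hc⟩ := (Submodule.mem_span_range_iff_exists_fun F).1 hzF
    refine ⟨c 1, ?_⟩
    rw [hEN, ← hc]
    simp [Fin.sum_univ_two, mulVec_add, mulVec_smul, hNu, ← hu]
  choose bf hbf using hline
  let L : (Fin 5 → F) →ₗ[F] F :=
    { toFun := bf
      map_add' := fun a b => smul_left_injective F hu0 (show bf (a + b) • u = (bf a + bf b) • u by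
        rw [add_smul, ← hbf, ← hbf, ← hbf, mulVec_add])
      map_smul' := fun r a => smul_left_injective F hu0 (show bf (r • a) • u = (r * bf a) • u by
        rw [← hbf, ← smul_smul, ← hbf, mulVec_smul]) }
  have hφu : fvec L ⬝ᵥ u = 0 := by
    rw [fvec_dot]
    exact (smul_eq_zero.1 (show bf u • u = 0 by rw [← hbf, hNu])).resolve_right hu0
  refine ⟨u, fvec L, hφu, hu0, fun e => ?_, gl_ext_vec fun z => ?_⟩
  · refine hz₀ ?_
    rw [hbf z₀, show bf z₀ = fvec L ⬝ᵥ z₀ from (fvec_dot L z₀).symm, e, zero_dotProduct, zero_smul]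
  · rw [tv_mulVec, fvec_dot, ← hT, show L z = bf z from rfl, ← hbf, hNm, sub_mulVec, one_mulVec]
    abel

/-- the remaining group over four elements does not exist -/
theorem four_case (hF : Fintype.card F = 4) {M : Subgroup (GL (Fin 5) F)} (hM : M ≤ specialLinear (Fin 5) F)
    (h2 : MulAction.IsMultiplyPretransitive M (Pt F) 2) (h0 : A0 M = ⊥)
    (hW : Nat.card (stab0 M) = 2 ^ 6 * 1785) : False := by
  haveI : Fact (Nat.Prime 7) := ⟨by norm_num⟩
  haveI : Finite (Pt F) := inferInstance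
  rw [MulAction.is_two_pretransitive_iff] at h2
  have hmove : ∀ {a b c d : Pt F}, a ≠ b → c ≠ d → ∃ g ∈ M, g • a = c ∧ g • b = d := fun {a b c d} hab hcd => by
    obtain ⟨g, h1, h3⟩ := @h2 a b c d hab hcd
    exact ⟨g, g.2, h1, h3⟩
  obtain ⟨w, hw⟩ : ∃ w : Fin 5 → F, w = Pi.single 1 1 := ⟨_, rfl⟩
  have hw0 : w ≠ 0 := by simp [hw]
  obtain ⟨y, hy⟩ : ∃ y : Pt F, y = Projectivization.mk F w hw0 := ⟨_, rfl⟩
  have hli : LinearIndependent F ![(e0 : Fin 5 → F), w] := by
    refine LinearIndependent.pair_iff.2 fun a b hab => ?_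
    have h1 := congrFun hab 0
    have h3 := congrFun hab 1
    simp [e0, hw] at h1 h3
    exact ⟨h1, h3⟩
  have hy0 : (pt0 : Pt F) ≠ y := by
    intro e
    rw [hy, pt0, Projectivization.mk_eq_mk_iff'] at e
    obtain ⟨a, ha⟩ := e
    have := (LinearIndependent.pair_iff.1 hli 1 (-a) (by rw [← ha]; module)).1
    exact one_ne_zero this
  -- the stabiliser of two points
  let H : Subgroup (GL (Fin 5) F) := stab0 M ⊓ MulAction.stabilizer _ y
  have hidx : (MulAction.stabilizer (stab0 M) y).index = 340 := by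
    have horb : MulAction.orbit (stab0 M) y = {pt0}ᶜ := by
      ext z
      simp only [MulAction.mem_orbit_iff, Set.mem_compl_iff, Set.mem_singleton_iff]
      constructor
      · rintro ⟨g, rfl⟩ he
        refine hy0 ?_
        have h1 : (g : GL (Fin 5) F) • y = (g : GL (Fin 5) F) • (pt0 : Pt F) := he.trans (g.2.2).symm
        exact (smul_left_cancel _ h1).symm
      · intro hz
        obtain ⟨g, hg, h1, h3⟩ := hmove hy0 (Ne.symm hz)
        exact ⟨⟨g, hg, h1⟩, h3⟩
    rw [MulAction.index_stabilizer, horb, Set.ncard_compl, Set.ncard_singleton,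
      Projectivization.card_of_finrank F (Fin 5 → F) (n := 5) (by simp), Nat.card_eq_fintype_card, hF]
    rfl
  have hHcard : Nat.card H = 336 := by
    have h := Subgroup.card_mul_index (MulAction.stabilizer (stab0 M) y)
    rw [hidx, hW] at h
    have hcongr : Nat.card (MulAction.stabilizer (stab0 M) y) = Nat.card H := Nat.card_congr
      { toFun := fun g => ⟨g.1.1, g.1.2, g.2⟩
        invFun := fun g => ⟨⟨g.1, g.2.1⟩, g.2.2⟩
        left_inv := fun g => rfl
        right_inv := fun g => rfl }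
    omega
  haveI : Finite H := Subtype.finite
  obtain ⟨P⟩ : Nonempty (Sylow 7 H) := inferInstance
  have hPcard : Nat.card (P : Subgroup H) = 7 := by
    rw [P.card_eq_multiplicity, hHcard]
    have : (336 : ℕ).factorization 7 = 1 := by
      rw [show (336 : ℕ) = 7 ^ 1 * 48 by rfl, Nat.factorization_mul (by norm_num) (by norm_num)]
      simp [Nat.factorization_eq_zero_of_not_dvd, (show Nat.Prime 7 by norm_num).factorization_self]
    rw [this, pow_one]
  -- an element swapping the two points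
  obtain ⟨σ, hσM, hσ1, hσ2⟩ := hmove hy0 hy0.symm
  have hnorm : ∀ g : GL (Fin 5) F, g ∈ H → σ * g * σ⁻¹ ∈ H := by
    rintro g ⟨⟨hgM, hg1⟩, hg2⟩
    have hs1 : σ⁻¹ • (pt0 : Pt F) = y := inv_smul_eq_iff.2 hσ2.symm
    have hs2 : σ⁻¹ • y = (pt0 : Pt F) := inv_smul_eq_iff.2 hσ1.symm
    refine ⟨⟨M.mul_mem (M.mul_mem hσM hgM) (M.inv_mem hσM), ?_⟩, ?_⟩
    · show (σ * g * σ⁻¹) • (pt0 : Pt F) = pt0
      rw [mul_smul, mul_smul, hs1, show g • y = y from hg2, hσ2]
    · show (σ * g * σ⁻¹) • y = y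
      rw [mul_smul, mul_smul, hs2, show g • (pt0 : Pt F) = pt0 from hg1, hσ1]
  obtain ⟨⟨x, hxH⟩, hxP⟩ : ∃ x : (P : Subgroup H), orderOf x = 7 :=
    exists_prime_orderOf_dvd_card' 7 (by rw [hPcard])
  obtain ⟨xg, hxg⟩ : ∃ xg : GL (Fin 5) F, xg = (x : GL (Fin 5) F) := ⟨_, rfl⟩
  have hxord : orderOf xg = 7 := by
    have h1 := hxP
    rw [← Subgroup.orderOf_coe, ← Subgroup.orderOf_coe] at h1
    rw [hxg]; exact h1
  -- conjugate the image back
  let φc : H →* H :=
    { toFun := fun g => ⟨σ * g * σ⁻¹, hnorm g g.2⟩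
      map_one' := Subtype.ext (by simp)
      map_mul' := fun a b => Subtype.ext (by simp [mul_assoc]) }
  have hφc : Function.Injective φc := fun a b h =>
    Subtype.ext (mul_left_cancel (mul_right_cancel (congrArg Subtype.val h)))
  obtain ⟨Q, hQ⟩ : ∃ Q : Sylow 7 H, (Q : Subgroup H) = (P : Subgroup H).map φc := by
    refine ⟨Sylow.ofCard ((P : Subgroup H).map φc) ?_, rfl⟩
    rw [Subgroup.card_map_of_injective hφc, P.card_eq_multiplicity]
  obtain ⟨h, hh⟩ := MulAction.exists_smul_eq H Q P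
  obtain ⟨g, hg⟩ : ∃ g : GL (Fin 5) F, g = (h : GL (Fin 5) F) * σ := ⟨_, rfl⟩
  have hgx : ∀ z : H, z ∈ (P : Subgroup H) → ∃ z' : H, z' ∈ (P : Subgroup H) ∧
      (z' : GL (Fin 5) F) = g * z * g⁻¹ := by
    intro z hz
    refine ⟨h * φc z * h⁻¹, ?_, ?_⟩
    · rw [← hh, Sylow.smul_def, Sylow.pointwise_smul_def, hQ]
      exact ⟨φc z, ⟨z, hz, rfl⟩, rfl⟩
    · rw [hg, Subgroup.coe_mul, Subgroup.coe_mul, Subgroup.coe_inv, _root_.mul_inv_rev]
      show (h : GL (Fin 5) F) * (σ * z * σ⁻¹) * _ = _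
      group
  have hgy : g • (pt0 : Pt F) = y ∧ g • y = pt0 := by
    rw [hg, mul_smul, mul_smul, hσ1, hσ2]
    exact ⟨h.2.2, h.2.1.2⟩
  have hgM : g ∈ M := hg ▸ M.mul_mem h.2.1.1 hσM
  have hpowx : ∀ z : H, z ∈ (P : Subgroup H) → ∃ k : ℕ, (z : GL (Fin 5) F) = xg ^ k := by
    intro z hz
    have hgen : (⟨z, hz⟩ : (P : Subgroup H)) ∈ Subgroup.zpowers ⟨x, hxH⟩ :=
      mem_zpowers_of_prime_card hPcard fun e => by rw [e, orderOf_one] at hxP; omega
    obtain ⟨k, hk⟩ := mem_powers_iff_mem_zpowers.2 hgen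
    refine ⟨k, ?_⟩
    have h1 := congrArg (fun q : (P : Subgroup H) => ((q : H) : GL (Fin 5) F)) hk
    simp only [SubmonoidClass.coe_pow] at h1
    rw [hxg]; exact h1.symm
  have hgxk : ∀ m : ℕ, ∃ k : ℕ, g ^ m * xg * (g ^ m)⁻¹ = xg ^ k := by
    intro m
    induction m with
    | zero => exact ⟨1, by simp⟩
    | succ m ih =>
      obtain ⟨k, hk⟩ := ih
      obtain ⟨z', hz', hze⟩ := hgx (x ^ k) (Subgroup.pow_mem _ hxH k)
      obtain ⟨k', hk'⟩ := hpowx z' hz'
      refine ⟨k', ?_⟩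
      rw [← hk', hze, SubmonoidClass.coe_pow, ← hxg, ← hk, pow_succ']
      group
  -- an involution in the normaliser
  haveI : Fact (Nat.Prime 2) := ⟨Nat.prime_two⟩
  obtain ⟨o, ho⟩ : ∃ o, o = orderOf g := ⟨_, rfl⟩
  have hoeven : 2 ∣ o := by
    have hswap : ∀ m : ℕ, g ^ (2 * m + 1) • (pt0 : Pt F) = y := fun m => by
      induction m with
      | zero => simpa using hgy.1
      | succ m ih =>
        rw [show 2 * (m + 1) + 1 = 1 + 1 + (2 * m + 1) by ring, pow_add, mul_smul, ih, pow_add, pow_one, mul_smul,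
          hgy.2, hgy.1]
    by_contra hodd
    obtain ⟨m, hm⟩ : ∃ m, o = 2 * m + 1 := ⟨o / 2, by omega⟩
    have h1 := hswap m
    rw [← hm, ho, pow_orderOf_eq_one, one_smul] at h1
    exact hy0 h1
  obtain ⟨t, ht⟩ : ∃ t, t = g ^ (o / 2) := ⟨_, rfl⟩
  have htord : orderOf t = 2 := by
    have hopos : 0 < o := ho ▸ orderOf_pos g
    rw [ht, orderOf_pow, ← ho, Nat.gcd_eq_right (Nat.div_dvd_of_dvd hoeven), Nat.div_div_self hoeven hopos.ne']
  have htM : t ∈ M := ht ▸ M.pow_mem hgM _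
  obtain ⟨k, hk⟩ := hgxk (o / 2)
  rw [← ht] at hk
  have hxg7 : xg ^ 7 = 1 := by rw [← hxord, pow_orderOf_eq_one]
  have hk2 : xg ^ (k * k) = xg := by
    have h2t : t * t = 1 := by rw [← pow_two, ← htord, pow_orderOf_eq_one]
    calc xg ^ (k * k) = (t * xg * t⁻¹) ^ k := by rw [hk, pow_mul]
      _ = t * xg ^ k * t⁻¹ := conj_pow
      _ = (t * t) * xg * (t * t)⁻¹ := by rw [← hk]; group
      _ = xg := by rw [h2t]; simp
  have hk7 : k * k % 7 = 1 := by
    have h1 := (pow_eq_pow_iff_modEq (x := xg) (n := k * k) (m := 1)).1 (by rw [pow_one]; exact hk2)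
    rw [hxord] at h1
    exact h1
  have hconj : t * xg * t⁻¹ = xg ∨ t * xg * t⁻¹ = xg⁻¹ := by
    rw [hk]
    have hkm : k % 7 = 1 ∨ k % 7 = 6 := by
      rw [Nat.mul_mod] at hk7
      have : k % 7 < 7 := Nat.mod_lt _ (by norm_num)
      interval_cases k % 7 <;> simp_all
    rw [← pow_mod_orderOf, hxord]
    rcases hkm with e | e <;> rw [e]
    · exact Or.inl (pow_one _)
    · exact Or.inr (eq_inv_of_mul_eq_one_left (by rw [← pow_succ]; exact hxg7))
  have hxH' : xg ∈ H := hxg ▸ x.2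
  have hxv := fix_vec_of_seven hF hxg7 e0_ne hxH'.1.2
  have hxw := fix_vec_of_seven hF hxg7 hw0 (hy ▸ hxH'.2)
  obtain ⟨u, φ, hφu, hu0, hφ0, htv⟩ := tv_of_seven hF hxord htord hli hxv hxw hconj
  -- a transvection moved to the first point
  obtain ⟨m, hm, hmu⟩ : ∃ m ∈ M, m • Projectivization.mk F u hu0 = (pt0 : Pt F) := by
    by_cases he : Projectivization.mk F u hu0 = (pt0 : Pt F)
    · exact ⟨1, M.one_mem, by rw [one_smul]; exact he⟩
    · obtain ⟨m, hm, h1, -⟩ := hmove (a := Projectivization.mk F u hu0) (b := pt0) (c := pt0) (d := y) he hy0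
      exact ⟨m, hm, h1⟩
  rw [pt0, Projectivization.smul_mk, Projectivization.mk_eq_mk_iff'] at hmu
  obtain ⟨a, ha⟩ := hmu
  have hhas : Has M u φ := ⟨hφu, htv ▸ htM⟩
  have hh' := hhas.conj hm
  have ha' : (m : Matrix (Fin 5) (Fin 5) F) *ᵥ u = a • (e0 : Fin 5 → F) := ha.symm
  rw [ha', has_smul_iff] at hh'
  obtain ⟨ψ, hψ⟩ : ∃ ψ, ψ = a • (φ ᵥ* ((m⁻¹ : GL (Fin 5) F) : Matrix (Fin 5) (Fin 5) F)) := ⟨_, rfl⟩
  rw [← hψ] at hh'
  have hmem : (fun j : Fin 4 => ψ j.succ) ∈ A0 M := by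
    show Has M e0 _
    rw [← eq_ext0 hh'.1]
    exact hh'
  rw [h0, AddSubgroup.mem_bot] at hmem
  have hψ0 : ψ = 0 := by
    rw [eq_ext0 hh'.1, hmem]
    funext k
    refine Fin.cases ?_ (fun k' => ?_) k <;> simp [ext0]
  have ha0 : a ≠ 0 := fun e => by
    rw [e, zero_smul] at ha'
    exact hu0 (gl_mulVec_eq_zero.1 ha')
  rw [hψ0, eq_comm, smul_eq_zero] at hψ
  have h1 := hψ.resolve_left ha0
  refine hφ0 ?_
  have h3 := congrArg (fun z => z ᵥ* (m : Matrix (Fin 5) (Fin 5) F)) h1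
  simpa [vecMul_vecMul] using h3

end CfsgLib.Perm.Trans.FiveDim
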