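import Cfsg.Agent.Lib.Perm.Trans.FiveDim.SingerStab
import Cfsg.Agent.Lib.Perm.Trans.FiveDim.SingerArith
import Cfsg.Agent.Lib.Perm.Trans.ThreeDim.SingTvBase

/-!
# The transvection group of a stabiliser: scalars and elements of large order
-/

set_option autoImplicit false
set_option linter.all false

namespace CfsgLib.Perm.Trans.FiveDim

open scoped Classical Matrix LinearAlgebra.Projectivization
open Matrix Cfsg.Geo CfsgLib.Perm.Asch CfsgLib.Perm.Trans

variable {F : Type*} [Field F] [Fintype F] {M : Subgroup (GL (Fin 5) F)}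

theorem rest_coprime {p e : ℕ} (hp : p.Prime) (he : 0 < e) :
    ¬ p ∣ ((p ^ e + 1) * ((p ^ e) ^ 2 + 1) * rest (p ^ e)) := by
  obtain ⟨q, hq⟩ : ∃ q, q = p ^ e := ⟨_, rfl⟩
  rw [← hq]
  have hpq : p ∣ q := hq ▸ dvd_pow_self p he.ne'
  have hq1 : 1 ≤ q := hq ▸ Nat.one_le_pow _ _ hp.pos
  intro h
  rw [rest] at h
  rcases (Nat.Prime.dvd_mul hp).1 h with h | h
  · rcases (Nat.Prime.dvd_mul hp).1 h with h | h
    · exact hp.not_dvd_one ((Nat.dvd_add_right hpq).1 h)
    · exact hp.not_dvd_one ((Nat.dvd_add_right (dvd_pow hpq two_ne_zero)).1 h)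
  · rcases (Nat.Prime.dvd_mul hp).1 h with h | h
    · rcases (Nat.Prime.dvd_mul hp).1 h with h | h
      · have h1 := hp.dvd_of_dvd_pow h
        have h2 := Nat.dvd_sub hpq h1
        rw [show q - (q - 1) = 1 by omega] at h2
        exact hp.not_dvd_one h2
      · exact hp.not_dvd_one ((Nat.dvd_add_right hpq).1 h)
    · exact hp.not_dvd_one ((Nat.dvd_add_right (dvd_add (dvd_pow hpq two_ne_zero) hpq)).1 h)

theorem card_GL_four : Nat.card (GL (Fin 4) F) =
    Fintype.card F ^ 6 * ((Fintype.card F + 1) * (Fintype.card F ^ 2 + 1) * rest (Fintype.card F)) := by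
  obtain ⟨r, hr⟩ : ∃ r, Fintype.card F = r + 1 := ⟨Fintype.card F - 1, by have := Fintype.card_pos (α := F); omega⟩
  rw [Matrix.card_GL_field, Fin.prod_univ_four, hr]
  simp only [Fin.val_zero, Fin.val_one, Fin.val_two, show ((3 : Fin 4) : ℕ) = 3 from rfl, rest, Nat.add_sub_cancel]
  have e : ∀ i j, i + j = 4 → (r + 1) ^ 4 - (r + 1) ^ i = (r + 1) ^ i * ((r + 1) ^ j - 1) := fun i j h => by
    rw [Nat.mul_sub, mul_one, ← pow_add, h]
  rw [e 0 4 rfl, e 1 3 rfl, e 2 2 rfl, e 3 1 rfl]
  have s : ∀ j, (r + 1) ^ j - 1 = r * ∑ i ∈ Finset.range j, (r + 1) ^ i := fun j => by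
    rcases Nat.eq_zero_or_pos r with hr0 | hr0
    · subst hr0; simp
    rw [Nat.geomSum_eq (by omega), Nat.add_sub_cancel, Nat.mul_div_cancel']
    simpa using Nat.sub_one_dvd_pow_sub_one (r + 1) j
  rw [s, s, s, s]
  simp only [Finset.sum_range_succ, Finset.sum_range_zero, zero_add]
  ring

/-- an element of large prime order leaves only the trivial and the full transvection group -/
theorem A0_cases {p e : ℕ} (hp : p.Prime) (he : 0 < e) (hF : Fintype.card F = p ^ e) [CharP F p]
    (hM : M ≤ specialLinear (Fin 5) F) {l : ℕ} (hl : l.Prime) (hlp : l ≠ p) (hlq : ¬ l ∣ Fintype.card F - 1)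
    (hlM : l ∣ Nat.card (stab0 M)) (h4 : l ∣ Fintype.card F ^ 4 - 1)
    (hsmall : ∀ k, 0 < k → k < 4 * e → ¬ l ∣ p ^ k - 1) : A0 M = ⊥ ∨ ∀ φ, φ ∈ A0 M := by
  haveI := Fact.mk hl
  haveI := Fact.mk hp
  obtain ⟨h, hh⟩ := exists_prime_orderOf_dvd_card' l hlM
  obtain ⟨op, hop⟩ : ∃ op : stab0 M → (Fin 4 → F) → (Fin 4 → F), ∀ g φ, op g φ =
      ((g : GL (Fin 5) F) : Matrix (Fin 5) (Fin 5) F) 0 0 • (φ ᵥ* ((beta M g)⁻¹ : GL (Fin 4) F).1) :=
    ⟨_, fun g φ => rfl⟩
  have hc0 : ∀ g g' : stab0 M, (((g * g' : stab0 M) : GL (Fin 5) F) : Matrix (Fin 5) (Fin 5) F) 0 0 =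
      ((g : GL (Fin 5) F) : Matrix (Fin 5) (Fin 5) F) 0 0 * ((g' : GL (Fin 5) F) : Matrix (Fin 5) (Fin 5) F) 0 0 := by
    intro g g'
    rw [Subgroup.coe_mul, Units.val_mul, Matrix.mul_apply, Fin.sum_univ_succ,
      Finset.sum_eq_zero fun k _ => by rw [column_zero g'.2.2 k, mul_zero], add_zero]
  have hmul : ∀ g g' φ, op (g * g') φ = op g (op g' φ) := fun g g' φ => by
    simp only [hop, hc0, map_mul, _root_.mul_inv_rev, Units.val_mul, Matrix.smul_vecMul, smul_smul,
      Matrix.vecMul_vecMul]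
  have hone : ∀ φ, op 1 φ = φ := fun φ => by simp [hop, Matrix.one_apply]
  let U := Subgroup.zpowers h
  have hUl : Nat.card U = l := by rw [Nat.card_zpowers, hh]
  -- the fixed functionals
  let Fix : AddSubgroup (Fin 4 → F) :=
    { carrier := {φ | op h φ = φ}
      zero_mem' := by simp [hop]
      add_mem' := fun {a b} ha hb => by
        simp only [Set.mem_setOf_eq, hop, Matrix.add_vecMul, smul_add] at ha hb ⊢
        rw [ha, hb]
      neg_mem' := fun {a} ha => by
        simp only [Set.mem_setOf_eq, hop, Matrix.neg_vecMul, smul_neg] at ha ⊢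
        rw [ha] }
  have hfree : ∀ φ, op h φ ≠ φ → ∀ u : U, op u φ = φ → u = 1 := by
    intro φ hφ u hu
    by_contra hu1
    obtain ⟨k, hk⟩ := mem_powers_iff_mem_zpowers.2
      (mem_zpowers_of_prime_card (g' := (⟨h, Subgroup.mem_zpowers h⟩ : U)) hUl hu1)
    refine hφ ?_
    have hk' : (u : stab0 M) ^ k = h := congrArg Subtype.val hk
    have hpk : ∀ k : ℕ, op ((u : stab0 M) ^ k) φ = φ := fun k => by
      induction k with
      | zero => rw [pow_zero, hone]
      | succ k ih => rw [pow_succ, hmul, hu, ih]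
    rw [← hk', hpk]
  have hdvdset : ∀ s : Finset (Fin 4 → F), (∀ φ ∈ s, op h φ ≠ φ) → (∀ φ ∈ s, op h φ ∈ s) → l ∣ s.card := by
    intro s hs hs'
    rw [← hUl]
    refine ThreeDim.SingTv.free_dvd_finset (G := U) s (fun u φ => op u φ) (fun u φ hφ => ?_) hone
      (fun u v φ => hmul u v φ) fun u φ hφ e => hfree φ (hs φ hφ) u e
    obtain ⟨k, hk⟩ := mem_powers_iff_mem_zpowers.2 u.2
    rw [← hk]
    simp only
    clear hk
    induction k with
    | zero => rwa [pow_zero, hone]
    | succ k ih => rw [pow_succ', hmul]; exact hs' _ ih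
  -- subgroups have prime power order
  have hpow : ∀ A : AddSubgroup (Fin 4 → F), ∃ k, k ≤ 4 * e ∧ Nat.card A = p ^ k := fun A => by
    have h1 := AddSubgroup.card_addSubgroup_dvd_card A
    rw [Nat.card_fun, Nat.card_fin, Nat.card_eq_fintype_card (α := F), hF, ← pow_mul, mul_comm] at h1
    obtain ⟨k, hk, hk'⟩ := (Nat.dvd_prime_pow hp).1 h1
    exact ⟨k, hk, hk'⟩
  have hq4 : Fintype.card F ^ 4 = p ^ (4 * e) := by rw [hF, ← pow_mul, mul_comm]
  -- no nonzero functional is fixed
  have hFix : Fix = ⊥ := by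
    obtain ⟨k, hk, hkc⟩ := hpow Fix
    have hd := hdvdset (Finset.univ.filter fun φ => φ ∉ Fix) (fun φ hφ => (Finset.mem_filter.1 hφ).2)
      fun φ hφ => by
        refine Finset.mem_filter.2 ⟨Finset.mem_univ _, fun e => (Finset.mem_filter.1 hφ).2 ?_⟩
        have e1 := congrArg (op h⁻¹) (show op h (op h φ) = op h φ from e)
        rwa [← hmul h⁻¹ h (op h φ), ← hmul h⁻¹ h φ, inv_mul_cancel, hone, hone] at e1
    have hcount : (Finset.univ.filter fun φ => φ ∉ Fix).card = p ^ (4 * e) - p ^ k := by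
      rw [Finset.filter_not, Finset.card_sdiff_of_subset (Finset.filter_subset _ _), Finset.card_univ,
        Fintype.card_fun, Fintype.card_fin, hq4, ← hkc, Nat.card_eq_fintype_card, Fintype.card_subtype]
    rw [hcount] at hd
    rw [hq4] at h4
    have hle : p ^ k ≤ p ^ (4 * e) := Nat.pow_le_pow_right hp.pos hk
    have h1le : 1 ≤ p ^ k := Nat.one_le_pow _ _ hp.pos
    have hk0 : l ∣ p ^ k - 1 := by
      have := Nat.dvd_sub h4 hd
      rwa [show p ^ (4 * e) - 1 - (p ^ (4 * e) - p ^ k) = p ^ k - 1 by omega] at this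
    rcases Nat.eq_zero_or_pos k with rfl | hkpos
    · exact AddSubgroup.card_eq_one.1 (by rw [hkc, pow_zero])
    rcases lt_or_eq_of_le hk with hlt | rfl
    · exact absurd hk0 (hsmall k hkpos hlt)
    exfalso
    have htop : ∀ φ, φ ∈ Fix := fun φ => by
      have : Fix = ⊤ := AddSubgroup.eq_top_of_card_eq _ (by
        rw [hkc, Nat.card_fun, Nat.card_fin, Nat.card_eq_fintype_card, hq4])
      rw [this]; trivial
    obtain ⟨α, hα⟩ : ∃ α, α = ((h : GL (Fin 5) F) : Matrix (Fin 5) (Fin 5) F) 0 0 := ⟨_, rfl⟩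
    have hb : α • ((beta M h)⁻¹ : GL (Fin 4) F).1 = 1 := by
      refine Matrix.ext fun i j => ?_
      have := congrFun (show op h (Pi.single i 1) = Pi.single i 1 from htop _) j
      rw [hop, ← hα] at this
      simpa [Matrix.one_apply, Pi.single_apply, eq_comm] using this
    have hbeta : (beta M h : Matrix (Fin 4) (Fin 4) F) = α • 1 := by
      have := congrArg (fun A => A * (beta M h : Matrix (Fin 4) (Fin 4) F)) hb
      simp only [smul_mul_assoc, ← Units.val_mul, inv_mul_cancel, Units.val_one, one_mul] at this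
      exact this.symm
    have hhl : h ^ l = 1 := by rw [← hh, pow_orderOf_eq_one]
    have hα1 : α = 1 := by
      have h1 := congrArg (fun A : GL (Fin 4) F => (A : Matrix (Fin 4) (Fin 4) F) 0 0) (congrArg (beta M) hhl)
      simp only [map_pow, Units.val_pow_eq_pow_val, hbeta, smul_pow, one_pow, map_one, Units.val_one,
        Matrix.smul_apply, Matrix.one_apply_eq, smul_eq_mul, mul_one] at h1
      have hα0 : α ≠ 0 := fun e => by rw [e, zero_pow hl.ne_zero] at h1; exact zero_ne_one h1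
      have hco : Nat.Coprime l (Fintype.card F - 1) := (hl.coprime_iff_not_dvd).2 hlq
      rw [← pow_one α, ← hco.gcd_eq_one]
      exact pow_gcd_eq_one.2 ⟨h1, FiniteField.pow_card_sub_one_eq_one α hα0⟩
    have hker : h ∈ (beta M).ker := Units.ext (by rw [hbeta, hα1, one_smul, Units.val_one])
    have h1 := Subgroup.orderOf_dvd_natCard _ hker
    rw [hh, card_ker M hM] at h1
    obtain ⟨j, -, hj⟩ := hpow (A0 M)
    rw [hj] at h1
    exact hlp ((Nat.prime_dvd_prime_iff_eq hl hp).1 (hl.dvd_of_dvd_pow h1))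
  obtain ⟨k, hk, hkc⟩ := hpow (A0 M)
  rcases Nat.eq_zero_or_pos k with rfl | hkpos
  · exact Or.inl (AddSubgroup.card_eq_one.1 (by rw [hkc, pow_zero]))
  rcases lt_or_eq_of_le hk with hlt | rfl
  · exfalso
    have hd := hdvdset ((Finset.univ.filter fun φ => φ ∈ A0 M).erase 0)
      (fun φ hφ e => by
        have : φ ∈ Fix := e
        rw [hFix, AddSubgroup.mem_bot] at this
        exact (Finset.mem_erase.1 hφ).1 this)
      fun φ hφ => by
        simp only [Finset.mem_erase, Finset.mem_filter, Finset.mem_univ, true_and] at hφ ⊢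
        refine ⟨fun e => hφ.1 ?_, by rw [hop]; exact A0_conj h hφ.2⟩
        have e1 := congrArg (op h⁻¹) e
        rw [← hmul, inv_mul_cancel, hone] at e1
        rw [e1, hop, Matrix.zero_vecMul, smul_zero]
    rw [Finset.card_erase_of_mem (by simp), ← Fintype.card_subtype, ← Nat.card_eq_fintype_card, hkc] at hd
    exact hsmall k hkpos hlt hd
  · refine Or.inr fun φ => ?_
    rw [show A0 M = ⊤ from AddSubgroup.eq_top_of_card_eq _ (by
      rw [hkc, Nat.card_fun, Nat.card_fin, Nat.card_eq_fintype_card, hq4])]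
    trivial

/-- a full part prime to the characteristic contains all scalars -/
theorem exists_scalar_lift {p e : ℕ} (hp : p.Prime) (he : 0 < e) (hF : Fintype.card F = p ^ e) [CharP F p]
    (hM : M ≤ specialLinear (Fin 5) F)
    (hfull : ((Fintype.card F + 1) * (Fintype.card F ^ 2 + 1) * rest (Fintype.card F)) ∣ Nat.card (stab0 M))
    (lam : F) (hlam : lam ≠ 0) : ∃ g : stab0 M, (beta M g : Matrix (Fin 4) (Fin 4) F) = lam • 1 := by
  haveI := Fact.mk hp
  let sc : Fˣ →* GL (Fin 4) F := Units.map (Matrix.scalar (Fin 4) : F →+* Matrix (Fin 4) (Fin 4) F).toMonoidHom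
  let R := (beta M).range
  obtain ⟨full, hfull'⟩ : ∃ t, t = (Fintype.card F + 1) * (Fintype.card F ^ 2 + 1) * rest (Fintype.card F) := ⟨_, rfl⟩
  have hA : ∃ k, Nat.card (A0 M) = p ^ k := by
    have h1 := AddSubgroup.card_addSubgroup_dvd_card (A0 M)
    rw [Nat.card_fun, Nat.card_fin, Nat.card_eq_fintype_card (α := F), hF, ← pow_mul] at h1
    obtain ⟨k, -, hk⟩ := (Nat.dvd_prime_pow hp).1 h1
    exact ⟨k, hk⟩
  obtain ⟨kA, hkA⟩ := hA
  have hpfull : ¬ p ∣ full := by rw [hfull', hF]; exact rest_coprime hp he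
  have hR : full ∣ Nat.card R := by
    rw [← hfull', card_stab M hM, hkA] at hfull
    exact (((hp.coprime_iff_not_dvd).2 hpfull).symm.pow_right kA).dvd_of_dvd_mul_right hfull
  have hcomm : ∀ u : Fˣ, ∀ g : GL (Fin 4) F, sc u * g = g * sc u := fun u g => Units.ext (by
    show Matrix.scalar (Fin 4) (u : F) * (g : Matrix (Fin 4) (Fin 4) F) = _
    exact (Matrix.scalar_commute (u : F) (fun r => Commute.all _ r) _).eq)
  let Φ : Fˣ →* GL (Fin 4) F := sc
  have hsub : sc.range ≤ R := by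
    have hnorm : sc.range.Normal := ⟨fun x hx g => by
      obtain ⟨u, rfl⟩ := hx
      rw [← hcomm, mul_inv_cancel_right]
      exact ⟨u, rfl⟩⟩
    intro x hx
    obtain ⟨u, rfl⟩ := hx
    by_contra hxR
    have h1 := Subgroup.card_subgroup_dvd_card (R ⊔ sc.range)
    rw [card_GL_four, ← hfull'] at h1
    have h2 : Nat.card (R ⊔ sc.range : Subgroup (GL (Fin 4) F)) =
        Nat.card R * R.relIndex (R ⊔ sc.range) := by
      rw [← Subgroup.relIndex_bot_left R, Subgroup.relIndex_mul_relIndex _ _ _ bot_le le_sup_left,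
        Subgroup.relIndex_bot_left]
    obtain ⟨c, hc⟩ := hR
    rw [h2, hc, hF, ← pow_mul, mul_comm (p ^ _) full, mul_assoc] at h1
    have hfull0 : 0 < full := by
      refine Nat.pos_of_ne_zero fun e => hpfull (e ▸ dvd_zero p)
    have h3 : R.relIndex (R ⊔ sc.range) ∣ p ^ (e * 6) :=
      (dvd_mul_left _ c).trans (Nat.dvd_of_mul_dvd_mul_left hfull0 h1)
    haveI := hnorm
    have h4 : R.relIndex (R ⊔ sc.range) ∣ Fintype.card F - 1 := by
      have e1 : R.relIndex (R ⊔ sc.range) = R.relIndex sc.range := by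
        have hb : ∀ A B : Subgroup (GL (Fin 4) F), A.relIndex B * Nat.card (A ⊓ B : Subgroup _) = Nat.card B := fun A B => by
          rw [← Subgroup.inf_relIndex_right, mul_comm, ← Subgroup.relIndex_bot_left (A ⊓ B),
            Subgroup.relIndex_mul_relIndex _ _ _ bot_le inf_le_right, Subgroup.relIndex_bot_left]
        have e1 := hb R (R ⊔ sc.range)
        rw [inf_of_le_left le_sup_left] at e1
        have e2 := hb sc.range (R ⊔ sc.range)
        rw [Subgroup.relIndex_sup_right R sc.range, inf_of_le_left le_sup_right] at e2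
        have e3 := hb sc.range R
        have e4 := hb R sc.range
        rw [inf_comm sc.range R] at e3
        refine Nat.eq_of_mul_eq_mul_right (Nat.card_pos (α := R)) ?_
        rw [e1, ← e2, ← e3, ← e4]
        ring
      rw [e1]
      refine (Subgroup.relIndex_dvd_card _ _).trans ((Subgroup.card_range_dvd sc).trans ?_)
      rw [Nat.card_units, Nat.card_eq_fintype_card]
    have hco : Nat.Coprime (p ^ (e * 6)) (Fintype.card F - 1) := by
      refine Nat.Coprime.pow_left _ ((hp.coprime_iff_not_dvd).2 fun h => hp.not_dvd_one ?_)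
      have h' := Nat.dvd_sub (hF ▸ dvd_pow_self p he.ne' : p ∣ Fintype.card F) h
      rwa [show Fintype.card F - (Fintype.card F - 1) = 1 by have := Fintype.card_pos (α := F); omega] at h'
    have h5 : R.relIndex (R ⊔ sc.range) = 1 := Nat.dvd_one.1 (hco ▸ Nat.dvd_gcd h3 h4)
    exact hxR (Subgroup.relIndex_eq_one.1 h5 (Subgroup.mem_sup_right ⟨u, rfl⟩))
  obtain ⟨g, hg⟩ := hsub ⟨Units.mk0 lam hlam, rfl⟩
  refine ⟨g, ?_⟩
  rw [hg]
  show Matrix.scalar (Fin 4) lam = lam • 1
  rw [Matrix.scalar_apply, Matrix.smul_one_eq_diagonal]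

/-- an additive group of transvections closed under fifth powers is a space -/
theorem smul_closed {p e : ℕ} (hp : p.Prime) (he : 0 < e) (hF : Fintype.card F = p ^ e) (hne : Fintype.card F ≠ 16)
    (A : AddSubgroup (Fin 4 → F)) (h5 : ∀ s : F, s ≠ 0 → ∀ φ ∈ A, (s ^ 5) • φ ∈ A) :
    ∀ (s : F), ∀ φ ∈ A, s • φ ∈ A := by
  let S : Subring F :=
    { carrier := {s | ∀ φ ∈ A, s • φ ∈ A}
      mul_mem' := fun {a b} ha hb φ hφ => by rw [← smul_smul]; exact ha _ (hb φ hφ)
      one_mem' := fun φ hφ => by rwa [one_smul]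
      add_mem' := fun {a b} ha hb φ hφ => by rw [add_smul]; exact A.add_mem (ha φ hφ) (hb φ hφ)
      zero_mem' := fun φ hφ => by rw [zero_smul]; exact A.zero_mem
      neg_mem' := fun {a} ha φ hφ => by rw [neg_smul]; exact A.neg_mem (ha φ hφ) }
  haveI : Fintype S := Fintype.ofFinite _
  suffices hS : S = ⊤ by
    intro s φ hφ
    exact (hS ▸ Subring.mem_top s : s ∈ S) φ hφ
  by_contra hS
  obtain ⟨q, hq⟩ : ∃ q, q = Fintype.card F := ⟨_, rfl⟩
  obtain ⟨t, ht⟩ : ∃ t, t = Fintype.card S := ⟨_, rfl⟩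
  -- the squares bound
  letI : Field S := IsField.toField (Finite.isField_of_domain S)
  obtain ⟨m, hm⟩ : ∃ m, q = t ^ m := ⟨Module.finrank S F, by rw [hq, ht]; exact Module.card_eq_pow_finrank⟩
  have htq : t < q := by
    rw [hq, ht]
    exact Fintype.card_lt_of_injective_not_surjective (fun s : S => (s : F)) Subtype.val_injective
      fun hsur => hS (Subring.ext fun x => by
        obtain ⟨s, rfl⟩ := hsur x
        simpa using s.2)
  have ht2 : 2 ≤ t := ht ▸ Fintype.one_lt_card
  have hm2 : 2 ≤ m := by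
    by_contra hc
    interval_cases m
    · rw [pow_zero] at hm; omega
    · rw [pow_one] at hm; omega
  have hsq : t * t ≤ q := by
    rw [hm, ← pow_two]
    exact Nat.pow_le_pow_right (by omega) hm2
  -- the fifth powers
  obtain ⟨g0, hg0⟩ := IsCyclic.exists_ofOrder_eq_natCard (α := Fˣ)
  rw [Nat.card_units, Nat.card_eq_fintype_card, ← hq] at hg0
  have hord : orderOf (g0 ^ 5) = (q - 1) / Nat.gcd (q - 1) 5 := by rw [orderOf_pow, hg0]
  have hle : orderOf (g0 ^ 5) + 1 ≤ t := by
    rw [ht, ← Nat.card_eq_fintype_card]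
    let f : Option (Subgroup.zpowers (g0 ^ 5)) → S := fun z => z.elim 0 fun u => ⟨((u : Fˣ) : F), by
      obtain ⟨i, hi⟩ := mem_powers_iff_mem_zpowers.2 u.2
      rw [← hi]
      show ∀ φ ∈ A, (((g0 ^ 5) ^ i : Fˣ) : F) • φ ∈ A
      rw [← pow_mul, mul_comm, pow_mul, Units.val_pow_eq_pow_val]
      exact h5 _ (Units.ne_zero _)⟩
    have hf : Function.Injective f := by
      rintro (_ | a) (_ | b) hab
      · rfl
      · exact absurd (congrArg Subtype.val hab).symm (Units.ne_zero _)
      · exact absurd (congrArg Subtype.val hab) (Units.ne_zero _)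
      · exact congrArg some (Subtype.ext (Units.ext (congrArg Subtype.val hab :)))
    have := Nat.card_le_card_of_injective f hf
    rwa [Finite.card_option, Nat.card_zpowers] at this
  rw [hord] at hle
  obtain ⟨g, hgdef⟩ : ∃ g, g = Nat.gcd (q - 1) 5 := ⟨_, rfl⟩
  rw [← hgdef] at hle
  have hg5 : g ∣ 5 := hgdef ▸ Nat.gcd_dvd_right _ _
  have hgq : g ∣ q - 1 := hgdef ▸ Nat.gcd_dvd_left _ _
  obtain ⟨r, hr⟩ := hgq
  rcases (Nat.dvd_prime Nat.prime_five).1 hg5 with h | h
  · rw [h, Nat.div_one] at hle; omega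
  · rw [h] at hle hr
    rw [hr, Nat.mul_div_cancel_left _ (by norm_num : 0 < 5)] at hle
    have ht4 : t ≤ 4 := by
      by_contra hc
      have : 5 * t ≤ t * t := Nat.mul_le_mul_right t (by omega)
      omega
    have hq16 : q ≤ 16 := by omega
    have hqne : q ≠ 16 := hq ▸ hne
    have h1 : q % 5 = 1 := by omega
    have hq11 : q = 6 ∨ q = 11 := by omega
    have hpq : ∀ k, k.Prime → k ∣ q → k = p := fun k hk hd => by
      rw [hq, hF] at hd
      exact (Nat.prime_dvd_prime_iff_eq hk hp).1 (hk.dvd_of_dvd_pow hd)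
    rcases hq11 with h6 | h11
    · have e2 := hpq 2 Nat.prime_two (by omega)
      have e3 := hpq 3 Nat.prime_three (by omega)
      omega
    · have hmk : t ∣ q := hm ▸ dvd_pow_self t (by omega)
      rw [h11] at hmk
      rcases (Nat.dvd_prime (by norm_num)).1 hmk with h' | h' <;> omega

end CfsgLib.Perm.Trans.FiveDim
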