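import Cfsg.Agent.Lib.Perm.Trans.FiveDim.SingerCount
import Cfsg.Agent.Lib.Perm.Trans.FiveDim.SingerInv
import Cfsg.Agent.Lib.Perm.Trans.FiveDim.SingerFour
import Cfsg.Agent.Lib.Perm.Asch.Proper

/-!
# Normalisers of Singer cycles are maximal in the special linear group of degree five
-/

set_option autoImplicit false
set_option linter.all false

namespace CfsgLib.Perm.Trans.FiveDim

open scoped Classical Matrix LinearAlgebra.Projectivization
open Matrix Cfsg.Geo CfsgLib.Perm.Asch CfsgLib.Perm.Trans CfsgLib.Perm.Trans.SingerNorm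

variable {F : Type*} [Field F] [Fintype F] {K : Subalgebra F (Matrix (Fin 5) (Fin 5) F)}
  {M : Subgroup (GL (Fin 5) F)}

omit [Fintype F] in
theorem move_point (h2 : MulAction.IsMultiplyPretransitive M (Pt F) 2) {a b c d : Pt F} (hab : a ≠ b) (hcd : c ≠ d) :
    ∃ g ∈ M, g • a = c ∧ g • b = d := by
  rw [MulAction.is_two_pretransitive_iff] at h2
  obtain ⟨g, h1, h3⟩ := @h2 a b c d hab hcd
  exact ⟨g, g.2, h1, h3⟩

theorem transitive_point (h2 : MulAction.IsMultiplyPretransitive M (Pt F) 2) (a b : Pt F) : ∃ g ∈ M, g • a = b := by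
  haveI : Finite (Pt F) := Nat.finite_of_card_ne_zero (by rw [card_pt]; simp [phi5])
  have h2' : 1 < Nat.card (Pt F) := by
    rw [card_pt, phi5]
    have := Fintype.one_lt_card (α := F)
    omega
  haveI := Finite.one_lt_card_iff_nontrivial.1 h2'
  obtain ⟨a', ha'⟩ := exists_ne a
  obtain ⟨b', hb'⟩ := exists_ne b
  obtain ⟨g, hg, h1, -⟩ := move_point h2 ha'.symm hb'.symm
  exact ⟨g, hg, h1⟩

theorem eq_SL_of_A0 (h2 : MulAction.IsMultiplyPretransitive M (Pt F) 2) (hM : M ≤ specialLinear (Fin 5) F)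
    (h : ∀ φ, φ ∈ A0 M) : M = specialLinear (Fin 5) F := by
  refine eq_SL_of_fullSub hM (eq_top_iff.2 fun u _ => ?_)
  rcases eq_or_ne u 0 with rfl | hu
  · exact fullC_zero
  obtain ⟨g, hg, hgu⟩ := transitive_point h2 pt0 (Projectivization.mk F u hu)
  rw [pt0, Projectivization.smul_mk, Projectivization.mk_eq_mk_iff'] at hgu
  obtain ⟨a, ha⟩ := hgu
  have ha0 : a ≠ 0 := fun e => (gl_mulVec_eq_zero.not.2 (e0_ne (F := F))) (by
    show g • (e0 : Fin 5 → F) = 0
    rw [← ha, e, zero_smul])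
  have h1 : FullC M (g • (e0 : Fin 5 → F)) := FullC.conj (fullC_of_A0 h) hg
  have h3 := h1.smul a⁻¹
  rw [← ha, smul_smul, inv_mul_cancel₀ ha0, one_smul] at h3
  exact h3

theorem stab_facts (hM : M ≤ specialLinear (Fin 5) F) (h2 : MulAction.IsMultiplyPretransitive M (Pt F) 2) :
    Nat.card M = phi5 (Fintype.card F) * Nat.card (stab0 M) ∧ phi5 (Fintype.card F) - 1 ∣ Nat.card (stab0 M) := by
  haveI : Finite (Pt F) := Nat.finite_of_card_ne_zero (by rw [card_pt]; simp [phi5])
  haveI : MulAction.IsPretransitive M (Pt F) := ⟨fun a b => by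
    obtain ⟨g, hg, hgab⟩ := transitive_point h2 a b
    exact ⟨⟨g, hg⟩, hgab⟩⟩
  have hst : Nat.card (MulAction.stabilizer M (pt0 : Pt F)) = Nat.card (stab0 M) :=
    Nat.card_congr
      { toFun := fun g => ⟨g.1.1, g.1.2, g.2⟩
        invFun := fun g => ⟨⟨g.1, g.2.1⟩, g.2.2⟩
        left_inv := fun g => rfl
        right_inv := fun g => rfl }
  refine ⟨?_, ?_⟩
  · rw [← hst, ← card_pt, ← MulAction.index_stabilizer_of_transitive M (pt0 : Pt F), mul_comm,
      Subgroup.card_mul_index]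
  · obtain ⟨y, hy⟩ : ∃ y : Pt F, y ≠ pt0 := by
      have h2' : 1 < Nat.card (Pt F) := by
        rw [card_pt, phi5]
        have := Fintype.one_lt_card (α := F)
        omega
      haveI := Finite.one_lt_card_iff_nontrivial.1 h2'
      exact exists_ne _
    have horb : MulAction.orbit (stab0 M) y = {pt0}ᶜ := by
      ext z
      simp only [MulAction.mem_orbit_iff, Set.mem_compl_iff, Set.mem_singleton_iff]
      constructor
      · rintro ⟨g, rfl⟩ he
        refine hy ?_
        have h1 : (g : GL (Fin 5) F) • y = (g : GL (Fin 5) F) • (pt0 : Pt F) := he.trans (g.2.2).symm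
        exact smul_left_cancel _ h1
      · intro hz
        obtain ⟨g, hg, h1, h3⟩ := move_point h2 hy.symm (Ne.symm hz)
        exact ⟨⟨g, hg, h1⟩, h3⟩
    have h1 := MulAction.index_stabilizer (stab0 M) y
    rw [horb, Set.ncard_compl, Set.ncard_singleton, card_pt] at h1
    rw [← h1]
    exact Subgroup.index_dvd_card _

/-- the generic argument once the stabiliser has a lift of a scalar -/
theorem eq_SL_of_scalar {p e : ℕ} (hp : p.Prime) (he : 0 < e) (hF : Fintype.card F = p ^ e)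
    (hM : M ≤ specialLinear (Fin 5) F) (h2 : MulAction.IsMultiplyPretransitive M (Pt F) 2)
    (hlift : ∀ lam : F, lam ≠ 0 → ∃ g : stab0 M, (beta M g : Matrix (Fin 4) (Fin 4) F) = lam • 1)
    {lam : F} (hlam : lam ≠ 0) (hlam5 : lam ^ 5 ≠ 1)
    (h16 : Fintype.card F = 16 → A0 M = ⊥ ∨ ∀ φ, φ ∈ A0 M) : M = specialLinear (Fin 5) F := by
  have hcorner : ∀ (g : stab0 M) (s : F), (beta M g : Matrix (Fin 4) (Fin 4) F) = s • 1 →
      ((g : GL (Fin 5) F) : Matrix (Fin 5) (Fin 5) F) 0 0 * s ^ 4 = 1 := by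
    intro g s hs
    have := corner_mul M hM g
    rwa [hs, Matrix.det_smul, Matrix.det_one, mul_one, Fintype.card_fin] at this
  rcases eq_or_ne (A0 M) ⊥ with h0 | h0
  · -- a lift of a scalar is central and fixes a hyperplane
    exfalso
    obtain ⟨g, hg⟩ := hlift lam hlam
    obtain ⟨α, hα⟩ : ∃ α, α = ((g : GL (Fin 5) F) : Matrix (Fin 5) (Fin 5) F) 0 0 := ⟨_, rfl⟩
    have hαne : α ≠ lam := fun e => by
      have h := hcorner g lam hg
      rw [← hα, e, ← pow_succ'] at h
      exact hlam5 h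
    have hinj : Function.Injective (beta M) := by
      rw [← MonoidHom.ker_eq_bot_iff]
      refine Subgroup.card_eq_one.1 ?_
      rw [card_ker M hM, h0, AddSubgroup.card_bot]
    have hcent : ∀ m : stab0 M, m * g = g * m := fun m => hinj (Units.ext (by
      rw [map_mul, map_mul, Units.val_mul, Units.val_mul, hg, mul_smul_comm, smul_mul_assoc, mul_one, one_mul]))
    -- the eigenspace
    have hW : ∀ x : Fin 5 → F, ∃ c : F, ((g : GL (Fin 5) F) : Matrix (Fin 5) (Fin 5) F) *ᵥ (x - c • e0) =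
        lam • (x - c • e0) := by
      intro x
      obtain ⟨y, hy⟩ : ∃ y, y = ((g : GL (Fin 5) F) : Matrix (Fin 5) (Fin 5) F) *ᵥ x - lam • x := ⟨_, rfl⟩
      have hy0 : ∀ k : Fin 4, y k.succ = 0 := fun k => by
        have hb : ∀ j : Fin 4, ((g : GL (Fin 5) F) : Matrix (Fin 5) (Fin 5) F) k.succ j.succ =
            (lam • (1 : Matrix (Fin 4) (Fin 4) F)) k j := fun j => by rw [← hg]; rfl
        rw [hy]
        simp only [Pi.sub_apply, Pi.smul_apply, Matrix.mulVec, dotProduct]
        rw [Fin.sum_univ_succ, column_zero g.2.2 k, zero_mul, zero_add]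
        simp [hb, Matrix.one_apply]
      refine ⟨y 0 * (α - lam)⁻¹, ?_⟩
      have hye : y = y 0 • e0 := funext fun k => by
        refine Fin.cases ?_ (fun k' => ?_) k
        · simp [e0]
        · simp [e0, hy0 k']
      have hαl : (α - lam) ≠ 0 := sub_ne_zero.2 hαne
      rw [mulVec_sub, mulVec_smul, mulVec_e0_eq g.2.2, ← hα, smul_sub, smul_smul, smul_smul,
        show ((g : GL (Fin 5) F) : Matrix (Fin 5) (Fin 5) F) *ᵥ x = lam • x + y by rw [hy]; abel]
      obtain ⟨y0, hy00⟩ : ∃ y0, y0 = y 0 := ⟨_, rfl⟩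
      rw [← hy00] at hye ⊢
      rw [hye]
      have : y0 * (α - lam)⁻¹ * α = lam * (y0 * (α - lam)⁻¹) + y0 := by field_simp; ring
      rw [this]
      module
    obtain ⟨c, hc⟩ := hW (Pi.single 1 1)
    obtain ⟨w, hw⟩ : ∃ w, w = (Pi.single 1 1 : Fin 5 → F) - c • e0 := ⟨_, rfl⟩
    rw [← hw] at hc
    have hw1 : w 1 = 1 := by simp [hw, e0]
    have hw0 : w ≠ 0 := fun e => by rw [e] at hw1; simp at hw1
    have hwv0 : w + e0 ≠ 0 := fun e => by
      have := congrFun e 1
      simp [hw1, e0] at this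
    have hne : ∀ (z : Fin 5 → F) (hz : z ≠ 0), z 1 = 1 → (pt0 : Pt F) ≠ Projectivization.mk F z hz := by
      intro z hz hz1 e
      rw [pt0, Projectivization.mk_eq_mk_iff'] at e
      obtain ⟨a, ha⟩ := e
      have h1 := congrFun ha 1
      rw [Pi.smul_apply, hz1, smul_eq_mul, mul_one] at h1
      simp [e0] at h1
      rw [h1, zero_smul] at ha
      exact e0_ne ha.symm
    obtain ⟨m, hm, hm1, hm2⟩ := move_point h2 (hne w hw0 hw1) (hne (w + e0) hwv0 (by simp [hw1, e0]))
    obtain ⟨a, ha⟩ : ∃ a : F, a • (w + e0) = (m : Matrix (Fin 5) (Fin 5) F) *ᵥ w := by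
      rw [Projectivization.smul_mk, Projectivization.mk_eq_mk_iff'] at hm2
      exact hm2
    have hgm : ((g : GL (Fin 5) F) : Matrix (Fin 5) (Fin 5) F) *ᵥ ((m : Matrix (Fin 5) (Fin 5) F) *ᵥ w) =
        lam • ((m : Matrix (Fin 5) (Fin 5) F) *ᵥ w) := by
      have h := congrArg (fun z : stab0 M => ((z : GL (Fin 5) F) : Matrix (Fin 5) (Fin 5) F) *ᵥ w)
        (hcent ⟨m, hm, hm1⟩)
      simp only [Subgroup.coe_mul, Units.val_mul, ← mulVec_mulVec] at h
      rw [← h, hc, mulVec_smul]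
    have ha0 : a ≠ 0 := fun e => by
      rw [e, zero_smul] at ha
      exact hw0 (gl_mulVec_eq_zero.1 ha.symm)
    rw [← ha, mulVec_smul, mulVec_add, hc, mulVec_e0_eq g.2.2, ← hα, smul_comm lam a] at hgm
    have h3 := smul_right_injective (Fin 5 → F) ha0 hgm
    rw [smul_add, add_right_inj] at h3
    exact hαne (smul_left_injective F e0_ne h3)
  refine eq_SL_of_A0 h2 hM ?_
  by_cases hq16 : Fintype.card F = 16
  · exact (h16 hq16).resolve_left h0
  -- a space
  have h5 : ∀ s : F, s ≠ 0 → ∀ φ ∈ A0 M, (s ^ 5) • φ ∈ A0 M := by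
    intro s hs φ hφ
    obtain ⟨g, hg⟩ := hlift s⁻¹ (inv_ne_zero hs)
    have hc := hcorner g _ hg
    have h := A0_conj g hφ
    have hinv : ((beta M g)⁻¹ : GL (Fin 4) F).1 = s • 1 := by
      have h1 := congrArg (fun A => ((beta M g)⁻¹ : GL (Fin 4) F).1 * A) hg
      simp only [← Units.val_mul, inv_mul_cancel, Units.val_one, mul_smul_comm, mul_one] at h1
      calc ((beta M g)⁻¹ : GL (Fin 4) F).1 = s • (s⁻¹ • ((beta M g)⁻¹ : GL (Fin 4) F).1) := by
            rw [smul_smul, mul_inv_cancel₀ hs, one_smul]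
        _ = s • 1 := by rw [← h1]
    rw [hinv, Matrix.vecMul_smul, Matrix.vecMul_one, smul_smul] at h
    have : ((g : GL (Fin 5) F) : Matrix (Fin 5) (Fin 5) F) 0 0 = s ^ 4 := by
      rw [inv_pow, mul_inv_eq_one₀ (pow_ne_zero 4 hs)] at hc
      exact hc
    rwa [this, ← pow_succ] at h
  have hsp := smul_closed hp he hF hq16 (A0 M) h5
  let A : Submodule F (Fin 4 → F) :=
    { carrier := {φ | φ ∈ A0 M}
      zero_mem' := (A0 M).zero_mem
      add_mem' := fun ha hb => (A0 M).add_mem ha hb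
      smul_mem' := fun s φ hφ => hsp s φ hφ }
  by_contra hne
  push Not at hne
  obtain ⟨φ₀, hφ₀⟩ := hne
  obtain ⟨ψ, hψ1, hψ0⟩ := exists_dual A (x := φ₀) hφ₀
  obtain ⟨x, hx⟩ : ∃ x : Fin 5 → F, x = Fin.cons 0 ψ := ⟨_, rfl⟩
  have hxA : ∀ φ ∈ A0 M, ext0 φ ⬝ᵥ x = 0 := fun φ hφ => by
    rw [ext0_dot_apply, hx]
    simp only [Fin.cons_succ]
    rw [← hψ0 φ hφ]
    simp [dotProduct, mul_comm]
  have hx0 : x ≠ 0 := fun e => by
    have : ψ = 0 := funext fun k => by have := congrFun e k.succ; simpa [hx] using this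
    rw [this, zero_dotProduct] at hψ1
    exact zero_ne_one hψ1
  have hxne : (pt0 : Pt F) ≠ Projectivization.mk F x hx0 := by
    intro e
    rw [pt0, Projectivization.mk_eq_mk_iff'] at e
    obtain ⟨a, ha⟩ := e
    have h1 := congrFun ha 0
    simp [hx, e0] at h1
  -- all vectors are annihilated
  refine h0 ((AddSubgroup.eq_bot_iff_forall _).2 fun φ hφ => funext fun k => ?_)
  have hz : (Pi.single k.succ 1 : Fin 5 → F) ≠ 0 := by simp
  have hzne : (pt0 : Pt F) ≠ Projectivization.mk F _ hz := by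
    intro e
    rw [pt0, Projectivization.mk_eq_mk_iff'] at e
    obtain ⟨a, ha⟩ := e
    have h1 := congrFun ha 0
    simp [e0, (Fin.succ_ne_zero k).symm] at h1
  obtain ⟨m, hm, hm1, hm2⟩ := move_point h2 hzne hxne
  obtain ⟨a, ha⟩ : ∃ a : F, a • x = (m : Matrix (Fin 5) (Fin 5) F) *ᵥ Pi.single k.succ 1 := by
    rw [Projectivization.smul_mk, Projectivization.mk_eq_mk_iff'] at hm2
    exact hm2
  have h := Has.conj hφ hm
  rw [mulVec_e0_eq hm1, has_smul_iff] at h
  have hmem : (fun j : Fin 4 => ((m : Matrix (Fin 5) (Fin 5) F) 0 0 •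
      (ext0 φ ᵥ* ((m⁻¹ : GL (Fin 5) F) : Matrix (Fin 5) (Fin 5) F))) j.succ) ∈ A0 M := by
    show Has M e0 _
    rw [← eq_ext0 h.1]
    exact h
  have h1 := hxA _ hmem
  rw [← eq_ext0 h.1, smul_dotProduct, ← dotProduct_mulVec, smul_eq_mul, mul_eq_zero] at h1
  have hm00 : (m : Matrix (Fin 5) (Fin 5) F) 0 0 ≠ 0 := fun e => by
    have := corner_mul M hM ⟨m, hm, hm1⟩
    rw [e, zero_mul] at this
    exact zero_ne_one this
  have h3 := h1.resolve_left hm00
  have ha0 : a ≠ 0 := fun e => by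
    rw [e, zero_smul] at ha
    exact hz (gl_mulVec_eq_zero.1 ha.symm)
  have hxe : ((m⁻¹ : GL (Fin 5) F) : Matrix (Fin 5) (Fin 5) F) *ᵥ x = a⁻¹ • (Pi.single k.succ 1 : Fin 5 → F) := by
    rw [show x = a⁻¹ • (a • x) by rw [smul_smul, inv_mul_cancel₀ ha0, one_smul], mulVec_smul, ha, gl_inv_mulVec]
  rw [hxe, dotProduct_smul, smul_eq_mul, mul_eq_zero] at h3
  have h4 := h3.resolve_left (inv_ne_zero ha0)
  simpa [ext0] using h4

/-- normalisers of Singer cycles are maximal -/
theorem singer_five_maximal (hK : IsFieldSubalgebra 5 K) :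
    IsMaximalIn (specialLinear (Fin 5) F) (subalgebraNormalizer K ⊓ specialLinear (Fin 5) F) := by
  refine ⟨lt_SL_of_not_le (not_le_subalgebraNormalizer (by norm_num) Nat.prime_five hK), fun M hNM hM => ?_⟩
  obtain ⟨S⟩ := nonempty_sing hK
  rcases S.le_or_two_trans hNM hM with h | h2
  · exact Or.inl (le_antisymm h hNM)
  right
  obtain ⟨p, hchar⟩ := CharP.exists F
  obtain ⟨⟨e, he⟩, hp, hF⟩ := FiniteField.card F p
  rw [PNat.mk_coe] at hF
  obtain ⟨hMcard, htr⟩ := stab_facts hM h2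
  obtain ⟨k, hk, hkN, hk0⟩ := S.index_congr hNM hM
  have hphi0 : 0 < phi5 (Fintype.card F) := by rw [phi5]; omega
  have hW : Nat.card (stab0 M) = 5 * k := by
    refine Nat.eq_of_mul_eq_mul_left hphi0 ?_
    rw [← hMcard, hk]; ring
  have hdvd : phi5 (Fintype.card F) * Nat.card (stab0 M) ∣ ordSL (Fintype.card F) := by
    rw [← hMcard, ← card_SL]
    exact Subgroup.card_dvd_of_le hM
  obtain ⟨i, hi, hcase⟩ := stab_shape hp he (W := Nat.card (stab0 M)) (hF ▸ ⟨k, hW, hkN, hk0⟩) (hF ▸ hdvd) (hF ▸ htr)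
  rcases hcase with ⟨hWi, h2case⟩ | ⟨h4, hWi, hi4⟩
  · have hfull : (Fintype.card F + 1) * (Fintype.card F ^ 2 + 1) * rest (Fintype.card F) ∣ Nat.card (stab0 M) := by
      rw [hWi, hF]; exact dvd_mul_left _ _
    by_cases hq2 : Fintype.card F = 2
    · -- two elements
      obtain ⟨rfl, rfl⟩ : p = 2 ∧ e = 1 := by
        have hp2 : p = 2 := (Nat.prime_dvd_prime_iff_eq hp Nat.prime_two).1 (hq2 ▸ hF ▸ dvd_pow_self p he.ne')
        subst hp2
        refine ⟨rfl, Nat.pow_right_injective le_rfl ?_⟩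
        show 2 ^ e = 2 ^ 1
        rw [← hF, hq2]
      rcases A0_cases hp he hF hM (l := 5) Nat.prime_five (by norm_num) (by rw [hq2]; norm_num)
          (by rw [hWi]; norm_num [rest]; exact dvd_mul_of_dvd_right (by norm_num) _) (by rw [hq2]; norm_num)
          (fun k hk hk' => by interval_cases k <;> norm_num) with h0 | h0
      · rcases h2case rfl with rfl | rfl
        · exfalso
          refine not_index_two hq2 (beta M).range ?_
          have hc := card_stab M hM
          rw [hWi, h0, AddSubgroup.card_bot, mul_one] at hc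
          have hprod := Subgroup.card_mul_index (beta M).range
          rw [← hc, card_GL_four, hq2] at hprod
          norm_num [rest] at hprod
          omega
        · refine Subgroup.eq_of_le_of_card_ge hM (le_of_eq ?_)
          rw [card_SL, hMcard, hWi, hq2]
          norm_num [rest, ordSL, phi5]
      · exact eq_SL_of_A0 h2 hM h0
    -- a scalar with fifth power not one
    obtain ⟨g0, hg0⟩ := IsCyclic.exists_ofOrder_eq_natCard (α := Fˣ)
    have hne6 : Fintype.card F ≠ 6 := fun h6 => by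
      have e2 := (Nat.prime_dvd_prime_iff_eq Nat.prime_two hp).1
        (Nat.prime_two.dvd_of_dvd_pow (show 2 ∣ p ^ e by rw [← hF, h6]; norm_num))
      have e3 := (Nat.prime_dvd_prime_iff_eq Nat.prime_three hp).1
        (Nat.prime_three.dvd_of_dvd_pow (show 3 ∣ p ^ e by rw [← hF, h6]; norm_num))
      omega
    have h5 : (g0 : F) ^ 5 ≠ 1 := fun h => by
      have h' : g0 ^ 5 = 1 := Units.ext (by rw [Units.val_pow_eq_pow_val, h, Units.val_one])
      have hd := orderOf_dvd_of_pow_eq_one h'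
      rw [hg0, Nat.card_units, Nat.card_eq_fintype_card] at hd
      have := Fintype.one_lt_card (α := F)
      rcases (Nat.dvd_prime Nat.prime_five).1 hd with h'' | h'' <;> omega
    refine eq_SL_of_scalar hp he hF hM h2 (exists_scalar_lift hp he hF hM hfull) g0.ne_zero h5 fun h16 => ?_
    obtain ⟨rfl, rfl⟩ : p = 2 ∧ e = 4 := by
      have hp2 : p = 2 := (Nat.prime_dvd_prime_iff_eq hp Nat.prime_two).1
        (hp.dvd_of_dvd_pow (show p ∣ 2 ^ 4 by
          rw [show (2 : ℕ) ^ 4 = Fintype.card F by rw [h16]; rfl, hF]; exact dvd_pow_self p he.ne'))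
      subst hp2
      refine ⟨rfl, Nat.pow_right_injective le_rfl ?_⟩
      show 2 ^ e = 2 ^ 4
      rw [← hF, h16]
    refine A0_cases hp he hF hM (l := 257) (by norm_num) (by norm_num) (by rw [h16]; norm_num) ?_
      (by rw [h16]; norm_num) fun k hk hk' => by interval_cases k <;> norm_num
    rw [hWi]
    norm_num
    exact dvd_mul_of_dvd_right (dvd_mul_of_dvd_left (by norm_num) _) _
  · -- four elements
    obtain ⟨rfl, rfl⟩ : p = 2 ∧ e = 2 := by
      have hp2 : p = 2 := (Nat.prime_dvd_prime_iff_eq hp Nat.prime_two).1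
        (hp.dvd_of_dvd_pow (show p ∣ 2 ^ 2 by
          rw [show (2 : ℕ) ^ 2 = p ^ e by rw [h4]; rfl]; exact dvd_pow_self p he.ne'))
      subst hp2
      refine ⟨rfl, Nat.pow_right_injective le_rfl ?_⟩
      show 2 ^ e = 2 ^ 2
      rw [h4]
    have hF4 : Fintype.card F = 4 := by rw [hF]; rfl
    rcases A0_cases hp he hF hM (l := 17) (by norm_num) (by norm_num) (by rw [hF4]; norm_num)
        (by rw [hWi]; exact dvd_mul_of_dvd_right (by norm_num) _) (by rw [hF4]; norm_num)
        (fun k hk hk' => by interval_cases k <;> norm_num) with h0 | h0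
    · exfalso
      have hc := card_stab M hM
      rw [hWi, h0, AddSubgroup.card_bot, mul_one] at hc
      rcases hi4 with rfl | rfl
      · exact four_case hF4 hM h2 h0 (by rw [hWi])
      · have hd := Subgroup.card_subgroup_dvd_card (beta M).range
        rw [← hc, card_GL_four, hF4] at hd
        norm_num [rest] at hd
    · exact eq_SL_of_A0 h2 hM h0

end CfsgLib.Perm.Trans.FiveDim
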