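import Cfsg.Agent.Lib.Perm.Trans.FiveDim.SingerSmall
import Cfsg.Agent.Lib.Perm.DerangeIndex.CC.Orbits

/-!
# An overgroup of a Singer normaliser in degree five is doubly transitive on points
-/

set_option autoImplicit false
set_option linter.all false

namespace CfsgLib.Perm.Trans.FiveDim

open scoped Classical Matrix LinearAlgebra.Projectivization
open Matrix Cfsg.Geo CfsgLib.Perm.Asch CfsgLib.Perm.Trans CfsgLib.Perm.Trans.SingerNorm CfsgLib.DerangeIndex

variable {F : Type*} [Field F] [Fintype F] {K : Subalgebra F (Matrix (Fin 5) (Fin 5) F)}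

theorem card_pt : Nat.card (Pt F) = phi5 (Fintype.card F) := by
  rw [Projectivization.card_of_finrank F (Fin 5 → F) (n := 5) (by simp), ← phi_five, phi, Nat.card_eq_fintype_card]

theorem card_SL : Nat.card (specialLinear (Fin 5) F) = ordSL (Fintype.card F) := by
  obtain ⟨r, hr⟩ : ∃ r, Fintype.card F = r + 1 := ⟨Fintype.card F - 1, by have := Fintype.card_pos (α := F); omega⟩
  have hsurj : Function.Surjective (Matrix.GeneralLinearGroup.det : GL (Fin 5) F → Fˣ) := fun u => by
    let A : Matrix (Fin 5) (Fin 5) F := Matrix.diagonal (Function.update 1 0 (u : F))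
    have hA : A.det = u := by simp [A, Fin.prod_univ_five]
    exact ⟨Matrix.GeneralLinearGroup.mkOfDetNeZero A (by rw [hA]; exact u.ne_zero), Units.ext hA⟩
  have h := Subgroup.card_mul_index (MonoidHom.ker (Matrix.GeneralLinearGroup.det : GL (Fin 5) F →* Fˣ))
  rw [Subgroup.index_ker, MonoidHom.range_eq_top.2 hsurj, Subgroup.card_top, Matrix.card_GL_field,
    Nat.card_units, Nat.card_eq_fintype_card (α := F), hr, Nat.add_sub_cancel] at h
  show Nat.card (MonoidHom.ker (Matrix.GeneralLinearGroup.det : GL (Fin 5) F →* Fˣ)) = _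
  have hr0 : r ≠ 0 := fun e => by
    have := Fintype.one_lt_card (α := F)
    omega
  refine mul_right_cancel₀ hr0 (h.trans ?_)
  simp only [Fin.prod_univ_five, Fin.val_zero, Fin.val_one, Fin.val_two, hr, ordSL, phi5,
    show ((3 : Fin 5) : ℕ) = 3 from rfl, show ((4 : Fin 5) : ℕ) = 4 from rfl, Nat.add_sub_cancel]
  have e : ∀ i j, i + j = 5 → (r + 1) ^ 5 - (r + 1) ^ i = (r + 1) ^ i * ((r + 1) ^ j - 1) := fun i j h => by
    rw [Nat.mul_sub, mul_one, ← pow_add, h]
  rw [e 0 5 rfl, e 1 4 rfl, e 2 3 rfl, e 3 2 rfl, e 4 1 rfl]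
  have s : ∀ j, (r + 1) ^ j - 1 = r * ∑ i ∈ Finset.range j, (r + 1) ^ i := fun j => by
    rw [Nat.geomSum_eq (by omega), Nat.add_sub_cancel, Nat.mul_div_cancel']
    simpa using Nat.sub_one_dvd_pow_sub_one (r + 1) j
  rw [s, s, s, s, s]
  simp only [Finset.sum_range_succ, Finset.sum_range_zero, zero_add]
  ring

/-- An overgroup of the normaliser normalises the field or is doubly transitive on the points. -/
theorem Sing.le_or_two_trans (S : Sing K) {M : Subgroup (GL (Fin 5) F)}
    (hNM : subalgebraNormalizer K ⊓ specialLinear (Fin 5) F ≤ M) (hM : M ≤ specialLinear (Fin 5) F) :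
    M ≤ subalgebraNormalizer K ⊓ specialLinear (Fin 5) F ∨
      MulAction.IsMultiplyPretransitive M (Pt F) 2 := by
  obtain ⟨q, hq⟩ : ∃ q, q = Fintype.card F := ⟨_, rfl⟩
  have hq2 : 2 ≤ q := hq ▸ Fintype.one_lt_card
  obtain ⟨N, hN⟩ : ∃ N, N = cyc q := ⟨_, rfl⟩
  have hN30 : 30 ≤ N - 1 ∧ (q % 5 = 1 → 60 ≤ N - 1) := hN ▸ one_lt_cyc hq2
  obtain ⟨d, hd⟩ : ∃ d, d = dd q := ⟨_, rfl⟩
  have hdN : d * N = phi5 q := by rw [hd, hN]; exact dd_mul_cyc q
  haveI : Finite (Pt F) := Nat.finite_of_card_ne_zero (by rw [card_pt]; simp [phi5])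
  haveI : Nonempty (Pt F) := ⟨Projectivization.mk F (Pi.single 0 1 : Fin 5 → F) (by simp)⟩
  obtain ⟨x₀⟩ := (inferInstance : Nonempty (Pt F))
  have hcM : S.c ∈ M := hNM S.c_mem
  obtain ⟨c', hc'⟩ : ∃ c' : M, c' = ⟨S.c, hcM⟩ := ⟨_, rfl⟩
  have hc'v : ∀ i : ℕ, ((c' ^ i : M) : GL (Fin 5) F) = S.c ^ i := fun i => by rw [SubmonoidClass.coe_pow, hc']
  have hsc : ∀ i : ℕ, (∃ a : F, ((S.c ^ i : GL (Fin 5) F) : Matrix (Fin 5) (Fin 5) F) = a • 1) ↔ N ∣ i := fun i => by
    rw [hN, hq]; exact S.scalar_iff i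
  -- the element of prime order
  obtain ⟨l, hl, hlN⟩ := Nat.exists_prime_and_dvd (show N ≠ 1 by omega)
  have hl7 : 7 ≤ l := by
    have h := cyc_coprime q
    rw [← hN] at h
    have h2 := hl.two_le
    by_contra hc
    interval_cases l
    all_goals first | exact h.1 hlN | exact h.2.1 hlN | exact h.2.2 hlN | exact absurd hl (by norm_num)
  obtain ⟨i₀, hi₀⟩ : ∃ i₀, phi5 q = l * i₀ := hlN.trans ⟨d, by rw [← hdN, mul_comm]⟩
  have hi₀0 : 0 < i₀ := by
    refine Nat.pos_of_ne_zero fun e => ?_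
    rw [e, mul_zero, phi5] at hi₀
    omega
  have huo : orderOf (S.c ^ i₀) = l := by
    rw [orderOf_pow, S.order, ← hq, hi₀, Nat.gcd_eq_right (dvd_mul_left _ _), Nat.mul_div_cancel _ hi₀0]
  have hins : ¬ N ∣ i₀ := by
    rintro ⟨e, rfl⟩
    have h1 : N * d = N * (l * e) := by rw [mul_comm, hdN, hi₀]; ring
    have h2 := Nat.eq_of_mul_eq_mul_left (by omega) h1
    have : d ≤ 5 := by rw [hd, dd]; split_ifs <;> norm_num
    rcases Nat.eq_zero_or_pos e with he | he
    · rw [he] at hi₀0; omega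
    · have := Nat.le_mul_of_pos_right l he
      omega
  -- the orbit and its kernel
  let X := MulAction.orbit M x₀
  have hXmem : ∀ g : M, ∀ x ∈ X, (g : GL (Fin 5) F) • x ∈ X := fun g x hx => by
    rw [show (g : GL (Fin 5) F) • x = g • x from rfl]
    exact MulAction.mem_orbit_of_mem_orbit g hx
  let π : M →* Equiv.Perm X := MulAction.toPermHom M X
  have hπapp : ∀ (g : M) (x : X), ((π g x : X) : Pt F) = (g : GL (Fin 5) F) • (x : Pt F) := fun g x => rfl
  have hker : ∀ g : M, π g = 1 ↔ ∃ a : F, ((g : GL (Fin 5) F) : Matrix (Fin 5) (Fin 5) F) = a • 1 := by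
    intro g
    refine ⟨fun h => ?_, fun ⟨a, ha⟩ => Equiv.ext fun x => Subtype.ext ?_⟩
    swap
    · rw [hπapp]; exact scalar_fix ha x.1
    have hfix : ∀ g : M, π g = 1 → ∀ x ∈ X, (g : GL (Fin 5) F) • x = x := fun g hg x hx => by
      rw [← hπapp g ⟨x, hx⟩, hg]; rfl
    -- the orbit spans
    let W : Submodule F (Fin 5 → F) := Submodule.span F {w | ∃ hw : w ≠ 0, Projectivization.mk F w hw ∈ X}
    have hW : W = ⊤ := by
      refine (irred_of_mem Nat.prime_five S.hK S.c_field S.c_ns fun w hw => ?_).resolve_left fun e => ?_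
      · have hle : W ≤ W.comap (Matrix.toLin' (S.c : Matrix (Fin 5) (Fin 5) F)) := by
          refine Submodule.span_le.2 fun w ⟨hw0, hwX⟩ => ?_
          rw [SetLike.mem_coe, Submodule.mem_comap, Matrix.toLin'_apply]
          refine Submodule.subset_span ⟨fun e => hw0 (gl_mulVec_eq_zero.1 e), ?_⟩
          have := hXmem ⟨S.c, hcM⟩ _ hwX
          rwa [Projectivization.smul_mk] at this
        exact hle hw
      · induction x₀ using Projectivization.ind with
        | _ v hv =>
          have : v ∈ W := Submodule.subset_span ⟨hv, MulAction.mem_orbit_self _⟩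
          rw [e, Submodule.mem_bot] at this
          exact hv this
    -- the kernel is commutative
    have hcomm : ∀ g h : M, π g = 1 → π h = 1 → g * h = h * g := by
      intro g h hg hh
      refine Subtype.ext (Units.ext (Matrix.toLin'.injective ?_))
      refine LinearMap.ext_on hW fun w ⟨hw0, hwX⟩ => ?_
      obtain ⟨α, hα⟩ := (fix_iff hw0).1 (hfix g hg _ hwX)
      obtain ⟨β, hβ⟩ := (fix_iff hw0).1 (hfix h hh _ hwX)
      simp only [Subgroup.coe_mul, Units.val_mul, Matrix.toLin'_apply, ← mulVec_mulVec, hα, hβ, mulVec_smul, smul_smul,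
        mul_comm α β]
    have hgK := mem_of_comm_normalised Nat.prime_five S.hK hl (by omega) huo (S.pow_field i₀)
      (fun a ha => hins ((hsc i₀).1 ⟨a, ha⟩))
      (S := (fun g : M => ((g : GL (Fin 5) F) : Matrix (Fin 5) (Fin 5) F)) '' {g | π g = 1})
      (by
        rintro _ ⟨a, ha, rfl⟩ _ ⟨b, hb, rfl⟩
        show ((a : GL (Fin 5) F) : Matrix (Fin 5) (Fin 5) F) * _ = _
        rw [← Units.val_mul, ← Units.val_mul, ← Subgroup.coe_mul, ← Subgroup.coe_mul, hcomm a b ha hb])
      (by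
        rintro _ ⟨a, ha, rfl⟩
        refine ⟨c' ^ i₀ * a * (c' ^ i₀)⁻¹, ?_, ?_⟩
        · show π _ = 1
          rw [map_mul, map_mul, show π a = 1 from ha, mul_one, map_inv, mul_inv_cancel]
        · show (((c' ^ i₀ * a * (c' ^ i₀)⁻¹ : M) : GL (Fin 5) F) : Matrix (Fin 5) (Fin 5) F) = _
          rw [Subgroup.coe_mul, Subgroup.coe_mul, Subgroup.coe_inv, Units.val_mul, Units.val_mul, hc'v])
      _ ⟨g, h, rfl⟩
    exact S.scalar_of_field (hM g.2) hgK (hfix g h x₀ (MulAction.mem_orbit_self _))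
  let D : Subgroup (Equiv.Perm X) := π.range
  let π' : M →* D := π.rangeRestrict
  have hπ'surj : Function.Surjective π' := π.rangeRestrict_surjective
  have hker' : ∀ g : M, π' g = 1 ↔ ∃ a : F, ((g : GL (Fin 5) F) : Matrix (Fin 5) (Fin 5) F) = a • 1 := fun g => by
    rw [← hker g, Subtype.ext_iff]; rfl
  have hact : ∀ (g : M) (x : X), ((π' g • x : X) : Pt F) = (g : GL (Fin 5) F) • (x : Pt F) := fun g x => rfl
  haveI : MulAction.IsPretransitive D X := ⟨fun x y => by
    obtain ⟨g, hg⟩ := MulAction.exists_smul_eq M x y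
    exact ⟨π' g, hg⟩⟩
  haveI : Finite X := Subtype.finite
  haveI := Fintype.ofFinite D
  -- the cyclic subgroup
  let P : Subgroup D := Subgroup.zpowers (π' c')
  haveI := Fintype.ofFinite P
  have hPmem : ∀ u ∈ P, ∃ i : ℕ, u = π' (c' ^ i) := fun u hu => by
    obtain ⟨i, hi⟩ := mem_powers_iff_mem_zpowers.2 hu
    exact ⟨i, by rw [map_pow]; exact hi.symm⟩
  have hpow1 : ∀ i : ℕ, π' (c' ^ i) = 1 ↔ N ∣ i := fun i => by rw [hker', hc'v, hsc]
  have hPcard : Nat.card P = N := by
    rw [Nat.card_zpowers]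
    refine Nat.dvd_antisymm (orderOf_dvd_of_pow_eq_one ?_) ((hpow1 _).1 ?_)
    · rw [← map_pow, hpow1]
    · rw [map_pow, pow_orderOf_eq_one]
  have hP : CC P := by
    refine ⟨fun x hx z hz => ?_, fun u hu hu1 x hxu => ?_⟩
    · obtain ⟨i, rfl⟩ := hPmem x hx
      obtain ⟨j, rfl⟩ := hPmem z hz
      rw [← map_mul, ← map_mul, ← pow_add, ← pow_add, add_comm]
    obtain ⟨i, rfl⟩ := hPmem u hu
    obtain ⟨g, rfl⟩ := hπ'surj x
    rw [Ne, hpow1] at hu1
    obtain ⟨b, hb⟩ := (hker' (g * c' ^ i * (c' ^ i * g)⁻¹)).1 (by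
      rw [map_mul, map_inv, map_mul, map_mul, hxu, mul_inv_cancel])
    obtain ⟨j, hj⟩ := S.mem_of_commute_scalar (hM g.2) (i := i) (by rw [← hq, ← hN]; exact hu1) (b := b) (by
      have e : ((g * c' ^ i : M) : GL (Fin 5) F) =
          ((g * c' ^ i * (c' ^ i * g)⁻¹ : M) : GL (Fin 5) F) * ((c' ^ i * g : M) : GL (Fin 5) F) := by
        rw [← Subgroup.coe_mul, inv_mul_cancel_right]
      have e' := congrArg Units.val e
      rw [Units.val_mul _ ((c' ^ i * g : M) : GL (Fin 5) F), hb, smul_mul_assoc, one_mul, Subgroup.coe_mul,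
        Subgroup.coe_mul, hc'v] at e'
      exact e')
    rw [show g = c' ^ j from Subtype.ext (by rw [hc'v]; exact hj), map_pow]
    exact Subgroup.pow_mem _ (Subgroup.mem_zpowers _) j
  have hsemi : ∀ u ∈ P, ∀ b : X, u • b = b → u = 1 := fun u hu b hb => by
    obtain ⟨i, rfl⟩ := hPmem u hu
    rw [hpow1, hN, hq]
    refine S.scalar_of_fix (x := (b : Pt F)) ?_
    have h := congrArg Subtype.val hb
    rw [hact, hc'v] at h
    exact h
  -- the normaliser
  have hnormP : P.relIndex (Subgroup.normalizer (P : Set D)) ≤ 5 := by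
    have hmem : ∀ x ∈ Subgroup.normalizer (P : Set D), ∃ g : M, π' g = x ∧
        (g : GL (Fin 5) F) ∈ subalgebraNormalizer K := by
      intro x hx
      obtain ⟨g, rfl⟩ := hπ'surj x
      refine ⟨g, rfl, ?_⟩
      obtain ⟨i, hi⟩ := hPmem _ ((Subgroup.mem_normalizer_iff.1 hx (π' c')).1 (Subgroup.mem_zpowers _))
      obtain ⟨b, hb⟩ := (hker' (g * c' * g⁻¹ * (c' ^ i)⁻¹)).1 (by
        rw [map_mul, map_inv, map_mul, map_mul, map_inv, hi, mul_inv_cancel])
      refine mem_normalizer Nat.prime_five S.hK S.c_field S.c_ns ?_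
      have e : ((g * c' * g⁻¹ : M) : GL (Fin 5) F) =
          ((g * c' * g⁻¹ * (c' ^ i)⁻¹ : M) : GL (Fin 5) F) * ((c' ^ i : M) : GL (Fin 5) F) := by
        rw [← Subgroup.coe_mul, inv_mul_cancel_right]
      have e' := congrArg Units.val e
      rw [Units.val_mul _ ((c' ^ i : M) : GL (Fin 5) F), hb, smul_mul_assoc, one_mul, hc'v, Subgroup.coe_mul,
        Subgroup.coe_mul, Subgroup.coe_inv, hc', Units.val_mul, Units.val_mul] at e'
      rw [e']
      exact K.smul_mem (S.pow_field i) b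
    have hcount : Nat.card (Subgroup.normalizer (P : Set D)) ≤ 5 * N := by
      have hyM : S.y ∈ M := hNM S.y_mem
      let f : Fin 5 × Fin N → D := fun z => π' (c' ^ (z.2 : ℕ) * (⟨S.y, hyM⟩ : M) ^ (z.1 : ℕ))
      have hsub : ∀ x : Subgroup.normalizer (P : Set D), ∃ z, f z = x := by
        intro x
        obtain ⟨g, hg, hgN⟩ := hmem x x.2
        obtain ⟨i, hi, he⟩ := S.norm _ hgN
        have hy' : ∀ j : ℕ, (S.y ^ j)⁻¹ * S.c * S.y ^ j = S.c ^ q ^ j := fun j => by
          induction j with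
          | zero => simp
          | succ j ih =>
            calc (S.y ^ (j + 1))⁻¹ * S.c * S.y ^ (j + 1) = S.y⁻¹ * ((S.y ^ j)⁻¹ * S.c * S.y ^ j) * S.y := by
                  rw [pow_succ]; group
              _ = (S.y⁻¹ * S.c * S.y) ^ (q ^ j) := by
                rw [ih]
                have := conj_pow (a := S.y⁻¹) (b := S.c) (i := q ^ j)
                rw [inv_inv] at this
                exact this.symm
              _ = S.c ^ q ^ (j + 1) := by rw [S.conj, ← hq, ← pow_mul, pow_succ']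
        have hcomm : ((g : GL (Fin 5) F) * (S.y ^ i)⁻¹) * S.c = S.c * ((g : GL (Fin 5) F) * (S.y ^ i)⁻¹) := by
          calc (g : GL (Fin 5) F) * (S.y ^ i)⁻¹ * S.c
              = (g : GL (Fin 5) F) * ((S.y ^ i)⁻¹ * S.c * S.y ^ i) * (S.y ^ i)⁻¹ := by group
            _ = (g : GL (Fin 5) F) * ((g : GL (Fin 5) F)⁻¹ * S.c * g) * (S.y ^ i)⁻¹ := by rw [hy', hq, he]
            _ = _ := by group
        obtain ⟨j, hj⟩ := S.gen _ (mul_mem (hM g.2) (inv_mem (Subgroup.pow_mem _ S.y_mem.2 i)))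
          (mem_of_commute Nat.prime_five S.hK S.c_field S.c_ns (by rw [← Units.val_mul, hcomm, Units.val_mul]))
        refine ⟨(⟨i, hi⟩, ⟨j % N, Nat.mod_lt _ (by omega)⟩), ?_⟩
        have hg' : g = c' ^ j * (⟨S.y, hyM⟩ : M) ^ i := Subtype.ext (by
          rw [Subgroup.coe_mul, hc'v, SubmonoidClass.coe_pow, ← hj, inv_mul_cancel_right])
        show π' (c' ^ (j % N) * (⟨S.y, hyM⟩ : M) ^ i) = x
        rw [← hg, hg', map_mul, map_mul]
        congr 1
        conv_rhs => rw [← Nat.mod_add_div j N, pow_add, map_mul, (hpow1 (N * (j / N))).2 (dvd_mul_right _ _), mul_one]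
      choose z hz using hsub
      refine (Nat.card_le_card_of_injective z fun a b e => Subtype.ext (by rw [← hz a, ← hz b, e])).trans ?_
      rw [Nat.card_prod, Nat.card_fin, Nat.card_fin]
    have h2 := Subgroup.relIndex_mul_relIndex ⊥ P (Subgroup.normalizer (P : Set D)) bot_le Subgroup.le_normalizer
    rw [Subgroup.relIndex_bot_left, Subgroup.relIndex_bot_left, hPcard] at h2
    rw [← h2, mul_comm 5] at hcount
    exact Nat.le_of_mul_le_mul_left hcount (by omega)
  -- the orbit count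
  obtain ⟨s, hs⟩ : N ∣ Nat.card X :=
    hPcard ▸ ThreeDim.SingTv.free_dvd (fun (u : P) (b : X) => (u : D) • b) (fun b => one_smul _ b)
      (fun u v b => mul_smul (u : D) v b) fun u b h => Subtype.ext (hsemi u u.2 b h)
  have hXle : Nat.card X ≤ phi5 q := by rw [hq, ← card_pt]; exact Nat.card_le_card_of_injective _ Subtype.val_injective
  have hs0 : 0 < s := by
    refine Nat.pos_of_ne_zero fun e => ?_
    rw [e, mul_zero] at hs
    haveI : Nonempty X := ⟨⟨x₀, MulAction.mem_orbit_self _⟩⟩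
    exact Nat.card_pos.ne' hs
  have hsd : s ≤ d := by
    rw [hs, ← hdN, mul_comm d] at hXle
    exact Nat.le_of_mul_le_mul_left hXle (by omega)
  have hd5 : d = 5 ∧ q % 5 = 1 ∨ d = 1 := by rw [hd, dd]; split_ifs with h <;> simp [h]
  have hbig : (2 * s + 2) * P.relIndex (Subgroup.normalizer (P : Set D)) ≤ Nat.card P - 1 := by
    rw [hPcard]
    refine (Nat.mul_le_mul_left _ hnormP).trans ?_
    rcases hd5 with ⟨e, e'⟩ | e
    · have := hN30.2 e'; omega
    · omega
  -- two-transitivity from the orbit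
  have hfull : s = d → MulAction.IsMultiplyPretransitive D X 2 → MulAction.IsMultiplyPretransitive M (Pt F) 2 := by
    intro hsd' h2
    have hall : ∀ x : Pt F, x ∈ X := by
      have : Set.range (Subtype.val : X → Pt F) = Set.univ :=
        Set.eq_of_subset_of_ncard_le (Set.subset_univ _) (by
          rw [Set.ncard_univ, Set.ncard_range_of_injective Subtype.val_injective, card_pt, ← hq, hs, hsd', ← hdN, mul_comm])
          (Set.toFinite _)
      intro x
      obtain ⟨b, hb⟩ := this.ge (Set.mem_univ x)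
      exact hb ▸ b.2
    rw [MulAction.is_two_pretransitive_iff] at h2 ⊢
    intro a b c e hab hce
    obtain ⟨u, hu1, hu2⟩ := @h2 ⟨a, hall a⟩ ⟨b, hall b⟩ ⟨c, hall c⟩ ⟨e, hall e⟩
      (fun h => hab (congrArg Subtype.val h)) (fun h => hce (congrArg Subtype.val h))
    obtain ⟨g, rfl⟩ := hπ'surj u
    exact ⟨g, congrArg Subtype.val hu1, congrArg Subtype.val hu2⟩
  rcases hP.semiregular_cases hs0 (X := X) (by rw [hs, hPcard, mul_comm]) hsemi (by omega)
      (le_trans (Nat.mul_le_mul hnormP (Nat.sub_le_sub_right hnormP 1)) (by omega)) hbig with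
    ⟨χ, a, b, hb1, hba, has, hdeg, h2⟩ | ⟨Z, hZn, hZP, hZc⟩
  · right
    by_cases h5 : a = d ∧ b = 1
    · have : s = d := by omega
      exact hfull this (h2 (by omega) h5.2)
    exfalso
    rcases hd5 with ⟨e, e'⟩ | e
    swap
    · omega
    rw [hPcard, hN] at hdeg
    have hdvd : a * cyc q - b ∣ ordSL q := by
      refine (CfsgLib.Char.degree_dvd_card χ hdeg).trans ((Subgroup.card_dvd_of_surjective π' hπ'surj).trans ?_)
      rw [hq, ← card_SL]
      exact Subgroup.card_dvd_of_le hM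
    obtain ⟨p, hchar⟩ := CharP.exists F
    obtain ⟨⟨f, hf⟩, hp, hpq⟩ := FiniteField.card F p
    rw [PNat.mk_coe] at hpq
    have hpq' : q = p ^ f := hq.trans hpq
    rw [hpq'] at e' hdvd
    exact degree_not_dvd hp hf e' (by omega) hb1 hba (fun h => h5 ⟨by omega, h.2⟩) hdvd
  left
  -- the normal subgroup is trivial
  have hZ1 : Z = ⊥ := by
    by_contra hne
    haveI := Fintype.ofFinite Z
    obtain ⟨u, hu⟩ : ∃ u, u = π' (c' ^ i₀) := ⟨_, rfl⟩
    have huP : u ∈ P := by rw [hu, map_pow]; exact Subgroup.pow_mem _ (Subgroup.mem_zpowers _) _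
    have hu1 : u ≠ 1 := by rw [hu, Ne, hpow1]; exact hins
    -- the order is prime to the cyclic group
    have hcop : N ∣ Nat.card Z - 1 := by
      have h := ThreeDim.SingTv.free_dvd_finset (G := P) ((Finset.univ.filter fun g : D => g ∈ Z).erase 1)
        (fun t x => (t : D) * x * (t : D)⁻¹)
        (fun t x hx => by
          simp only [Finset.mem_erase, Finset.mem_filter, Finset.mem_univ, true_and] at hx ⊢
          exact ⟨fun e => hx.1 (mul_left_cancel (a := (t : D)) (mul_right_cancel (b := (t : D)⁻¹) (by rw [e]; group))),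
            hZn.conj_mem x hx.2 t⟩)
        (fun x => by simp) (fun t t' x => by simp [mul_assoc])
        (fun t x hx e => by
          simp only [Finset.mem_erase, Finset.mem_filter, Finset.mem_univ, true_and] at hx
          by_contra ht
          exact hx.1 (hZP x hx.2 (hP.cent t t.2 (fun h => ht (Subtype.ext h)) x
            (mul_inv_eq_iff_eq_mul.1 e).symm)))
      rwa [hPcard, Finset.card_erase_of_mem (by simp), ← Fintype.card_subtype, ← Nat.card_eq_fintype_card] at h
    have hZpos : 0 < Nat.card Z := Nat.card_pos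
    have hcopN : Nat.Coprime (Nat.card Z) N := by
      refine Nat.coprime_of_dvd fun k hk h1 h2 => hk.not_dvd_one ?_
      have := Nat.dvd_sub h1 (h2.trans hcop)
      rwa [show Nat.card Z - (Nat.card Z - 1) = 1 by omega] at this
    obtain ⟨r, hr, hrZ⟩ := Nat.exists_prime_and_dvd (show Nat.card Z ≠ 1 from fun e => hne (Subgroup.card_eq_one.1 e))
    haveI := Fact.mk hr
    haveI := Fact.mk hl
    -- a Sylow subgroup fixed by the element of prime order
    letI : MulDistribMulAction D Z := MulDistribMulAction.compHom Z (MulAut.conjNormal (H := Z))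
    let U : Subgroup D := Subgroup.zpowers u
    have hUl : Nat.card U = l := by
      rw [Nat.card_zpowers, hu]
      refine ((Nat.dvd_prime hl).1 (orderOf_dvd_of_pow_eq_one ?_)).resolve_left
        (fun e => hins ((hpow1 _).1 (orderOf_eq_one_iff.1 e)))
      rw [← map_pow, ← pow_mul, hpow1]
      exact ⟨d, by rw [mul_comm N, hdN, hi₀, mul_comm]⟩
    have hUp : IsPGroup l U := IsPGroup.of_card (n := 1) (by rw [hUl, pow_one])
    obtain ⟨R, hR⟩ := hUp.nonempty_fixed_point_of_prime_not_dvd_card (Sylow r Z) (fun h => by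
      have h1 : l ∣ Nat.card Z := h.trans (Sylow.card_dvd_index (default : Sylow r Z) |>.trans
        (Subgroup.index_dvd_card _))
      exact hl.not_dvd_one (hcopN ▸ Nat.dvd_gcd h1 hlN))
    let H : Subgroup D := ((Subgroup.center (R : Subgroup Z)).map (R : Subgroup Z).subtype).map Z.subtype
    have hHmem : ∀ x, x ∈ H ↔ ∃ z ∈ (R : Subgroup Z), (z : D) = x ∧ ∀ w ∈ (R : Subgroup Z), w * z = z * w := by
      intro x
      refine ⟨?_, fun ⟨z, hz, hzx, hzc⟩ => ⟨z, ⟨⟨z, hz⟩, Subgroup.mem_center_iff.2 fun w =>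
        Subtype.ext (hzc w w.2), rfl⟩, hzx⟩⟩
      rintro ⟨z, ⟨⟨z', hz'⟩, hc, rfl⟩, rfl⟩
      exact ⟨z', hz', rfl, fun w hw => congrArg Subtype.val (Subgroup.mem_center_iff.1 hc ⟨w, hw⟩)⟩
    have hHbot : H ≠ ⊥ := by
      intro e
      haveI : Nontrivial (R : Subgroup Z) := by
        rw [← Finite.one_lt_card_iff_nontrivial]
        exact lt_of_lt_of_le hr.one_lt (Nat.le_of_dvd Nat.card_pos (R.dvd_card_of_dvd_card hrZ))
      haveI := R.2.center_nontrivial
      obtain ⟨z, hz⟩ := exists_ne (1 : Subgroup.center (R : Subgroup Z))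
      refine hz (Subtype.ext (Subtype.ext (Subtype.ext ?_)))
      have : (((z : (R : Subgroup Z)) : Z) : D) ∈ H := ⟨_, ⟨_, z.2, rfl⟩, rfl⟩
      rwa [e, Subgroup.mem_bot] at this
    refine hHbot (S.trivial_of_small hM π' hπ'surj hker' hl hl7 huo
      (by rw [← hq, ← hN]; exact hins) (Subgroup.pow_mem _ hcM i₀) hr H ?_ ?_ ?_ ?_ x₀ ?_)
    · exact ((R.2.to_subgroup _).map _).map _
    · intro a ha b hb
      obtain ⟨z, hz, rfl, hzc⟩ := (hHmem a).1 ha
      obtain ⟨w, hw, rfl, -⟩ := (hHmem b).1 hb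
      rw [← Subgroup.coe_mul, ← Subgroup.coe_mul, hzc w hw]
    · intro a ha
      obtain ⟨z, hz, rfl, hzc⟩ := (hHmem a).1 ha
      have hue : π' ⟨S.c ^ i₀, Subgroup.pow_mem _ hcM i₀⟩ = u := by
        rw [hu]; exact congrArg π' (Subtype.ext (hc'v i₀).symm)
      rw [hue]
      have hstab : ∀ w : Z, w ∈ (R : Subgroup Z) ↔ MulAut.conjNormal (u : D) w ∈ (R : Subgroup Z) := by
        intro w
        have hh : (⟨u, Subgroup.mem_zpowers u⟩ : U) • R = R := hR ⟨u, Subgroup.mem_zpowers u⟩
        conv_rhs => rw [← hh]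
        exact (Subgroup.smul_mem_pointwise_smul_iff (a := u) (S := (R : Subgroup Z)) (x := w)).symm
      refine (hHmem _).2 ⟨MulAut.conjNormal u z, (hstab z).1 hz, MulAut.conjNormal_apply u z, fun w hw => ?_⟩
      obtain ⟨w', rfl⟩ := (MulAut.conjNormal (H := Z) u).surjective w
      rw [← map_mul, ← map_mul, hzc w' ((hstab w').2 hw)]
    · intro a ha hcm
      obtain ⟨z, hz, rfl, -⟩ := (hHmem a).1 ha
      refine hZP _ z.2 (hP.cent u huP hu1 _ ?_)
      rw [show u = π' ⟨S.c ^ i₀, Subgroup.pow_mem _ hcM i₀⟩ by rw [hu]; exact congrArg π' (Subtype.ext (hc'v i₀))]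
      exact hcm.symm
    · intro T hT
      -- the orbit of the normal subgroup has length dividing the number of cycles
      let b₀ : X := ⟨x₀, MulAction.mem_orbit_self _⟩
      have hbound : (MulAction.stabilizer D b₀).relIndex Z ≤ 5 := by
        have h1 : (MulAction.stabilizer D b₀).relIndex Z ∣ Nat.card Z := Subgroup.relIndex_dvd_card _ _
        have h2 : (MulAction.stabilizer D b₀).relIndex Z ∣ N * s := by
          haveI := hZn
          have hsup : (MulAction.stabilizer D b₀).relIndex (MulAction.stabilizer D b₀ ⊔ Z) =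
              (MulAction.stabilizer D b₀).relIndex Z := by
            obtain ⟨St, hSt⟩ : ∃ St, St = MulAction.stabilizer D b₀ := ⟨_, rfl⟩
            rw [← hSt]
            have hb : ∀ A B : Subgroup D, A.relIndex B * Nat.card (A ⊓ B : Subgroup D) = Nat.card B := fun A B => by
              rw [← Subgroup.inf_relIndex_right, mul_comm, ← Subgroup.relIndex_bot_left (A ⊓ B),
                Subgroup.relIndex_mul_relIndex _ _ _ bot_le inf_le_right, Subgroup.relIndex_bot_left]
            have e1 := hb St (St ⊔ Z)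
            rw [inf_of_le_left le_sup_left] at e1
            have e2 := hb Z (St ⊔ Z)
            rw [Subgroup.relIndex_sup_right St Z, inf_of_le_left le_sup_right] at e2
            have e3 := hb Z St
            have e4 := hb St Z
            rw [inf_comm Z St] at e3
            refine Nat.eq_of_mul_eq_mul_right (Nat.card_pos (α := St)) ?_
            rw [e1, ← e2, ← e3, ← e4]
            ring
          rw [← hs, ← MulAction.index_stabilizer_of_transitive D b₀, ← hsup,
            ← Subgroup.relIndex_mul_index (H := MulAction.stabilizer D b₀) (K := MulAction.stabilizer D b₀ ⊔ Z) le_sup_left]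
          exact dvd_mul_right _ _
        have h3 := Nat.le_of_dvd hs0 ((hcopN.coprime_dvd_left h1).dvd_of_dvd_mul_left h2)
        omega
      refine le_trans ?_ hbound
      have hsub : ∀ x ∈ T.image (fun g : M => (g : GL (Fin 5) F) • x₀), ∃ z : Z, (((z : D) • b₀ : X) : Pt F) = x := by
        intro x hx
        obtain ⟨g, hg, rfl⟩ := Finset.mem_image.1 hx
        obtain ⟨z, hz, hzg, -⟩ := (hHmem _).1 (hT g hg)
        exact ⟨z, by rw [hzg, hact]⟩
      choose z hz using hsub
      rw [Subgroup.relIndex, Subgroup.index, ← Nat.card_eq_finsetCard]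
      refine Nat.card_le_card_of_injective (fun x => (z x.1 x.2 : Z ⧸ (MulAction.stabilizer D b₀).subgroupOf Z))
        fun x x' e => Subtype.ext ?_
      rw [← hz x.1 x.2, ← hz x'.1 x'.2]
      have e' := Subgroup.mem_subgroupOf.1 (QuotientGroup.eq.1 e)
      rw [MulAction.mem_stabilizer_iff, Subgroup.coe_mul, Subgroup.coe_inv, mul_smul, inv_smul_eq_iff] at e'
      rw [e']
  have hPn : P.Normal := by
    refine hP.normal_of_commutator (fun e => ?_) fun x hx y hy => ?_
    · have := Subgroup.card_eq_one.2 e; omega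
    · have := hZc x hx y hy
      rwa [hZ1, Subgroup.mem_bot] at this
  intro g hg
  refine ⟨?_, hM hg⟩
  obtain ⟨i, hi⟩ := hPmem _ (hPn.conj_mem _ (Subgroup.mem_zpowers (π' c')) (π' ⟨g, hg⟩))
  obtain ⟨b, hb⟩ := (hker' (⟨g, hg⟩ * c' * ⟨g, hg⟩⁻¹ * (c' ^ i)⁻¹)).1 (by
    rw [map_mul, map_inv, map_mul, map_mul, map_inv, hi, mul_inv_cancel])
  refine mem_normalizer Nat.prime_five S.hK S.c_field S.c_ns ?_
  have e : ((⟨g, hg⟩ * c' * ⟨g, hg⟩⁻¹ : M) : GL (Fin 5) F) =
      ((⟨g, hg⟩ * c' * ⟨g, hg⟩⁻¹ * (c' ^ i)⁻¹ : M) : GL (Fin 5) F) * ((c' ^ i : M) : GL (Fin 5) F) := by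
    rw [← Subgroup.coe_mul, inv_mul_cancel_right]
  have e' := congrArg Units.val e
  rw [Units.val_mul _ ((c' ^ i : M) : GL (Fin 5) F), hb, smul_mul_assoc, one_mul, hc'v, Subgroup.coe_mul,
    Subgroup.coe_mul, Subgroup.coe_inv, hc', Units.val_mul, Units.val_mul] at e'
  rw [e']
  exact K.smul_mem (S.pow_field i) b

end CfsgLib.Perm.Trans.FiveDim
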