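import Cfsg.Agent.Lib.Perm.Trans.FiveDim.SingerBase

/-!
# No group with small orbits is normalised without fixed points by a Singer element
-/

set_option autoImplicit false
set_option linter.all false

namespace CfsgLib.Perm.Trans.FiveDim

open scoped Classical Matrix LinearAlgebra.Projectivization
open Matrix Cfsg.Geo CfsgLib.Perm.Asch CfsgLib.Perm.Trans CfsgLib.Perm.Trans.SingerNorm

variable {F : Type*} [Field F] [Fintype F] {K : Subalgebra F (Matrix (Fin 5) (Fin 5) F)}

/-- Let `π` be a surjection with scalar kernel from a subgroup of the special linear group, and `H`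
an `r`-group commutative in the image, normalised by an element of large prime order without fixed
points, with an orbit of length at most five on points.  Then `H` is trivial. -/
theorem Sing.trivial_of_small (S : Sing K) {G : Type*} [Group G] [Finite G] {M : Subgroup (GL (Fin 5) F)}
    (hM : M ≤ specialLinear (Fin 5) F) (π : M →* G) (hπ : Function.Surjective π)
    (hker : ∀ g : M, π g = 1 ↔ ∃ a : F, ((g : GL (Fin 5) F) : Matrix (Fin 5) (Fin 5) F) = a • 1)
    {l i : ℕ} (hl : l.Prime) (hl7 : 7 ≤ l) (hu : orderOf (S.c ^ i) = l) (hi : ¬ cyc (Fintype.card F) ∣ i)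
    (huM : S.c ^ i ∈ M) {r : ℕ} (hr : r.Prime) (H : Subgroup G) (hH : IsPGroup r H)
    (hcomm : ∀ a ∈ H, ∀ b ∈ H, a * b = b * a)
    (hnorm : ∀ a ∈ H, π ⟨_, huM⟩ * a * (π ⟨_, huM⟩)⁻¹ ∈ H)
    (hfix : ∀ a ∈ H, π ⟨_, huM⟩ * a = a * π ⟨_, huM⟩ → a = 1)
    (x₀ : Pt F) (horb : ∀ T : Finset M, (∀ g ∈ T, π g ∈ H) → (T.image fun g : M => (g : GL (Fin 5) F) • x₀).card ≤ 5) :
    H = ⊥ := by
  obtain ⟨u, hudef⟩ : ∃ u : M, u = ⟨_, huM⟩ := ⟨_, rfl⟩
  rw [← hudef] at hnorm hfix
  have huK : ((u : GL (Fin 5) F) : Matrix (Fin 5) (Fin 5) F) ∈ K := hudef ▸ S.pow_field i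
  have huns : ∀ a : F, ((u : GL (Fin 5) F) : Matrix (Fin 5) (Fin 5) F) ≠ a • 1 := fun a ha =>
    hi ((S.scalar_iff i).1 ⟨a, by rw [hudef] at ha; exact ha⟩)
  have huo : orderOf (u : GL (Fin 5) F) = l := hudef ▸ hu
  -- lifts
  have hlift : ∀ a b : M, π a ∈ H → π b ∈ H → ∃ w : F, w ^ 5 = 1 ∧
      ((a * b : M) : GL (Fin 5) F).1 = w • ((b * a : M) : GL (Fin 5) F).1 := by
    intro a b ha hb
    obtain ⟨w, hw⟩ := (hker (a * b * (b * a)⁻¹)).1 (by
      rw [map_mul, map_inv, map_mul, map_mul, hcomm _ ha _ hb, mul_inv_cancel])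
    refine ⟨w, five_root (hM (SetLike.coe_mem _)) hw, ?_⟩
    conv_lhs => rw [show a * b = a * b * (b * a)⁻¹ * (b * a) by group]
    rw [Subgroup.coe_mul, Units.val_mul, hw, smul_mul_assoc, one_mul]
  -- commuting lifts are scalar
  have hscal : ∀ s : Set M, (∀ g ∈ s, π g ∈ H) → (∀ g ∈ s, u * g * u⁻¹ ∈ s) →
      (∀ a ∈ s, ∀ b ∈ s, a * b = b * a) → ∀ g ∈ s, π g = 1 := by
    intro s hs hinv hc g hg
    have hgK := mem_of_comm_normalised Nat.prime_five S.hK hl (by omega) huo huK huns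
      (S := (fun g : M => ((g : GL (Fin 5) F) : Matrix (Fin 5) (Fin 5) F)) '' s)
      (by
        rintro _ ⟨a, ha, rfl⟩ _ ⟨b, hb, rfl⟩
        show ((a : GL (Fin 5) F) : Matrix (Fin 5) (Fin 5) F) * _ = _
        rw [← Units.val_mul, ← Units.val_mul, ← Subgroup.coe_mul, ← Subgroup.coe_mul, hc a ha b hb])
      (by
        rintro _ ⟨a, ha, rfl⟩
        refine ⟨u * a * u⁻¹, hinv a ha, ?_⟩
        show (((u * a * u⁻¹ : M) : GL (Fin 5) F) : Matrix (Fin 5) (Fin 5) F) = _
        rw [Subgroup.coe_mul, Subgroup.coe_mul, Subgroup.coe_inv, Units.val_mul, Units.val_mul])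
      _ ⟨g, hg, rfl⟩
    refine hfix _ (hs g hg) ?_
    rw [← map_mul, ← map_mul]
    exact congrArg π (Subtype.ext (Units.ext (by
      rw [Subgroup.coe_mul, Subgroup.coe_mul, Units.val_mul, Units.val_mul]
      exact S.hK.comm _ huK _ hgK)))
  have hπinv : ∀ g : M, π g ∈ H → π (u * g * u⁻¹) ∈ H := fun g hg => by
    rw [map_mul, map_mul, map_inv]; exact hnorm _ hg
  by_contra hne
  obtain ⟨g₀, hg₀, hg₀1⟩ := H.bot_or_exists_ne_one.resolve_left hne
  obtain ⟨g₀, rfl⟩ := hπ g₀
  -- a noncommuting pair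
  obtain ⟨a, b, ha, hb, hab⟩ : ∃ a b : M, π a ∈ H ∧ π b ∈ H ∧ a * b ≠ b * a := by
    by_contra hcon
    push Not at hcon
    exact hg₀1 (hscal {g | π g ∈ H} (fun g hg => hg) hπinv (fun a ha b hb => hcon a b ha hb) g₀ hg₀)
  -- the prime is five
  have hr5 : r = 5 := by
    obtain ⟨w, hw5, hw⟩ := hlift a b ha hb
    have hw1 : w ≠ 1 := fun e => hab (Subtype.ext (Units.ext (by rw [e, one_smul] at hw; exact hw)))
    obtain ⟨k, hk⟩ := hH ⟨π a, ha⟩
    have hk' : π (a ^ r ^ k) = 1 := by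
      rw [map_pow]
      have := congrArg Subtype.val hk
      simpa using this
    obtain ⟨e, he⟩ := (hker _).1 hk'
    obtain ⟨A, hA⟩ : ∃ A, A = ((a : GL (Fin 5) F) : Matrix (Fin 5) (Fin 5) F) := ⟨_, rfl⟩
    obtain ⟨B, hB⟩ : ∃ B, B = ((b : GL (Fin 5) F) : Matrix (Fin 5) (Fin 5) F) := ⟨_, rfl⟩
    rw [Subgroup.coe_mul, Subgroup.coe_mul, Units.val_mul, Units.val_mul, ← hA, ← hB] at hw
    have key : ∀ k : ℕ, A ^ k * B = w ^ k • (B * A ^ k) := fun k => by
      induction k with
      | zero => simp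
      | succ k ih =>
        rw [pow_succ', mul_assoc, ih, mul_smul_comm, ← mul_assoc A, hw, smul_mul_assoc, smul_smul, mul_assoc,
          ← pow_succ', ← pow_succ]
    have h1 := key (r ^ k)
    have hAe : A ^ r ^ k = e • 1 := by rw [hA, ← Units.val_pow_eq_pow_val, ← SubmonoidClass.coe_pow, he]
    rw [hAe, smul_mul_assoc, one_mul, mul_smul_comm, mul_one, smul_smul] at h1
    have he0 : e ≠ 0 := fun e0 => by
      have := five_root (hM (SetLike.coe_mem _)) he
      rw [e0] at this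
      norm_num at this
    have hB0 : B ≠ 0 := hB ▸ Units.ne_zero _
    have h2 : w ^ r ^ k = 1 := mul_right_cancel₀ he0 (by rw [one_mul]; exact (smul_left_injective F hB0 h1).symm)
    by_contra hr5
    have hco : Nat.Coprime 5 (r ^ k) := ((Nat.coprime_primes Nat.prime_five hr).2 (Ne.symm hr5)).pow_right k
    apply hw1
    have h3 : w ^ Nat.gcd 5 (r ^ k) = 1 := pow_gcd_eq_one.2 ⟨hw5, h2⟩
    rwa [hco.gcd_eq_one, pow_one] at h3
  subst hr5
  -- the stabiliser of the point
  let St : Subgroup G := (Subgroup.map π ((MulAction.stabilizer (GL (Fin 5) F) x₀).subgroupOf M)) ⊓ H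
  have hSt : ∀ g : M, π g ∈ St ↔ π g ∈ H ∧ (g : GL (Fin 5) F) • x₀ = x₀ := by
    intro g
    refine ⟨fun ⟨⟨g', hg', e⟩, h2⟩ => ⟨h2, ?_⟩, fun ⟨h1, h2⟩ => ⟨⟨g, h2, rfl⟩, h1⟩⟩
    obtain ⟨w, hw⟩ := (hker (g * g'⁻¹)).1 (by rw [map_mul, map_inv, e, mul_inv_cancel])
    have h3 : ((g * g'⁻¹ : M) : GL (Fin 5) F) • x₀ = x₀ := scalar_fix hw x₀
    have h4 : (g' : GL (Fin 5) F) • x₀ = x₀ := hg'
    rw [Subgroup.coe_mul, Subgroup.coe_inv, mul_smul] at h3
    rwa [inv_smul_eq_iff.2 h4.symm] at h3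
  have hStH : St ≤ H := inf_le_right
  have hStc : ∀ g h : M, π g ∈ St → π h ∈ St → g * h = h * g := by
    intro g h hg hh
    obtain ⟨w, hw5, hw⟩ := hlift g h ((hSt g).1 hg).1 ((hSt h).1 hh).1
    have hgx := ((hSt g).1 hg).2
    have hhx := ((hSt h).1 hh).2
    refine Subtype.ext (Units.ext ?_)
    induction x₀ using Projectivization.ind with
    | _ v hv =>
      obtain ⟨α, hα⟩ := (fix_iff hv).1 hgx
      obtain ⟨β, hβ⟩ := (fix_iff hv).1 hhx
      have h1 := congrArg (fun A : Matrix (Fin 5) (Fin 5) F => A *ᵥ v) hw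
      simp only [Subgroup.coe_mul, Units.val_mul, ← mulVec_mulVec, smul_mulVec, hα, hβ, mulVec_smul, smul_smul] at h1
      have h0 : α * β ≠ 0 := by
        have hα0 : α ≠ 0 := fun e => hv (gl_mulVec_eq_zero.1 (by rw [hα, e, zero_smul]))
        have hβ0 : β ≠ 0 := fun e => hv (gl_mulVec_eq_zero.1 (by rw [hβ, e, zero_smul]))
        exact mul_ne_zero hα0 hβ0
      have h2 : β * α = w * (α * β) := smul_left_injective F hv h1
      rw [mul_comm β α] at h2
      rw [mul_left_eq_self₀.1 h2.symm |>.resolve_right h0, one_smul] at hw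
      exact hw
  -- its index
  have hidx : St.relIndex H ≤ 5 ∧ St.relIndex H ∣ Nat.card H := by
    refine ⟨?_, Subgroup.relIndex_dvd_card St H⟩
    haveI : Finite M := Subtype.finite
    haveI := Fintype.ofFinite M
    refine le_trans ?_ (horb (Finset.univ.filter fun g : M => π g ∈ H) (fun g hg => (Finset.mem_filter.1 hg).2))
    rw [Subgroup.relIndex, Subgroup.index, ← Nat.card_eq_finsetCard]
    refine Nat.card_le_card_of_injective (fun z => ⟨(hπ (z.out : H).1).choose • x₀, ?_⟩) ?_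
    · refine Finset.mem_image.2 ⟨_, Finset.mem_filter.2 ⟨Finset.mem_univ _, ?_⟩, rfl⟩
      rw [(hπ (z.out : H).1).choose_spec]
      exact (z.out : H).2
    · intro z z' hzz
      have e : (hπ (z.out : H).1).choose • x₀ = (hπ (z'.out : H).1).choose • x₀ := congrArg Subtype.val hzz
      rw [← QuotientGroup.out_eq' z, ← QuotientGroup.out_eq' z', QuotientGroup.eq, Subgroup.mem_subgroupOf]
      have e2 : π (((hπ (z.out : H).1).choose)⁻¹ * (hπ (z'.out : H).1).choose) ∈ St := (hSt _).2 ⟨by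
        rw [map_mul, map_inv, (hπ _).choose_spec, (hπ _).choose_spec]
        exact H.mul_mem (H.inv_mem (SetLike.coe_mem _)) (SetLike.coe_mem _), by
        rw [Subgroup.coe_mul, Subgroup.coe_inv, mul_smul, inv_smul_eq_iff]
        exact e.symm⟩
      rwa [map_mul, map_inv, (hπ _).choose_spec, (hπ _).choose_spec] at e2
  haveI : Fact (Nat.Prime 5) := ⟨Nat.prime_five⟩
  obtain ⟨k, hk⟩ := (IsPGroup.iff_card (p := 5)).1 hH
  have hidx5 : St.relIndex H = 5 := by
    obtain ⟨j, -, hj⟩ := (Nat.dvd_prime_pow Nat.prime_five).1 (hk ▸ hidx.2)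
    rcases j with _ | _ | j
    · exfalso
      rw [pow_zero, Subgroup.relIndex_eq_one] at hj
      exact hab (hStc a b (hj ha) (hj hb))
    · simpa using hj
    · exfalso
      have := hidx.1
      rw [hj, pow_add] at this
      have : 1 ≤ 5 ^ j := Nat.one_le_pow _ _ (by norm_num)
      omega
  obtain ⟨a₁, ha₁, ha₁'⟩ : ∃ a₁ : M, π a₁ ∈ H ∧ π a₁ ∉ St := by
    by_contra hcon
    push Not at hcon
    exact hab (hStc a b (hcon a ha) (hcon b hb))
  -- generation
  have hgen : ∀ g ∈ H, ∃ s ∈ St, ∃ k : ℕ, g = s * π a₁ ^ k := by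
    intro g hg
    haveI : (St.subgroupOf H).Normal := ⟨fun x hx y => by
      have : y * x * y⁻¹ = x := Subtype.ext (by
        simp only [Subgroup.coe_mul, Subgroup.coe_inv]
        rw [hcomm _ y.2 _ x.2, mul_inv_cancel_right])
      rwa [this]⟩
    have hcardq : Nat.card (H ⧸ St.subgroupOf H) = 5 := hidx5
    have hne1 : ((⟨π a₁, ha₁⟩ : H) : H ⧸ St.subgroupOf H) ≠ 1 := fun e =>
      ha₁' (Subgroup.mem_subgroupOf.1 ((QuotientGroup.eq_one_iff _).1 e))
    haveI : Fact (Nat.Prime 5) := ⟨Nat.prime_five⟩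
    obtain ⟨k, hk⟩ := mem_powers_iff_mem_zpowers.2
      (mem_zpowers_of_prime_card (g' := ((⟨g, hg⟩ : H) : H ⧸ St.subgroupOf H)) hcardq hne1)
    simp only at hk
    rw [← QuotientGroup.mk_pow, QuotientGroup.eq, Subgroup.mem_subgroupOf] at hk
    simp only [Subgroup.coe_mul, Subgroup.coe_inv, SubmonoidClass.coe_pow] at hk
    refine ⟨_, hk, k, ?_⟩
    rw [hcomm _ (hStH hk) _ (H.pow_mem ha₁ k)]
    group
  -- elements of the stabiliser commuting with the outside element are scalar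
  have hZ : ∀ g : M, π g ∈ St → g * a₁ = a₁ * g → π g = 1 := by
    intro g hg hga
    refine hscal {z | π z ∈ H ∧ ∀ h : M, π h ∈ H → z * h = h * z} (fun z hz => hz.1)
      (fun z hz => ⟨hπinv z hz.1, fun h hh => ?_⟩) (fun z hz z' hz' => hz.2 z' hz'.1) g ⟨hStH hg, fun h hh => ?_⟩
    · have h' : π (u⁻¹ * h * u) ∈ H := by
        have hbij : Function.Bijective fun x : H => (⟨π u * x * (π u)⁻¹, hnorm x x.2⟩ : H) :=
          Finite.injective_iff_bijective.1 fun x y e =>
            Subtype.ext (mul_left_cancel (mul_right_cancel (congrArg Subtype.val e)))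
        obtain ⟨x, hx⟩ := hbij.2 ⟨π h, hh⟩
        have hx' : π u * x * (π u)⁻¹ = π h := congrArg Subtype.val hx
        rw [map_mul, map_mul, map_inv, ← hx']
        simp [mul_assoc]
      have := hz.2 _ h'
      calc u * z * u⁻¹ * h = u * (z * (u⁻¹ * h * u)) * u⁻¹ := by group
        _ = u * ((u⁻¹ * h * u) * z) * u⁻¹ := by rw [this]
        _ = h * (u * z * u⁻¹) := by group
    · obtain ⟨s, hs, k, hk⟩ := hgen _ hh
      obtain ⟨s', rfl⟩ := hπ s
      obtain ⟨w, hw⟩ := (hker (h * (s' * a₁ ^ k)⁻¹)).1 (by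
        rw [map_mul, map_inv, map_mul, map_pow, hk, mul_inv_cancel])
      have e1 : h = (h * (s' * a₁ ^ k)⁻¹) * (s' * a₁ ^ k) := by group
      have hz : Commute g (h * (s' * a₁ ^ k)⁻¹) := Subtype.ext (Units.ext (by
        simp only [Subgroup.coe_mul, Units.val_mul] at hw ⊢
        rw [hw, mul_smul_comm, mul_one, smul_mul_assoc, one_mul]))
      have hs' : Commute g s' := hStc g s' hg hs
      rw [e1]
      exact hz.mul_right (hs'.mul_right ((show Commute g a₁ from hga).pow_right k))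
  -- the stabiliser has at most five elements
  have hStcard : Nat.card St ≤ 5 := by
    have hw : ∀ s : St, ∃ w : F, w ^ 5 = 1 ∧ ∀ g : M, π g = s →
        ((g * a₁ : M) : GL (Fin 5) F).1 = w • ((a₁ * g : M) : GL (Fin 5) F).1 := by
      intro s
      obtain ⟨g, hg⟩ := hπ s
      obtain ⟨w, hw5, hw⟩ := hlift g a₁ (hg ▸ hStH s.2) ha₁
      refine ⟨w, hw5, fun g' hg' => ?_⟩
      obtain ⟨e, he⟩ := (hker (g' * g⁻¹)).1 (by rw [map_mul, map_inv, hg, hg', mul_inv_cancel])
      have e1 : g' = g' * g⁻¹ * g := by group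
      rw [e1]
      simp only [Subgroup.coe_mul, Units.val_mul] at hw he ⊢
      rw [he]
      simp only [smul_mul_assoc, mul_smul_comm, one_mul]
      rw [hw, smul_comm]
    choose w hw5 hw using hw
    have hinj : Function.Injective w := by
      intro s t hst
      obtain ⟨g, hg⟩ := hπ s
      obtain ⟨h, hh⟩ := hπ t
      have h1 := hw s g hg
      have h2 := hw t h hh
      rw [hst] at h1
      have hgh : π (g * h⁻¹) = 1 := by
        refine hZ _ ?_ ?_
        · rw [map_mul, map_inv, hg, hh]; exact St.mul_mem s.2 (St.inv_mem t.2)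
        · refine mul_right_cancel (b := h) (Subtype.ext (Units.ext ?_))
          have e1 : g * h⁻¹ * a₁ * h = g * (h⁻¹ * (a₁ * h)) := by group
          have e2 : a₁ * (g * h⁻¹) * h = a₁ * g := by group
          rw [e1, e2]
          have hw0 : w t ≠ 0 := fun e => by
            have := hw5 t
            rw [e] at this
            norm_num at this
          have e3 : ((a₁ * h : M) : GL (Fin 5) F).1 = (w t)⁻¹ • ((h * a₁ : M) : GL (Fin 5) F).1 := by
            rw [h2, smul_smul, inv_mul_cancel₀ hw0, one_smul]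
          rw [Subgroup.coe_mul, Units.val_mul, Subgroup.coe_mul, Units.val_mul, e3]
          simp only [Subgroup.coe_mul, Units.val_mul, mul_smul_comm] at h1 ⊢
          rw [← mul_assoc ((h⁻¹ : M) : GL (Fin 5) F).1, ← Units.val_mul, ← Subgroup.coe_mul, inv_mul_cancel,
            OneMemClass.coe_one, Units.val_one, one_mul, h1, smul_smul, inv_mul_cancel₀ hw0, one_smul]
      rw [map_mul, map_inv, hg, hh, mul_inv_eq_one] at hgh
      exact Subtype.ext hgh
    refine (Nat.card_le_card_of_injective (fun s => (⟨w s, hw5 s⟩ : {x : F // x ^ 5 = 1})) fun s t e =>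
      hinj (congrArg Subtype.val e)).trans ?_
    rw [Nat.card_eq_fintype_card, Fintype.card_subtype]
    refine (Finset.card_le_card (t := (Polynomial.nthRoots 5 (1 : F)).toFinset) fun s hs => ?_).trans
      ((Multiset.toFinset_card_le _).trans (Polynomial.card_nthRoots 5 1))
    rw [Multiset.mem_toFinset, Polynomial.mem_nthRoots (by norm_num)]
    exact (Finset.mem_filter.1 hs).2
  have hHcard : Nat.card H ≤ 25 ∧ 5 ∣ Nat.card H := by
    have h := Subgroup.card_mul_index (St.subgroupOf H)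
    rw [show (St.subgroupOf H).index = 5 from hidx5,
      Nat.card_congr (Subgroup.subgroupOfEquivOfLe hStH).toEquiv] at h
    exact ⟨by omega, ⟨_, h.symm.trans (mul_comm _ _)⟩⟩
  -- the free action
  obtain ⟨U, hU⟩ : ∃ U : Subgroup G, U = Subgroup.zpowers (π u) := ⟨_, rfl⟩
  have hUl : Nat.card U = l := by
    rw [hU, Nat.card_zpowers]
    refine ((Nat.dvd_prime hl).1 (huo ▸ Subgroup.orderOf_coe u ▸ orderOf_map_dvd π u)).resolve_left ?_
    rw [orderOf_eq_one_iff, hker]
    exact fun ⟨a, ha⟩ => huns a ha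
  have hpown : ∀ k : ℕ, ∀ x ∈ H, π u ^ k * x * (π u ^ k)⁻¹ ∈ H := fun k => by
    induction k with
    | zero => intro x hx; simpa using hx
    | succ k ih =>
      intro x hx
      have := hnorm _ (ih x hx)
      rw [pow_succ', _root_.mul_inv_rev]
      simpa [mul_assoc] using this
  haveI := Fintype.ofFinite G
  haveI := Fintype.ofFinite H
  have hdvd := ThreeDim.SingTv.free_dvd_finset (G := U)
    ((Finset.univ.filter fun g : G => g ∈ H).erase 1) (fun t x => (t : G) * x * (t : G)⁻¹)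
    (fun t x hx => by
      simp only [Finset.mem_erase, Finset.mem_filter, Finset.mem_univ, true_and] at hx ⊢
      refine ⟨fun e => hx.1 (mul_left_cancel (a := (t : G)) (mul_right_cancel (b := (t : G)⁻¹) (by rw [e]; group))), ?_⟩
      obtain ⟨k, hk⟩ := mem_powers_iff_mem_zpowers.2 ((SetLike.ext_iff.1 hU (t : G)).1 t.2)
      rw [← hk]
      exact hpown k x hx.2)
    (fun x => by simp) (fun t t' x => by simp [mul_assoc])
    (fun t x hx e => by
      simp only [Finset.mem_erase, Finset.mem_filter, Finset.mem_univ, true_and] at hx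
      by_contra ht
      refine hx.1 (hfix x hx.2 ?_)
      have hgen' : π u ∈ Subgroup.zpowers (t : G) := by
        haveI := Fact.mk hl
        have h1 : (⟨π u, hU ▸ Subgroup.mem_zpowers _⟩ : U) ∈ Subgroup.zpowers t :=
          mem_zpowers_of_prime_card hUl ht
        obtain ⟨k, hk⟩ := Subgroup.mem_zpowers_iff.1 h1
        exact Subgroup.mem_zpowers_iff.2 ⟨k, congrArg Subtype.val hk⟩
      obtain ⟨k, hk⟩ := Subgroup.mem_zpowers_iff.1 hgen'
      have hc : Commute (t : G) x := mul_inv_eq_iff_eq_mul.1 e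
      rw [← hk]
      exact hc.zpow_left k)
  rw [hUl, Finset.card_erase_of_mem (by simp), ← Fintype.card_subtype, ← Nat.card_eq_fintype_card] at hdvd
  obtain ⟨j, hj⟩ : ∃ j, Nat.card H = 5 ^ j := ⟨k, hk⟩
  have hdvd' : l ∣ Nat.card H - 1 := hdvd
  rw [hj] at hdvd' hHcard
  have hj2 : j = 1 ∨ j = 2 := by
    rcases j with _ | _ | _ | j
    · norm_num at hHcard
    · exact Or.inl rfl
    · exact Or.inr rfl
    · exfalso
      have h125 : 5 ^ 3 ≤ 5 ^ (j + 1 + 1 + 1) := Nat.pow_le_pow_right (by norm_num) (by omega)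
      omega
  rcases hj2 with rfl | rfl
  · have := Nat.le_of_dvd (by norm_num) hdvd'
    omega
  · have h24 : l ∣ 2 ^ 3 * 3 := by simpa using hdvd'
    rcases (Nat.Prime.dvd_mul hl).1 h24 with h | h
    · have := Nat.le_of_dvd (by norm_num) (hl.dvd_of_dvd_pow h)
      omega
    · have := Nat.le_of_dvd (by norm_num) h
      omega

end CfsgLib.Perm.Trans.FiveDim
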