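import Cfsg.Agent.Lib.Perm.Trans.FiveDim.SingerBase
import Cfsg.Agent.Lib.Perm.Trans.SL

/-!
# The point stabiliser and its block on the quotient
-/

set_option autoImplicit false
set_option linter.all false

namespace CfsgLib.Perm.Trans.FiveDim

open scoped Classical Matrix LinearAlgebra.Projectivization
open Matrix Cfsg.Geo CfsgLib.Perm.Asch CfsgLib.Perm.Trans

variable {F : Type*} [Field F]

/-- the first basis vector -/
def e0 : Fin 5 → F := Pi.single 0 1

theorem e0_ne : (e0 : Fin 5 → F) ≠ 0 := by simp [e0]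

/-- the first point -/
def pt0 : Pt F := Projectivization.mk F e0 e0_ne

theorem mulVec_e0 (g : GL (Fin 5) F) (k : Fin 5) :
    ((g : Matrix (Fin 5) (Fin 5) F) *ᵥ e0) k = (g : Matrix (Fin 5) (Fin 5) F) k 0 := by simp [e0]

theorem column_zero {g : GL (Fin 5) F} (hg : g • (pt0 : Pt F) = pt0) (k : Fin 4) :
    (g : Matrix (Fin 5) (Fin 5) F) k.succ 0 = 0 := by
  obtain ⟨a, ha⟩ := (fix_iff e0_ne).1 hg
  rw [← mulVec_e0 g k.succ, ha]
  simp [e0]

theorem mulVec_e0_eq {g : GL (Fin 5) F} (hg : g • (pt0 : Pt F) = pt0) :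
    (g : Matrix (Fin 5) (Fin 5) F) *ᵥ e0 = (g : Matrix (Fin 5) (Fin 5) F) 0 0 • e0 := by
  funext k
  rw [mulVec_e0]
  refine Fin.cases ?_ (fun k' => ?_) k
  · simp [e0]
  · simp [e0, column_zero hg k']

/-- the block of a matrix below and right of the corner -/
def blk (A : Matrix (Fin 5) (Fin 5) F) : Matrix (Fin 4) (Fin 4) F := A.submatrix Fin.succ Fin.succ

/-- the stabiliser of the first point -/
abbrev stab0 (M : Subgroup (GL (Fin 5) F)) : Subgroup (GL (Fin 5) F) := M ⊓ MulAction.stabilizer _ (pt0 : Pt F)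

/-- the action on the quotient -/
def beta (M : Subgroup (GL (Fin 5) F)) : stab0 M →* GL (Fin 4) F :=
  MonoidHom.toHomUnits
    { toFun := fun g => blk ((g : GL (Fin 5) F) : Matrix (Fin 5) (Fin 5) F)
      map_one' := by
        ext i j
        simp [blk, Matrix.one_apply, Fin.succ_inj]
      map_mul' := fun g h => by
        ext i j
        simp only [blk, Subgroup.coe_mul, Units.val_mul, Matrix.submatrix_apply, Matrix.mul_apply]
        rw [Fin.sum_univ_succ, column_zero g.2.2 i, zero_mul, zero_add] }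

theorem beta_val (M : Subgroup (GL (Fin 5) F)) (g : stab0 M) :
    (beta M g : Matrix (Fin 4) (Fin 4) F) = blk ((g : GL (Fin 5) F) : Matrix (Fin 5) (Fin 5) F) := rfl

theorem det_blk {g : GL (Fin 5) F} (hg : g • (pt0 : Pt F) = pt0) :
    (g : Matrix (Fin 5) (Fin 5) F).det =
      (g : Matrix (Fin 5) (Fin 5) F) 0 0 * (blk (g : Matrix (Fin 5) (Fin 5) F)).det := by
  rw [Matrix.det_succ_column_zero, Fin.sum_univ_succ, Finset.sum_eq_zero fun k _ => by
    rw [column_zero hg k, mul_zero, zero_mul]]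
  simp [blk]

theorem corner_mul (M : Subgroup (GL (Fin 5) F)) (hM : M ≤ specialLinear (Fin 5) F) (g : stab0 M) :
    ((g : GL (Fin 5) F) : Matrix (Fin 5) (Fin 5) F) 0 0 * (beta M g : Matrix (Fin 4) (Fin 4) F).det = 1 := by
  rw [beta_val, ← det_blk g.2.2]
  exact SingerNorm.det_one (hM g.2.1)

/-- the functionals vanishing at the first vector, from their other coordinates -/
def ext0 (φ : Fin 4 → F) : Fin 5 → F := Fin.cons 0 φ

theorem ext0_dot (φ : Fin 4 → F) : ext0 φ ⬝ᵥ (e0 : Fin 5 → F) = 0 := by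
  simp [ext0, e0]

theorem ext0_dot_apply (φ : Fin 4 → F) (x : Fin 5 → F) : ext0 φ ⬝ᵥ x = ∑ k : Fin 4, φ k * x k.succ := by
  simp [ext0, dotProduct, Fin.sum_univ_succ]

theorem eq_ext0 {φ : Fin 5 → F} (h : φ ⬝ᵥ (e0 : Fin 5 → F) = 0) : φ = ext0 fun k => φ k.succ := by
  funext k
  refine Fin.cases ?_ (fun k' => ?_) k
  · simpa [ext0, e0] using h
  · simp [ext0]

/-- the transvections with the first vector as centre -/
def A0 (M : Subgroup (GL (Fin 5) F)) : AddSubgroup (Fin 4 → F) where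
  carrier := {φ | Has M e0 (ext0 φ)}
  zero_mem' := by
    show Has M e0 (ext0 0)
    rw [show ext0 (0 : Fin 4 → F) = 0 by funext k; refine Fin.cases ?_ (fun k' => ?_) k <;> simp [ext0]]
    exact has_zero_right _
  add_mem' := fun {a b} ha hb => by
    show Has M e0 (ext0 (a + b))
    rw [show ext0 (a + b) = ext0 a + ext0 b by funext k; refine Fin.cases ?_ (fun k' => ?_) k <;> simp [ext0]]
    exact Has.add_right ha hb
  neg_mem' := fun {a} ha => by
    show Has M e0 (ext0 (-a))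
    rw [show ext0 (-a) = -ext0 a by funext k; refine Fin.cases ?_ (fun k' => ?_) k <;> simp [ext0]]
    exact Has.neg ha

theorem fullC_of_A0 {M : Subgroup (GL (Fin 5) F)} (h : ∀ φ, φ ∈ A0 M) : FullC M (e0 : Fin 5 → F) := by
  intro φ hφ
  rw [eq_ext0 hφ]
  exact h _

theorem beta_ker (M : Subgroup (GL (Fin 5) F)) (hM : M ≤ specialLinear (Fin 5) F) (g : stab0 M) (hg : beta M g = 1) :
    ∃ φ : Fin 4 → F, tv e0 (ext0 φ) (ext0_dot φ) = (g : GL (Fin 5) F) := by
  obtain ⟨A, hA⟩ : ∃ A, A = ((g : GL (Fin 5) F) : Matrix (Fin 5) (Fin 5) F) := ⟨_, rfl⟩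
  have hb : blk A = 1 := by rw [hA, ← beta_val, hg, Units.val_one]
  have h00 : A 0 0 = 1 := by
    have := corner_mul M hM g
    rwa [hg, Units.val_one, Matrix.det_one, mul_one, ← hA] at this
  refine ⟨fun k => A 0 k.succ, gl_ext_vec fun x => ?_⟩
  rw [tv_mulVec, ← hA, ext0_dot_apply]
  funext k
  refine Fin.cases ?_ (fun k' => ?_) k
  · simp [Matrix.mulVec, dotProduct, Fin.sum_univ_succ, e0, h00]
  · have hc : A k'.succ 0 = 0 := hA ▸ column_zero g.2.2 k'
    have hk : ∀ j : Fin 4, A k'.succ j.succ = (1 : Matrix (Fin 4) (Fin 4) F) k' j := fun j => by rw [← hb]; rfl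
    simp only [Pi.add_apply, Pi.smul_apply, e0, Pi.single_apply, Fin.succ_ne_zero, if_false, smul_zero, add_zero,
      Matrix.mulVec, dotProduct]
    rw [Fin.sum_univ_succ (f := fun j => A k'.succ j * x j), hc, zero_mul, zero_add]
    simp [hk, Matrix.one_apply]

/-- the kernel of the block map has the order of the transvection group -/
theorem card_ker (M : Subgroup (GL (Fin 5) F)) (hM : M ≤ specialLinear (Fin 5) F) :
    Nat.card (beta M).ker = Nat.card (A0 M) := by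
  have htvmem : ∀ φ : A0 M, tv e0 (ext0 φ.1) (ext0_dot φ.1) ∈ stab0 M := fun φ => by
    obtain ⟨h, hmem⟩ := φ.2
    refine ⟨hmem, ?_⟩
    refine (fix_iff e0_ne).2 ⟨1, ?_⟩
    rw [tv_mulVec, ext0_dot, zero_smul, add_zero, one_smul]
  have htvker : ∀ φ : A0 M, (⟨_, htvmem φ⟩ : stab0 M) ∈ (beta M).ker := fun φ => by
    refine Units.ext ?_
    rw [beta_val, Units.val_one]
    ext i j
    show ((tv e0 (ext0 φ.1) (ext0_dot φ.1) : GL (Fin 5) F) : Matrix (Fin 5) (Fin 5) F) i.succ j.succ = _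
    rw [tv_coe]
    simp [vecMulVec_apply, e0, Matrix.one_apply, Fin.succ_inj]
  symm
  refine Nat.card_eq_of_bijective (fun φ => (⟨⟨_, htvmem φ⟩, htvker φ⟩ : (beta M).ker)) ⟨?_, ?_⟩
  · intro φ ψ h
    have h1 : tv e0 (ext0 φ.1) (ext0_dot φ.1) = tv e0 (ext0 ψ.1) (ext0_dot ψ.1) :=
      congrArg (fun z : (beta M).ker => ((z : stab0 M) : GL (Fin 5) F)) h
    refine Subtype.ext (funext fun k => ?_)
    have h2 := congrArg (fun g : GL (Fin 5) F => ((g : Matrix (Fin 5) (Fin 5) F) *ᵥ Pi.single k.succ 1) 0) h1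
    simpa [tv_coe, vecMulVec_apply, ext0, e0, Pi.single_apply, (Fin.succ_ne_zero k).symm] using h2
  · rintro ⟨g, hg⟩
    obtain ⟨φ, hφ⟩ := beta_ker M hM g hg
    exact ⟨⟨φ, ⟨ext0_dot φ, hφ ▸ g.2.1⟩⟩, Subtype.ext (Subtype.ext hφ)⟩

theorem card_stab (M : Subgroup (GL (Fin 5) F)) (hM : M ≤ specialLinear (Fin 5) F) :
    Nat.card (stab0 M) = Nat.card (beta M).range * Nat.card (A0 M) := by
  rw [← card_ker M hM, ← Subgroup.index_ker, mul_comm, Subgroup.card_mul_index]

/-- transporting a transvection by an element of the stabiliser -/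
theorem A0_conj {M : Subgroup (GL (Fin 5) F)} (g : stab0 M) {φ : Fin 4 → F} (hφ : φ ∈ A0 M) :
    ((g : GL (Fin 5) F) : Matrix (Fin 5) (Fin 5) F) 0 0 • (φ ᵥ* ((beta M g)⁻¹ : GL (Fin 4) F).1) ∈ A0 M := by
  have h := Has.conj hφ g.2.1
  rw [mulVec_e0_eq g.2.2, has_smul_iff] at h
  show Has M e0 (ext0 _)
  have heq : ext0 (((g : GL (Fin 5) F) : Matrix (Fin 5) (Fin 5) F) 0 0 • (φ ᵥ* ((beta M g)⁻¹ : GL (Fin 4) F).1)) =
      ((g : GL (Fin 5) F) : Matrix (Fin 5) (Fin 5) F) 0 0 •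
        (ext0 φ ᵥ* (((g : GL (Fin 5) F)⁻¹ : GL (Fin 5) F) : Matrix (Fin 5) (Fin 5) F)) := by
    have hinv : (((g : GL (Fin 5) F)⁻¹ : GL (Fin 5) F) : Matrix (Fin 5) (Fin 5) F) =
        (((g⁻¹ : stab0 M) : GL (Fin 5) F) : Matrix (Fin 5) (Fin 5) F) := by rw [Subgroup.coe_inv]
    funext k
    refine Fin.cases ?_ (fun k' => ?_) k
    · rw [hinv]
      simp only [ext0, Fin.cons_zero, Pi.smul_apply, smul_eq_mul, Matrix.vecMul, dotProduct]
      rw [Fin.sum_univ_succ]
      have hc : ∀ x : Fin 4, (((g⁻¹ : stab0 M) : GL (Fin 5) F) : Matrix (Fin 5) (Fin 5) F) x.succ 0 = 0 :=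
        column_zero (g⁻¹ : stab0 M).2.2
      rw [Fin.cons_zero, zero_mul, zero_add, Finset.sum_eq_zero fun x _ => by rw [hc x, mul_zero], mul_zero]
    · rw [← map_inv, beta_val, hinv]
      simp [ext0, Matrix.vecMul, dotProduct, blk, Fin.sum_univ_succ]
  rw [heq]
  exact h

end CfsgLib.Perm.Trans.FiveDim
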